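import Groth.Agent.Hensel1.Noetherian
import Mathlib.RingTheory.Unramified.Finite
import Mathlib.FieldTheory.IsAlgClosed.Basic
import Mathlib.RingTheory.Spectrum.Prime.Topology
import Mathlib.RingTheory.Jacobson.Ring

/-!
# Henselizations of local domains map to algebraically closed extensions
-/

set_option autoImplicit false
set_option linter.style.haveILetI false

universe u

open TensorProduct

namespace Groth.EtPbc.HensEmbed

open Groth.Hensel1

variable {L : Type u} [CommRing L] [IsDomain L] [IsLocalRing L]

/-- The henselization of a local domain maps to algebraically closed fields containing it. -/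
theorem exists_hom (K : Type u) [Field K] [IsAlgClosed K] [Algebra L K]
    (hinj : Function.Injective (algebraMap L K)) :
    Nonempty (Hens L (IsLocalRing.ResidueField L) →ₐ[L] K) := by
  classical
  haveI : Module.FaithfullyFlat L (Hens L (IsLocalRing.ResidueField L)) := Hens.faithfullyFlat
  obtain ⟨P, hP⟩ := PrimeSpectrum.comap_surjective_of_faithfullyFlat
    (A := L) (B := Hens L (IsLocalRing.ResidueField L)) ⟨⊥, Ideal.isPrime_bot⟩
  let O := Hens L (IsLocalRing.ResidueField L)
  let D := O ⧸ P.asIdeal
  let FD := FractionRing D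
  have hLD : Function.Injective (algebraMap L D) := by
    refine (injective_iff_map_eq_zero _).2 fun x hx => ?_
    have h1 : algebraMap L O x ∈ P.asIdeal := Ideal.Quotient.eq_zero_iff_mem.1 hx
    have h2 : x ∈ (⊥ : Ideal L) := by
      rw [← show P.asIdeal.comap (algebraMap L O) = ⊥ from congrArg PrimeSpectrum.asIdeal hP]
      exact h1
    exact (Ideal.mem_bot).1 h2
  haveI : FaithfulSMul L FD := (faithfulSMul_iff_algebraMap_injective L FD).2 (by
    rw [IsScalarTower.algebraMap_eq L D FD]
    exact (IsFractionRing.injective D FD).comp hLD)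
  let FL := FractionRing L
  letI : Algebra FL FD := FractionRing.liftAlgebra L FD
  haveI : FaithfulSMul L K := (faithfulSMul_iff_algebraMap_injective L K).2 hinj
  letI : Algebra FL K := FractionRing.liftAlgebra L K
  let π : O →ₐ[L] FD := (IsScalarTower.toAlgHom L D FD).comp (Ideal.Quotient.mkₐ L P.asIdeal)
  have hint : ∀ x : O, IsIntegral FL (π x) := by
    intro x
    obtain ⟨i, y, rfl⟩ := Hens.exists_of x
    obtain ⟨c, s, rfl⟩ := IsLocalization.exists_mk'_eq i.q.primeCompl y
    let ι : i.P.Ring →ₐ[L] FD := π.comp ((Hens.of i).comp (IsScalarTower.toAlgHom L i.P.Ring i.Obj))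
    haveI : Module.Finite FL (FL ⊗[L] i.P.Ring) := Algebra.FormallyUnramified.finite_of_free FL _
    let τ : (FL ⊗[L] i.P.Ring) →ₐ[FL] FD :=
      Algebra.TensorProduct.lift (Algebra.ofId FL FD) ι fun a b => mul_comm _ _
    have hc : ∀ b : i.P.Ring, IsIntegral FL (ι b) := fun b => by
      have := (IsIntegral.of_finite FL ((1 : FL) ⊗ₜ[L] b)).map τ
      simpa [τ] using this
    have hs : π (Hens.of i (algebraMap i.P.Ring i.Obj s)) ≠ 0 :=
      ((IsLocalization.map_units i.Obj s).map ((Hens.of i).toRingHom) |>.map π.toRingHom).ne_zero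
    have e : π (Hens.of i (IsLocalization.mk' i.Obj c s)) * ι s = ι c := by
      show _ * π (Hens.of i (algebraMap _ _ _)) = π (Hens.of i (algebraMap _ _ _))
      rw [← map_mul, ← map_mul, IsLocalization.mk'_spec]
    rw [(eq_mul_inv_iff_mul_eq₀ hs).2 e]
    exact (hc c).mul (hc s).inv
  haveI : Algebra.IsAlgebraic FL FD := ⟨fun z => by
    refine IsIntegral.isAlgebraic ?_
    obtain ⟨a, b, -, rfl⟩ := IsFractionRing.div_surjective (A := D) z
    obtain ⟨a, rfl⟩ := Ideal.Quotient.mk_surjective a
    obtain ⟨b, rfl⟩ := Ideal.Quotient.mk_surjective b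
    rw [div_eq_mul_inv]
    exact (hint a).mul (hint b).inv⟩
  let g : FD →ₐ[FL] K := IsAlgClosed.lift
  exact ⟨(g.restrictScalars L).comp π⟩

end Groth.EtPbc.HensEmbed
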