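import Groth.Agent.EtPbc.Proper.General
import Groth.Agent.EtPbc.Proper.HensEmbed

/-!
# Invariance of cohomology of proper schemes under extensions of algebraically closed fields
-/

set_option autoImplicit false
set_option linter.style.haveILetI false

universe u

open CategoryTheory CategoryTheory.Limits CategoryTheory.Abelian AlgebraicGeometry Opposite

namespace Groth.EtPbc.FieldExt

open Groth.EtPbc.TwoAffine Groth.EtPbc.ConstRestr Groth.EtaleBase Groth.EtPbc.Tower Groth.EtPbc.ProperMain

attribute [local instance] pull_preservesFiniteLimits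

/-- A constant class vanishing on a limit vanishes on a stage. -/
theorem exists_restr_zero (M : Type) [AddCommGroup M] {ι : Type u} [Preorder ι] [IsDirected ι (· ≤ ·)]
    [Nonempty ι] (Xs : ιᵒᵖ ⥤ Scheme.{u})
    (haff : ∀ ⦃a b : ιᵒᵖ⦄ (h : a ⟶ b), IsAffineHom (Xs.map h))
    (hqc : ∀ a, CompactSpace ↥(Xs.obj a)) (hqs : ∀ a, QuasiSeparatedSpace ↥(Xs.obj a))
    (c : Cone Xs) (hc : IsLimit c) (q : ℕ) (j : ι) (x : EtCoh.H (Xs.obj (op j)) (EtCoh.const (Xs.obj (op j)) M) q)
    (hx : restr M (c.π.app (op j)) q x = 0) :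
    ∃ (k : ι) (hk : j ≤ k), restr M (Xs.map (homOfLE hk).op) q x = 0 := by
  let t := Xs.map (homOfLE (le_refl j)).op
  let et := EtCore.pullConst t M
  let ξ := x.comp (Ext.mk₀ et.inv) (add_zero q)
  have hξ : ξ.comp (Ext.mk₀ et.hom) (add_zero q) = x := by
    rw [Ext.comp_assoc_of_third_deg_zero, Ext.mk₀_comp_mk₀, Iso.inv_hom_id, Ext.comp_mk₀_id]
  let e := EtCore.pullConst (c.π.app (op j)) M
  have h0 : EtCore.HpullVia (c.π.app (op j)) t (c.π.app (op j)) (c.w (homOfLE (le_refl j)).op)
      (EtCoh.const (Xs.obj (op j)) M) q ξ = 0 := by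
    have h1 : ((EtCore.Hpull (c.π.app (op j)) _ q ξ).comp
        (Ext.mk₀ ((((EtCore.pullComp (c.π.app (op j)) t).symm ≪≫
          EtCore.pullCongr (c.w (homOfLE (le_refl j)).op)).app (EtCoh.const (Xs.obj (op j)) M)).hom ≫ e.hom))
          (add_zero q)) = 0 := by
      rw [pullVia_pullConst, ← Ext.mk₀_comp_mk₀, ← Ext.comp_assoc_of_third_deg_zero, ← EtLimit.Hpull_map, hξ]
      exact hx
    rw [← Ext.mk₀_comp_mk₀, ← Ext.comp_assoc_of_third_deg_zero] at h1
    have h2 := congrArg (fun z => Ext.comp z (Ext.mk₀ e.inv) (add_zero q)) h1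
    simp only [Ext.comp_assoc_of_third_deg_zero, Ext.mk₀_comp_mk₀, Category.assoc, Iso.hom_inv_id,
      Category.comp_id, Ext.zero_comp] at h2
    exact h2
  obtain ⟨k, hk, h⟩ := (Groth.Agent.S0646.result Xs haff hqc hqs c hc j (EtCoh.const (Xs.obj (op j)) M) q).2
    j le_rfl ξ h0
  refine ⟨k, hk, ?_⟩
  rw [restr_apply, ← hξ, EtLimit.Hpull_map, h, Ext.zero_comp, Ext.zero_comp]

variable {k K : Type u} [Field k] [Field K] [Algebra k K]

/-- Finitely generated subalgebras. -/
abbrev Idx (k K : Type u) [Field k] [Field K] [Algebra k K] := {A : Subalgebra k K // A.FG}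

instance : Nonempty (Idx k K) := ⟨⟨⊥, Subalgebra.fg_bot⟩⟩

instance : IsDirected (Idx k K) (· ≤ ·) :=
  ⟨fun A B => ⟨⟨A.1 ⊔ B.1, A.2.sup B.2⟩, show A.1 ≤ A.1 ⊔ B.1 from le_sup_left, show B.1 ≤ A.1 ⊔ B.1 from le_sup_right⟩⟩

variable {X : Scheme.{u}} (f : X ⟶ Spec (CommRingCat.of k))

/-- The base of a stage. -/
noncomputable abbrev str (A : Idx k K) : Spec (CommRingCat.of A.1) ⟶ Spec (CommRingCat.of k) :=
  Spec.map (CommRingCat.ofHom (algebraMap k A.1))

/-- Transition of bases. -/
noncomputable abbrev incl {A B : Idx k K} (h : A ≤ B) :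
    Spec (CommRingCat.of B.1) ⟶ Spec (CommRingCat.of A.1) :=
  Spec.map (CommRingCat.ofHom (Subalgebra.inclusion h).toRingHom)

lemma incl_str {A B : Idx k K} (h : A ≤ B) : incl h ≫ str A = str B := by
  rw [← Spec.map_comp]
  rfl

/-- Base changes to the stages. -/
noncomputable def stages : (Idx k K)ᵒᵖ ⥤ Scheme.{u} where
  obj A := pullback f (str A.unop)
  map {A B} h := pullback.lift (pullback.fst _ _) (pullback.snd _ _ ≫ incl (leOfHom h.unop))
    (by rw [Category.assoc, incl_str, pullback.condition])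
  map_id A := by
    refine pullback.hom_ext ?_ ?_
    · rw [pullback.lift_fst, Category.id_comp]
    · rw [pullback.lift_snd, Category.id_comp]
      exact (congrArg (_ ≫ ·) (Spec.map_id _)).trans (Category.comp_id _)
  map_comp {A B C} a b := by
    refine pullback.hom_ext ?_ ?_
    · rw [pullback.lift_fst, Category.assoc, pullback.lift_fst, pullback.lift_fst]
    · rw [pullback.lift_snd, Category.assoc, pullback.lift_snd, pullback.lift_snd_assoc, Category.assoc,
        ← Spec.map_comp]
      rfl

/-- The base of the field. -/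
noncomputable abbrev strK (k K : Type u) [Field k] [Field K] [Algebra k K] :
    Spec (CommRingCat.of K) ⟶ Spec (CommRingCat.of k) :=
  Spec.map (CommRingCat.ofHom (algebraMap k K))

/-- The field over a stage. -/
noncomputable abbrev toStr (A : Idx k K) : Spec (CommRingCat.of K) ⟶ Spec (CommRingCat.of A.1) :=
  Spec.map (CommRingCat.ofHom A.1.val.toRingHom)

lemma toStr_str (A : Idx k K) : toStr A ≫ str A = strK k K := by
  rw [← Spec.map_comp]
  rfl

lemma toStr_incl {A B : Idx k K} (h : A ≤ B) : toStr B ≫ incl h = toStr A := by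
  rw [← Spec.map_comp]
  rfl

/-- The base change to the field over the stages. -/
noncomputable def stagesCone : Cone (stages (K := K) f) where
  pt := pullback f (strK k K)
  π :=
    { app := fun A => pullback.lift (pullback.fst _ _) (pullback.snd _ _ ≫ toStr A.unop)
        (by rw [Category.assoc, toStr_str, pullback.condition])
      naturality := fun A B h => by
        refine (Category.id_comp _).trans ?_
        refine pullback.hom_ext ?_ ?_
        · refine (pullback.lift_fst _ _ _).trans ((Category.assoc _ _ _).trans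
            ((congrArg (_ ≫ ·) (pullback.lift_fst _ _ _)).trans (pullback.lift_fst _ _ _))).symm
        · refine (pullback.lift_snd _ _ _).trans ((Category.assoc _ _ _).trans
            ((congrArg (_ ≫ ·) (pullback.lift_snd _ _ _)).trans ((pullback.lift_snd_assoc _ _ _ _).trans
              ((Category.assoc _ _ _).trans (congrArg (_ ≫ ·) (toStr_incl _)))))).symm }

/-- The base change to the field is the limit of the base changes to the stages. -/
theorem nonempty_isLimit_stagesCone : Nonempty (IsLimit (stagesCone (K := K) f)) := by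
  classical
  refine ⟨IsLimit.ofExistsUnique fun s => ?_⟩
  let σ : ∀ A : Idx k K, s.pt ⟶ pullback f (str A) := fun A => s.π.app (op A)
  have hσ₁ : ∀ {A B : Idx k K} (h : A ≤ B), σ A ≫ pullback.fst f (str A) = σ B ≫ pullback.fst f (str B) :=
    fun {A B} h => ((congrArg (· ≫ pullback.fst f (str A)) (s.w (homOfLE h).op).symm).trans
      (Category.assoc _ _ _)).trans (congrArg (σ B ≫ ·) (pullback.lift_fst _ _ _))
  have hσ₂ : ∀ {A B : Idx k K} (h : A ≤ B),
      σ A ≫ pullback.snd f (str A) = (σ B ≫ pullback.snd f (str B)) ≫ incl h :=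
    fun {A B} h => (((congrArg (· ≫ pullback.snd f (str A)) (s.w (homOfLE h).op).symm).trans
      (Category.assoc _ _ _)).trans (congrArg (σ B ≫ ·) (pullback.lift_snd _ _ _))).trans (Category.assoc _ _ _).symm
  let γ : ∀ A : Idx k K, CommRingCat.of A.1 ⟶ Γ(s.pt, ⊤) := fun A =>
    (Scheme.ΓSpecIso _).inv ≫ (σ A ≫ pullback.snd f (str A)).appTop
  have hγdef : ∀ A, γ A = (Scheme.ΓSpecIso _).inv ≫ (σ A ≫ pullback.snd f (str A)).appTop := fun _ => rfl
  have hγ : ∀ {A B : Idx k K} (h : A ≤ B),
      CommRingCat.ofHom (Subalgebra.inclusion h).toRingHom ≫ γ B = γ A := by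
    intro A B h
    simp only [γ]
    rw [hσ₂ h, Scheme.Hom.comp_appTop (σ B ≫ pullback.snd f (str B)) (incl h),
      ← Category.assoc (Scheme.ΓSpecIso (CommRingCat.of A.1)).inv, ← Scheme.ΓSpecIso_inv_naturality,
      Category.assoc]
  clear_value γ
  have hwd : ∀ {A B : Idx k K} (a : A.1) (b : B.1), (a : K) = b → (γ A).hom a = (γ B).hom b := by
    intro A B a b hab
    obtain ⟨C, hA, hB⟩ := exists_ge_ge A B
    rw [← hγ hA, ← hγ hB, CommRingCat.hom_comp, CommRingCat.hom_comp, RingHom.comp_apply, RingHom.comp_apply]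
    exact congrArg (γ C).hom (Subtype.ext hab)
  let P : K → Idx k K := fun v => ⟨Algebra.adjoin k {v}, Subalgebra.fg_adjoin_finset {v} |> fun h => by simpa using h⟩
  have hP : ∀ v, v ∈ (P v).1 := fun v => Algebra.subset_adjoin rfl
  let gf : K → Γ(s.pt, ⊤) := fun v => (γ (P v)).hom ⟨v, hP v⟩
  let g : CommRingCat.of K ⟶ Γ(s.pt, ⊤) := CommRingCat.ofHom
    { toFun := gf
      map_one' := (hwd (B := P 1) ⟨1, hP 1⟩ 1 rfl).trans (map_one _)
      map_zero' := (hwd (B := P 0) ⟨0, hP 0⟩ 0 rfl).trans (map_zero _)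
      map_mul' := fun v w => by
        obtain ⟨C, hA, hB⟩ := exists_ge_ge (P v) (P w)
        show gf (v * w) = gf v * gf w
        simp only [gf]
        rw [hwd ⟨v, hP v⟩ (⟨v, hA (hP v)⟩ : C.1) rfl, hwd ⟨w, hP w⟩ (⟨w, hB (hP w)⟩ : C.1) rfl, ← map_mul]
        exact hwd _ _ rfl
      map_add' := fun v w => by
        obtain ⟨C, hA, hB⟩ := exists_ge_ge (P v) (P w)
        show gf (v + w) = gf v + gf w
        simp only [gf]
        rw [hwd ⟨v, hP v⟩ (⟨v, hA (hP v)⟩ : C.1) rfl, hwd ⟨w, hP w⟩ (⟨w, hB (hP w)⟩ : C.1) rfl, ← map_add]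
        exact hwd _ _ rfl }
  have hgv : ∀ v : K, g.hom v = (γ (P v)).hom ⟨v, hP v⟩ := fun v => rfl
  clear_value g
  have hg : ∀ A : Idx k K, CommRingCat.ofHom A.1.val.toRingHom ≫ g = γ A := fun A => by
    refine CommRingCat.hom_ext (RingHom.ext fun b => ?_)
    rw [CommRingCat.hom_comp, RingHom.comp_apply]
    exact (hgv _).trans (hwd _ _ rfl)
  have hgs : ∀ A, toSpec g ≫ toStr A = σ A ≫ pullback.snd f (str A) := fun A => by
    have e : toSpec g ≫ toStr A = toSpec (CommRingCat.ofHom A.1.val.toRingHom ≫ g) := by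
      rw [toSpec, toSpec, Category.assoc, Spec.map_comp]
    rw [e, hg, hγdef]
    refine ext_of_isAffine ?_
    rw [← cancel_epi (Scheme.ΓSpecIso _).inv]
    exact appTop_toSpec _
  let A₀ : Idx k K := ⟨⊥, Subalgebra.fg_bot⟩
  let l : s.pt ⟶ X := σ A₀ ≫ pullback.fst f (str A₀)
  have hl : ∀ A, σ A ≫ pullback.fst f (str A) = l := fun A => (hσ₁ (show A₀ ≤ A from (bot_le : (⊥ : Subalgebra k K) ≤ A.1))).symm
  have hf : l ≫ f = toSpec g ≫ strK k K := by
    rw [← toStr_str A₀, ← Category.assoc (toSpec g), hgs, Category.assoc, Category.assoc, pullback.condition]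
  refine ⟨pullback.lift l (toSpec g) hf, fun A => ?_, ?_⟩
  · refine pullback.hom_ext ?_ ?_
    · exact (Category.assoc _ _ _).trans ((congrArg (_ ≫ ·) (pullback.lift_fst _ _ _)).trans
        ((pullback.lift_fst _ _ _).trans (hl A.unop).symm))
    · exact (Category.assoc _ _ _).trans ((congrArg (_ ≫ ·) (pullback.lift_snd _ _ _)).trans
        ((pullback.lift_snd_assoc _ _ _ _).trans (hgs A.unop)))
  intro (m : s.pt ⟶ pullback f (strK k K)) hm
  have h₁ : m ≫ pullback.fst f (strK k K) = l :=
    ((congrArg (m ≫ ·) (pullback.lift_fst _ _ _).symm).trans (Category.assoc _ _ _).symm).trans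
      (congrArg (· ≫ pullback.fst f (str A₀)) (hm (op A₀)))
  have h₂ : ∀ A, (m ≫ pullback.snd f (strK k K)) ≫ toStr A = σ A ≫ pullback.snd f (str A) := fun A =>
    ((Category.assoc _ _ _).trans (congrArg (m ≫ ·) (pullback.lift_snd _ _ _).symm)).trans
      ((Category.assoc _ _ _).symm.trans (congrArg (· ≫ pullback.snd f (str A)) (hm (op A))))
  refine pullback.hom_ext ?_ ?_
  · rw [pullback.lift_fst, h₁]
  · rw [pullback.lift_snd]
    refine ext_of_isAffine ?_
    rw [← cancel_epi (Scheme.ΓSpecIso _).inv, appTop_toSpec]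
    refine CommRingCat.hom_ext (RingHom.ext fun v => ?_)
    rw [hgv, hγdef, ← h₂ (P v), Scheme.Hom.comp_appTop _ (toStr (P v)), ← Category.assoc,
      ← Scheme.ΓSpecIso_inv_naturality]
    rfl

variable [IsProper f]

omit [IsProper f] in
theorem stages_affine ⦃A B : (Idx k K)ᵒᵖ⦄ (h : A ⟶ B) : IsAffineHom ((stages (K := K) f).map h) := by
  have e : IsPullback (pullback.lift (pullback.fst f (str A.unop))
      (pullback.snd f (str A.unop) ≫ incl (leOfHom h.unop))
      (by rw [Category.assoc, incl_str, pullback.condition])) (pullback.snd f (str A.unop))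
      (pullback.snd f (str B.unop)) (incl (leOfHom h.unop)) :=
    IsPullback.of_right (by rw [pullback.lift_fst, incl_str]; exact IsPullback.of_hasPullback _ _)
      (pullback.lift_snd _ _ _) (IsPullback.of_hasPullback _ _)
  exact MorphismProperty.of_isPullback e.flip (inferInstanceAs (IsAffineHom (incl (leOfHom h.unop))))

theorem stages_compact (A : (Idx k K)ᵒᵖ) : CompactSpace ↥((stages (K := K) f).obj A) := by
  show CompactSpace ↥(pullback f (str A.unop))
  exact QuasiCompact.compactSpace_of_compactSpace (pullback.snd f (str A.unop))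

theorem stages_qs (A : (Idx k K)ᵒᵖ) : QuasiSeparatedSpace ↥((stages (K := K) f).obj A) := by
  show QuasiSeparatedSpace ↥(pullback f (str A.unop))
  exact quasiSeparatedSpace_of_quasiSeparated (pullback.snd f (str A.unop))

variable [IsAlgClosed k]

/-- A point of a stage over an algebraically closed field. -/
theorem exists_point (A : Idx k K) :
    ∃ m : Ideal A.1, m.IsMaximal ∧ Function.Bijective ((Ideal.Quotient.mk m).comp (algebraMap k A.1)) := by
  haveI : Algebra.FiniteType k A.1 := (Subalgebra.fg_iff_finiteType A.1).1 A.2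
  obtain ⟨m, hm⟩ := Ideal.exists_maximal A.1
  haveI := hm
  letI := Ideal.Quotient.field m
  haveI : Algebra.FiniteType k (A.1 ⧸ m) := .of_surjective (Ideal.Quotient.mkₐ k m) Ideal.Quotient.mk_surjective
  haveI : Module.Finite k (A.1 ⧸ m) := finite_of_finite_type_of_isJacobsonRing k (A.1 ⧸ m)
  exact ⟨m, hm, IsAlgClosed.algebraMap_bijective_of_isIntegral (k := k) (K := A.1 ⧸ m)⟩

/-- Constant classes are not killed by extensions. -/
theorem injective_restr (M : Type) [AddCommGroup M] (q : ℕ) :
    Function.Injective (restr M (pullback.fst f (strK k K)) q) := by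
  refine (injective_iff_map_eq_zero _).2 fun a ha => ?_
  obtain ⟨hlim⟩ := nonempty_isLimit_stagesCone (K := K) f
  let A₀ : Idx k K := ⟨⊥, Subalgebra.fg_bot⟩
  let p₀ := pullback.fst f (str A₀)
  have h0 : restr M ((stagesCone f).π.app (op A₀)) q (restr M p₀ q a) = 0 := by
    exact (restr_comp M _ _ q a).trans ((restr_congr M (pullback.lift_fst _ _ _) q a).trans ha)
  obtain ⟨A, hA, h⟩ := exists_restr_zero M _ (stages_affine f) (stages_compact f) (stages_qs f) _ hlim q A₀ _ h0
  have h1 : restr M (pullback.fst f (str A)) q a = 0 := by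
    rw [← restr_congr M (pullback.lift_fst _ _ _ :
      pullback.lift (pullback.fst f (str A)) (pullback.snd f (str A) ≫ incl hA) _ ≫ p₀ = _), ← restr_comp]
    exact h
  obtain ⟨m, hm, hbij⟩ := exists_point A
  let sA : CommRingCat.of A.1 ⟶ CommRingCat.of k :=
    CommRingCat.ofHom ((RingEquiv.ofBijective _ hbij).symm.toRingHom.comp (Ideal.Quotient.mk m))
  have hs : CommRingCat.ofHom (algebraMap k A.1) ≫ sA = 𝟙 _ :=
    CommRingCat.hom_ext (RingHom.ext fun r => (RingEquiv.ofBijective _ hbij).symm_apply_apply r)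
  let sec : X ⟶ pullback f (str A) := pullback.lift (𝟙 X) (f ≫ Spec.map sA) (by
    rw [Category.id_comp, Category.assoc, ← Spec.map_comp, hs, Spec.map_id, Category.comp_id])
  have h2 := congrArg (restr M sec q) h1
  rw [restr_comp, restr_congr M (pullback.lift_fst _ _ _), restr_id, map_zero] at h2
  exact h2

omit [IsProper f] [IsAlgClosed k] in
/-- Classes on a neighbourhood of a fibre. -/
theorem exists_preimage (M : Type) [AddCommGroup M] {U Z Y P : Scheme.{u}} (pr : U ⟶ Y) (i : Z ⟶ U)
    [IsIso (i ≫ pr)] (q : ℕ) (hi : Function.Injective (restr M i q)) (v : P ⟶ U)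
    (y : EtCoh.H U (EtCoh.const U M) q) :
    ∃ a, restr M (v ≫ pr) q a = restr M v q y := by
  refine ⟨restr M (inv (i ≫ pr)) q (restr M i q y), ?_⟩
  rw [← restr_comp M v pr]
  refine congrArg _ (hi ?_)
  rw [restr_comp M i pr, restr_comp M (i ≫ pr) (inv (i ≫ pr)), restr_congr M (IsIso.hom_inv_id (i ≫ pr)), restr_id]

variable [IsAlgClosed K]

/-- Constant classes come from the smaller field. -/
theorem surjective_restr (M : Type) [AddCommGroup M] [Finite M] (q : ℕ) :
    Function.Surjective (restr M (pullback.fst f (strK k K)) q) := by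
  classical
  intro c
  obtain ⟨hlim⟩ := nonempty_isLimit_stagesCone (K := K) f
  obtain ⟨A, y, hy⟩ := exists_restr_eq M _ (stages_affine f) (stages_compact f) (stages_qs f) _ hlim q c
  obtain ⟨m, hm, hbij⟩ := exists_point A
  haveI := hm
  haveI : Algebra.FiniteType k A.1 := (Subalgebra.fg_iff_finiteType A.1).1 A.2
  haveI : IsNoetherianRing A.1 := Algebra.FiniteType.isNoetherianRing k A.1
  let L := Localization.AtPrime m
  haveI : IsNoetherianRing L := IsLocalization.isNoetherianRing m.primeCompl L inferInstance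
  let αK : L →+* K := IsLocalization.lift (M := m.primeCompl) (g := A.1.val.toRingHom) fun s =>
    isUnit_iff_ne_zero.2 fun h => s.2 (by rw [show (s : A.1) = 0 from Subtype.ext h]; exact m.zero_mem)
  letI : Algebra L K := αK.toAlgebra
  haveI : IsDomain L := IsLocalization.isDomain_localization m.primeCompl_le_nonZeroDivisors
  have hinj : Function.Injective (algebraMap L K) := by
    refine (IsLocalization.lift_injective_iff _).2 fun x y => ?_
    exact ⟨fun h => congrArg _ (IsLocalization.injective L m.primeCompl_le_nonZeroDivisors h),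
      fun h => congrArg _ (Subtype.ext h)⟩
  obtain ⟨e⟩ := Groth.EtPbc.HensEmbed.exists_hom K hinj
  let O : Type u := Groth.Hensel1.Hens L (IsLocalRing.ResidueField L)
  haveI : IsNoetherianRing O := Groth.Hensel1.Hens.isNoetherianRing
  let kO : CommRingCat.of k ⟶ CommRingCat.of O := CommRingCat.ofHom
    ((algebraMap L O).comp ((algebraMap A.1 L).comp (algebraMap k A.1)))
  let AO : CommRingCat.of A.1 ⟶ CommRingCat.of O := CommRingCat.ofHom ((algebraMap L O).comp (algebraMap A.1 L))
  let eK : CommRingCat.of O ⟶ CommRingCat.of K := CommRingCat.ofHom e.toRingHom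
  have hAK : AO ≫ eK = CommRingCat.ofHom A.1.val.toRingHom := by
    refine CommRingCat.hom_ext (RingHom.ext fun a => ?_)
    show e (algebraMap L O (algebraMap A.1 L a)) = a.1
    rw [e.commutes]
    exact IsLocalization.lift_eq _ a
  let r := CommRingCat.ofHom (IsLocalRing.residue O)
  haveI : IsIso (kO ≫ r) := by
    refine (ConcreteCategory.isIso_iff_bijective _).2 ⟨(kO ≫ r).hom.injective, fun z => ?_⟩
    obtain ⟨b, hb⟩ := IsLocalRing.residue_surjective (Groth.Hensel1.Hens.residuePt z)
    obtain ⟨w, hw⟩ := (IsLocalization.AtPrime.equivQuotMaximalIdeal m L).surjective (IsLocalRing.residue L b)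
    obtain ⟨r', rfl⟩ := hbij.2 w
    refine ⟨r', Groth.Hensel1.Hens.residuePt.injective ?_⟩
    rw [← hb]
    refine Eq.trans ?_ hw
    exact (Groth.Hensel1.Hens.pt (R := L) (Ω := IsLocalRing.ResidueField L)).commutes
      (algebraMap A.1 L (algebraMap k A.1 r'))
  let fO := pullback.snd f (Spec.map kO)
  haveI : IsProper fO := MorphismProperty.pullback_snd _ _ inferInstance
  let pr := pullback.fst f (Spec.map kO)
  let u : pullback f (Spec.map kO) ⟶ (stages (K := K) f).obj (op A) :=
    pullback.lift pr (fO ≫ Spec.map AO) (by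
      rw [Category.assoc, ← Spec.map_comp]; exact pullback.condition)
  let v : pullback f (strK k K) ⟶ pullback f (Spec.map kO) :=
    pullback.lift (pullback.fst f (strK k K)) (pullback.snd f (strK k K) ≫ Spec.map eK) (by
      rw [Category.assoc, ← Spec.map_comp, show kO ≫ eK = CommRingCat.ofHom (algebraMap k K) from
        (congrArg (fun z => CommRingCat.ofHom (algebraMap k A.1) ≫ z) hAK :)]
      exact pullback.condition)
  have hvu : v ≫ u = (stagesCone f).π.app (op A) := by
    refine pullback.hom_ext ?_ ?_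
    · refine (Category.assoc _ _ _).trans ((congrArg (v ≫ ·) (pullback.lift_fst _ _ _)).trans
        ((pullback.lift_fst _ _ _).trans (pullback.lift_fst _ _ _).symm))
    · refine (Category.assoc _ _ _).trans ((congrArg (v ≫ ·) (pullback.lift_snd _ _ _)).trans
        ((pullback.lift_snd_assoc _ _ _ _).trans (Eq.trans ?_ (pullback.lift_snd _ _ _).symm)))
      rw [Category.assoc, ← Spec.map_comp, hAK]
  let w := fib fO ≫ pr
  haveI : IsIso w := by
    have sq := (IsPullback.of_hasPullback fO (Spec.map r)).paste_horiz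
      (IsPullback.of_hasPullback f (Spec.map kO))
    haveI : IsIso (Spec.map r ≫ Spec.map kO) := by rw [← Spec.map_comp]; infer_instance
    exact MorphismProperty.of_isPullback (P := MorphismProperty.isomorphisms Scheme) sq.flip ‹_›
  have hinjO : Function.Injective (restr M (fib fO) q) := by
    have hb := (bijective_hpull_iff (fib fO) (EtCoh.const _ M) q).2
      (holds_proper fO q _ (ClosedEfface.isTorsion_const M))
    exact ((((EtCoh.HF _ q).mapIso (EtCore.pullConst (fib fO) M)).addCommGroupIsoToAddEquiv.bijective).comp hb).1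
  obtain ⟨a, ha⟩ := exists_preimage M pr (fib fO) q hinjO v (restr M u q y)
  exact ⟨a, (restr_congr M (pullback.lift_fst _ _ _ : v ≫ pr = _).symm q a).trans
    (ha.trans ((restr_comp M v u q y).trans ((restr_congr M hvu q y).trans hy)))⟩

end Groth.EtPbc.FieldExt
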