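import Groth.Agent.EtPbc.Proper.Tower
import Groth.Agent.PropsBasic2.Reduced

/-!
# Every point of a proper scheme is the image of a point of a closed subscheme of a tower
-/

set_option autoImplicit false
set_option linter.style.haveILetI false

universe u

open CategoryTheory CategoryTheory.Limits AlgebraicGeometry Opposite TopologicalSpace

namespace Groth.EtPbc.Tower

/-- A morphism from a reduced scheme with image in a closed subscheme factors. -/
theorem exists_factor_reduced {T Z X : Scheme.{u}} [IsReduced T] (z : Z ⟶ X) [IsClosedImmersion z]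
    (φ : T ⟶ X) (h : Set.range φ ⊆ Set.range z) : ∃ φ' : T ⟶ Z, φ' ≫ z = φ := by
  have : Surjective (pullback.fst φ z) := by
    refine ⟨fun t => ?_⟩
    obtain ⟨w, hw⟩ := h ⟨t, rfl⟩
    obtain ⟨p, hp, -⟩ := Scheme.Pullback.exists_preimage_pullback (f := φ) (g := z) t w hw.symm
    exact ⟨p, hp⟩
  have : IsIso (pullback.fst φ z) := isIso_of_isClosedImmersion_of_surjective _
  exact ⟨inv (pullback.fst φ z) ≫ pullback.snd φ z, by
    rw [Category.assoc, ← pullback.condition, IsIso.inv_hom_id_assoc]⟩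

/-- The range of a closed immersion into an open contains the specializations lying in the open. -/
theorem mem_range_of_specializes {V X : Scheme.{u}} (O : X.Opens) (γ : V ⟶ O) [IsClosedImmersion γ] {y z : X}
    (hy : y ∈ Set.range (γ ≫ O.ι)) (h : y ⤳ z) (hz : z ∈ O) : z ∈ Set.range (γ ≫ O.ι) := by
  obtain ⟨v, rfl⟩ := hy
  let z₀ : ↥(O : Scheme.{u}) := ⟨z, hz⟩
  have hz₀ : O.ι z₀ = z := rfl
  have h' : γ v ⤳ z₀ := O.ι.isEmbedding.isInducing.specializes_iff.1 (by
    rw [hz₀, ← Scheme.Hom.comp_apply]; exact h)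
  obtain ⟨v', hv'⟩ := h'.mem_closed γ.isClosedEmbedding.isClosed_range ⟨v, rfl⟩
  exact ⟨v', by rw [Scheme.Hom.comp_apply, hv', hz₀]⟩

/-- The morphism to an affine scheme given by a ring map to global sections. -/
noncomputable def toSpec {Y : Scheme.{u}} {R : CommRingCat.{u}} (φ : R ⟶ Γ(Y, ⊤)) : Y ⟶ Spec R :=
  Y.toSpecΓ ≫ Spec.map φ

theorem appTop_toSpec {Y : Scheme.{u}} {R : CommRingCat.{u}} (φ : R ⟶ Γ(Y, ⊤)) :
    (Scheme.ΓSpecIso R).inv ≫ (toSpec φ).appTop = φ := by
  rw [toSpec, Scheme.Hom.comp_appTop, Scheme.toSpecΓ_appTop, ← Category.assoc]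
  rw [← Scheme.ΓSpecIso_inv_naturality, Category.assoc, Iso.inv_hom_id, Category.comp_id]

theorem comp_toSpec {Y W : Scheme.{u}} {R : CommRingCat.{u}} (h : W ⟶ Y) (φ : R ⟶ Γ(Y, ⊤)) :
    h ≫ toSpec φ = toSpec (φ ≫ h.appTop) := by
  rw [toSpec, toSpec, Spec.map_comp, Scheme.toSpecΓ_naturality_assoc]

/-- Evaluation of a polynomial in one variable at a section. -/
noncomputable def evalHom {B : CommRingCat.{u}} (a : B) :
    CommRingCat.of (MvPolynomial (Fin 1) (ULift.{u} ℤ)) ⟶ B :=
  CommRingCat.ofHom (MvPolynomial.eval₂Hom ((Int.castRingHom B).comp ULift.ringEquiv.toRingHom) fun _ => a)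

/-- A finite tuple of generators embeds an affine scheme in an open of a tower, with separated coordinates. -/
theorem exists_local_model {A : Type u} [CommRing A] {V : Scheme.{u}} [IsAffine V]
    (v : V ⟶ Spec (CommRingCat.of A)) {m : ℕ} (a : Fin m → Γ(V, ⊤))
    (ha : Function.Surjective (MvPolynomial.eval₂Hom ((Scheme.ΓSpecIso _).inv ≫ v.appTop).hom a))
    {T : Scheme.{u}} (g : T ⟶ Spec (CommRingCat.of A)) [IsSeparated g] (pr : Fin m → (T ⟶ P1.{u}))
    (l : V ⟶ T) (hg : l ≫ g = v) (hl : ∀ j, l ≫ pr j = toSpec (evalHom (a j)) ≫ chart) :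
    ∃ (R : T.Opens) (lR : V ⟶ R), lR ≫ R.ι = l ∧ IsClosedImmersion lR := by
  classical
  let R : T.Opens := Finset.univ.inf fun j => pr j ⁻¹ᵁ chart.opensRange
  have hR : ∀ t, t ∈ R ↔ ∀ j, pr j t ∈ chart.opensRange := fun t => by
    rw [← SetLike.mem_coe, TopologicalSpace.Opens.coe_finset_inf]
    simp [Finset.inf_set_eq_iInter]
  have hrange : Set.range l ⊆ Set.range R.ι := by
    rintro _ ⟨p, rfl⟩
    rw [Scheme.Opens.range_ι, SetLike.mem_coe, hR]
    intro j
    rw [← Scheme.Hom.comp_apply, hl, Scheme.Hom.comp_apply]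
    exact ⟨_, rfl⟩
  let lR := IsOpenImmersion.lift R.ι l hrange
  have hlR : lR ≫ R.ι = l := IsOpenImmersion.lift_fac _ _ _
  refine ⟨R, lR, hlR, ?_⟩
  have hw : ∀ j, Set.range (R.ι ≫ pr j) ⊆ Set.range chart := by
    rintro j _ ⟨t, rfl⟩
    exact (hR t.1).1 t.2 j
  let w : ∀ j, (R : Scheme.{u}) ⟶ Spec (CommRingCat.of (MvPolynomial (Fin 1) (ULift.{u} ℤ))) := fun j =>
    IsOpenImmersion.lift chart (R.ι ≫ pr j) (hw j)
  have hwl : ∀ j, lR ≫ w j = toSpec (evalHom (a j)) := fun j => by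
    rw [← cancel_mono chart, Category.assoc, IsOpenImmersion.lift_fac, ← Category.assoc, hlR, hl]
  let s : Fin m → Γ((R : Scheme.{u}), ⊤) := fun j =>
    ((Scheme.ΓSpecIso _).inv ≫ (w j).appTop) (MvPolynomial.X 0)
  let ρ := (Scheme.ΓSpecIso (CommRingCat.of A)).inv ≫ (R.ι ≫ g).appTop
  let φ : CommRingCat.of (MvPolynomial (Fin m) A) ⟶ Γ((R : Scheme.{u}), ⊤) :=
    CommRingCat.ofHom (MvPolynomial.eval₂Hom ρ.hom s)
  let c := toSpec φ
  have hρ : ρ ≫ lR.appTop = (Scheme.ΓSpecIso _).inv ≫ v.appTop := by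
    rw [Category.assoc, ← Scheme.Hom.comp_appTop, ← Category.assoc lR, hlR, hg]
  have hs : ∀ j, lR.appTop (s j) = a j := fun j => by
    have := congrArg (fun ψ => ((Scheme.ΓSpecIso _).inv ≫ Scheme.Hom.appTop ψ) (MvPolynomial.X 0)) (hwl j)
    rw [appTop_toSpec, Scheme.Hom.comp_appTop, ← Category.assoc, ConcreteCategory.comp_apply] at this
    exact this.trans (MvPolynomial.eval₂Hom_X' _ _ _)
  have hc : φ ≫ lR.appTop = CommRingCat.ofHom (MvPolynomial.eval₂Hom ((Scheme.ΓSpecIso _).inv ≫ v.appTop).hom a) := by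
    refine CommRingCat.hom_ext (MvPolynomial.ringHom_ext (fun r => ?_) fun j => ?_)
    · show lR.appTop (MvPolynomial.eval₂Hom ρ.hom s (MvPolynomial.C r)) = MvPolynomial.eval₂Hom _ a (MvPolynomial.C r)
      rw [MvPolynomial.eval₂Hom_C, MvPolynomial.eval₂Hom_C, ← ConcreteCategory.comp_apply]
      exact ConcreteCategory.congr_hom hρ r
    · show lR.appTop (MvPolynomial.eval₂Hom ρ.hom s (MvPolynomial.X j)) = MvPolynomial.eval₂Hom _ a (MvPolynomial.X j)
      rw [MvPolynomial.eval₂Hom_X', MvPolynomial.eval₂Hom_X']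
      exact hs j
  haveI : IsClosedImmersion (lR ≫ c) := by
    rw [comp_toSpec, hc, toSpec]
    haveI := IsClosedImmersion.spec_of_surjective
      (CommRingCat.ofHom (MvPolynomial.eval₂Hom ((Scheme.ΓSpecIso _).inv ≫ v.appTop).hom a)) ha
    infer_instance
  haveI : IsSeparated c := by
    have e : c ≫ Spec.map (CommRingCat.ofHom (MvPolynomial.C (σ := Fin m) (R := A))) = R.ι ≫ g := by
      have h1 : CommRingCat.ofHom (MvPolynomial.C (σ := Fin m) (R := A)) ≫ φ = ρ :=
        CommRingCat.hom_ext (RingHom.ext fun r => MvPolynomial.eval₂Hom_C _ _ r)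
      show (_ ≫ Spec.map φ) ≫ _ = _
      rw [Category.assoc, ← Spec.map_comp, h1]
      exact (ext_of_isAffine (by
        rw [← cancel_epi (Scheme.ΓSpecIso (CommRingCat.of A)).inv]
        exact appTop_toSpec ρ))
    haveI : IsSeparated (c ≫ Spec.map (CommRingCat.ofHom (MvPolynomial.C (σ := Fin m) (R := A)))) := by
      rw [e]; infer_instance
    exact IsSeparated.of_comp c (Spec.map (CommRingCat.ofHom (MvPolynomial.C (σ := Fin m) (R := A))))
  exact IsClosedImmersion.of_comp lR c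

/-- **Chow's lemma at a point**: every point lifts to a closed subscheme of a tower. -/
theorem exists_chow {A : Type u} [CommRing A] {X : Scheme.{u}} (f : X ⟶ Spec (CommRingCat.of A)) [IsProper f]
    (x : X) : ∃ (X' T : Scheme.{u}) (π : X' ⟶ X) (ι : X' ⟶ T) (g : T ⟶ Spec (CommRingCat.of A)) (x' : X'),
      IsProper π ∧ IsClosedImmersion ι ∧ IsTower g ∧ ι ≫ g = π ≫ f ∧ π x' = x := by
  classical
  haveI : CompactSpace X := QuasiCompact.compactSpace_of_compactSpace f
  let 𝒰 := X.affineCover.finiteSubcover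
  haveI : ∀ k, IsAffine (𝒰.X k) := fun k => by
    dsimp only [𝒰, Scheme.OpenCover.finiteSubcover]; infer_instance
  let K := {k : 𝒰.I₀ // x ∈ (𝒰.f k).opensRange}
  have hfin : ∀ k : K, ∃ (m : ℕ) (a : Fin m → Γ(𝒰.X k.1, ⊤)), Function.Surjective
      (MvPolynomial.eval₂Hom ((Scheme.ΓSpecIso _).inv ≫ (𝒰.f k.1 ≫ f).appTop).hom a) := fun k => by
    let φ := (Scheme.ΓSpecIso (CommRingCat.of A)).inv ≫ (𝒰.f k.1 ≫ f).appTop
    have hφ : φ.hom.FiniteType :=
      ((HasRingHomProperty.iff_of_isAffine (P := @LocallyOfFiniteType)).1 inferInstance).comp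
        (RingHom.FiniteType.of_surjective _
          (ConcreteCategory.bijective_of_isIso (Scheme.ΓSpecIso (CommRingCat.of A)).inv).2)
    letI := φ.hom.toAlgebra
    obtain ⟨m, q, hq⟩ := (Algebra.FiniteType.iff_quotient_mvPolynomial''
      (R := A) (S := Γ(𝒰.X k.1, ⊤))).1 hφ
    refine ⟨m, fun i => q (MvPolynomial.X i), fun b => ?_⟩
    obtain ⟨p, hp⟩ := hq b
    refine ⟨p, ?_⟩
    rw [← hp]
    show _ = q.toRingHom p
    refine congrFun (congrArg DFunLike.coe (MvPolynomial.ringHom_ext (fun r => ?_) fun i => ?_)) p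
    · rw [MvPolynomial.eval₂Hom_C]
      exact (q.commutes r).symm
    · rw [MvPolynomial.eval₂Hom_X']
      rfl
  choose m a ha using hfin
  have hTk : ∀ k : K, ∃ (T : Scheme.{u}) (g : T ⟶ Spec (CommRingCat.of A)) (pr : Fin (m k) → (T ⟶ P1.{u})),
      IsTower g ∧ (∀ {W : Scheme.{u}} (a : W ⟶ Spec (CommRingCat.of A)) (b : Fin (m k) → (W ⟶ P1.{u})),
        ∃ l : W ⟶ T, l ≫ g = a ∧ ∀ j, l ≫ pr j = b j) ∧
      ∀ {W : Scheme.{u}} (l l' : W ⟶ T), l ≫ g = l' ≫ g → (∀ j, l ≫ pr j = l' ≫ pr j) → l = l' :=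
    fun k => exists_power _ (m k)
  choose Tk gk prk hgk hlk hek using hTk
  let σ := Σ k : K, Fin (m k)
  let e : σ ≃ Fin (Fintype.card σ) := Fintype.equivFin σ
  obtain ⟨T, g, pr, hg, hl, -⟩ := exists_power (Spec (CommRingCat.of A)) (Fintype.card σ)
  have hq : ∀ k : K, ∃ q : T ⟶ Tk k, q ≫ gk k = g ∧ ∀ j, q ≫ prk k j = pr (e ⟨k, j⟩) := fun k =>
    hlk k g fun j => pr (e ⟨k, j⟩)
  choose q hqg hqp using hq
  -- graphs of the coordinates
  have hv : ∀ k : K, ∃ (R : (Tk k).Opens) (lR : 𝒰.X k.1 ⟶ R) (l : 𝒰.X k.1 ⟶ Tk k), lR ≫ R.ι = l ∧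
      IsClosedImmersion lR ∧ l ≫ gk k = 𝒰.f k.1 ≫ f ∧ ∀ j, l ≫ prk k j = toSpec (evalHom (a k j)) ≫ chart :=
    fun k => by
      obtain ⟨l, h1, h2⟩ := hlk k (𝒰.f k.1 ≫ f) fun j => toSpec (evalHom (a k j)) ≫ chart
      haveI := (hgk k).isProper
      obtain ⟨R, lR, h3, h4⟩ := exists_local_model _ (a k) (ha k) (gk k) (prk k) l h1 h2
      exact ⟨R, lR, l, h3, h4, h1, h2⟩
  choose R lR lv hlR hlRc hlg hlp using hv
  let Q : ∀ k : K, pullback f g ⟶ pullback f (gk k) := fun k =>
    pullback.lift (pullback.fst f g) (pullback.snd f g ≫ q k) (by rw [Category.assoc, hqg, pullback.condition])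
  let γ : ∀ k : K, 𝒰.X k.1 ⟶ pullback f (gk k) := fun k => pullback.lift (𝒰.f k.1) (lv k) (hlg k).symm
  -- the point
  let κ := X.residueField x
  let u₀ : Spec (CommRingCat.of κ) ⟶ X := X.fromSpecResidueField x
  have hu₀ : ∀ k : K, ∃ t : Spec (CommRingCat.of κ) ⟶ 𝒰.X k.1, t ≫ 𝒰.f k.1 = u₀ := fun k =>
    ⟨IsOpenImmersion.lift (𝒰.f k.1) u₀ (by
      rw [Scheme.range_fromSpecResidueField]; rintro _ rfl; exact k.2), IsOpenImmersion.lift_fac _ _ _⟩
  choose t ht using hu₀
  obtain ⟨u, hu, hup⟩ := hl (u₀ ≫ f) fun i => t (e.symm i).1 ≫ toSpec (evalHom (a _ (e.symm i).2)) ≫ chart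
  let u' : Spec (CommRingCat.of κ) ⟶ pullback f g := pullback.lift u₀ u hu.symm
  let pt : Spec (CommRingCat.of κ) := IsLocalRing.closedPoint κ
  let y := u' pt
  have hy : ∀ k, Q k y ∈ Set.range (γ k) := fun k => by
    refine ⟨t k pt, ?_⟩
    show γ k (t k pt) = Q k (u' pt)
    rw [← Scheme.Hom.comp_apply, ← Scheme.Hom.comp_apply]
    suffices h3 : t k ≫ γ k = u' ≫ Q k by rw [h3]
    have h2 : t k ≫ lv k = u ≫ q k := hek k _ _
      (by rw [Category.assoc, Category.assoc, hlg, hqg, hu, ← Category.assoc, ht]) fun j => by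
        rw [Category.assoc, Category.assoc, hlp, hqp, hup, Equiv.symm_apply_apply]
    refine pullback.hom_ext ?_ ?_
    · simp only [Category.assoc, γ, Q, u', pullback.lift_fst]
      exact ht k
    · simp only [Category.assoc, γ, Q, u', pullback.lift_snd, pullback.lift_snd_assoc]
      exact h2
  have hfy : pullback.fst f g y = x := by
    show (pullback.fst f g) (u' pt) = x
    rw [← Scheme.Hom.comp_apply, pullback.lift_fst]
    exact Scheme.fromSpecResidueField_apply _ _
  -- closure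
  let C : Closeds ↥(pullback f g) := ⟨closure {y}, isClosed_closure⟩
  let J := Scheme.IdealSheafData.vanishingIdeal C
  have hr : Set.range J.subschemeι = closure {y} := Groth.PropsBasic2.range_vanishingIdeal_subschemeι C
  haveI : IsReduced J.subscheme := Groth.PropsBasic2.isReduced_vanishingIdeal_subscheme C
  obtain ⟨x', hx'⟩ : y ∈ Set.range J.subschemeι := hr ▸ subset_closure rfl
  let π : J.subscheme ⟶ X := J.subschemeι ≫ pullback.fst f g
  let ι : J.subscheme ⟶ T := J.subschemeι ≫ pullback.snd f g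
  have hgp : IsProper g := hg.isProper
  haveI hsf : IsProper (pullback.snd f g) := MorphismProperty.pullback_snd _ _ ‹IsProper f›
  haveI hff : IsProper (pullback.fst f g) := MorphismProperty.pullback_fst _ _ hgp
  have hπ : IsProper π := inferInstance
  have hι : IsProper ι := inferInstance
  have hspec : ∀ z, y ⤳ J.subschemeι z := fun z => by
    rw [specializes_iff_mem_closure, ← hr]; exact ⟨z, rfl⟩
  -- the range of the graph is closed over both opens
  have hgraph : ∀ (k : K) (z : J.subscheme),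
      ((π z) ∈ (𝒰.f k.1).opensRange ∨ (ι ≫ q k) z ∈ R k) → Q k (J.subschemeι z) ∈ Set.range (γ k) := by
    intro k z hz
    have hs : Q k y ⤳ Q k (J.subschemeι z) := (hspec z).map (Q k).continuous
    rcases hz with hz | hz
    · let V := (𝒰.f k.1).opensRange
      let O := pullback.fst f (gk k) ⁻¹ᵁ V
      let γ' : 𝒰.X k.1 ⟶ O := IsOpenImmersion.lift O.ι (γ k) (by
        rw [Scheme.Opens.range_ι]; rintro _ ⟨p, rfl⟩
        show pullback.fst f (gk k) (γ k p) ∈ V
        rw [← Scheme.Hom.comp_apply, pullback.lift_fst]; exact ⟨p, rfl⟩)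
      have hγ' : γ' ≫ O.ι = γ k := IsOpenImmersion.lift_fac _ _ _
      haveI : IsClosedImmersion γ' := by
        haveI := (hgk k).isProper
        have hs' : IsSeparated (pullback.fst f (gk k)) := inferInstance
        haveI : IsSeparated (pullback.fst f (gk k) ∣_ V) := IsZariskiLocalAtTarget.restrict hs' V
        have e : γ' ≫ (pullback.fst f (gk k) ∣_ V) = (𝒰.f k.1).isoOpensRange.hom := by
          rw [← cancel_mono V.ι, Category.assoc, morphismRestrict_ι, ← Category.assoc, hγ',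
            pullback.lift_fst, Scheme.Hom.isoOpensRange_hom_ι]
        haveI : IsClosedImmersion (γ' ≫ (pullback.fst f (gk k) ∣_ V)) := by rw [e]; infer_instance
        exact IsClosedImmersion.of_comp γ' (pullback.fst f (gk k) ∣_ V)
      have := mem_range_of_specializes O γ' (by rw [hγ']; exact hy k) hs (by
        show pullback.fst f (gk k) (Q k (J.subschemeι z)) ∈ V
        rw [← Scheme.Hom.comp_apply (Q k), pullback.lift_fst, ← Scheme.Hom.comp_apply]
        exact hz)
      rwa [hγ'] at this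
    · let O := pullback.snd f (gk k) ⁻¹ᵁ R k
      let γ' : 𝒰.X k.1 ⟶ O := IsOpenImmersion.lift O.ι (γ k) (by
        rw [Scheme.Opens.range_ι]; rintro _ ⟨p, rfl⟩
        show pullback.snd f (gk k) (γ k p) ∈ R k
        rw [← Scheme.Hom.comp_apply, pullback.lift_snd, ← hlR k, Scheme.Hom.comp_apply]
        exact (lR k p).2)
      have hγ' : γ' ≫ O.ι = γ k := IsOpenImmersion.lift_fac _ _ _
      haveI : IsClosedImmersion γ' := by
        have hs' : IsSeparated (pullback.snd f (gk k)) := inferInstance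
        haveI : IsSeparated (pullback.snd f (gk k) ∣_ R k) := IsZariskiLocalAtTarget.restrict hs' (R k)
        have e : γ' ≫ (pullback.snd f (gk k) ∣_ R k) = lR k := by
          rw [← cancel_mono (R k).ι, Category.assoc, morphismRestrict_ι, ← Category.assoc, hγ',
            pullback.lift_snd, hlR]
        haveI : IsClosedImmersion (γ' ≫ (pullback.snd f (gk k) ∣_ R k)) := by rw [e]; exact hlRc k
        exact IsClosedImmersion.of_comp γ' (pullback.snd f (gk k) ∣_ R k)
      have := mem_range_of_specializes O γ' (by rw [hγ']; exact hy k) hs (by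
        show pullback.snd f (gk k) (Q k (J.subschemeι z)) ∈ R k
        rw [← Scheme.Hom.comp_apply (Q k), pullback.lift_snd, ← Scheme.Hom.comp_apply]
        exact hz)
      rwa [hγ'] at this
  haveI hmono : Mono ι := by
    refine ⟨fun {Y} p p' hpp => ?_⟩
    have hπp : p ≫ π = p' ≫ π := by
      let Yk : K → Y.Opens := fun k => (p ≫ ι ≫ q k) ⁻¹ᵁ R k
      have hcov : IsOpenCover Yk := by
        refine eq_top_iff.2 fun s _ => ?_
        obtain ⟨b, hb⟩ := 𝒰.covers (π (p s))
        have hxb : x ∈ (𝒰.f (𝒰.idx (π (p s)))).opensRange := by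
          have h1 : x ⤳ π (p s) := by
            rw [← hfy]
            exact (hspec (p s)).map (pullback.fst f g).continuous
          exact h1.mem_open (𝒰.f _).opensRange.isOpen ⟨b, hb⟩
        let k : K := ⟨_, hxb⟩
        refine Opens.mem_iSup.2 ⟨k, ?_⟩
        obtain ⟨v, hv⟩ := hgraph k (p s) (Or.inl ⟨b, hb⟩)
        have h2 := congrArg (pullback.snd f (gk k)) hv
        rw [← Scheme.Hom.comp_apply, ← Scheme.Hom.comp_apply (Q k), pullback.lift_snd, pullback.lift_snd,
          ← hlR k, Scheme.Hom.comp_apply (lR k)] at h2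
        show (p ≫ ι ≫ q k) s ∈ R k
        rw [Scheme.Hom.comp_apply p]
        simp only [ι, Category.assoc]
        rw [Scheme.Hom.comp_apply J.subschemeι]
        rw [← h2]
        exact (lR k v).2
      refine Scheme.Cover.hom_ext (Y.openCoverOfIsOpenCover Yk hcov) _ _ fun k => ?_
      show (Yk k).ι ≫ p ≫ π = (Yk k).ι ≫ p' ≫ π
      let W : J.subscheme.Opens := (ι ≫ q k) ⁻¹ᵁ R k
      let O := pullback.snd f (gk k) ⁻¹ᵁ R k
      let γ' : 𝒰.X k.1 ⟶ O := IsOpenImmersion.lift O.ι (γ k) (by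
        rw [Scheme.Opens.range_ι]; rintro _ ⟨v, rfl⟩
        show pullback.snd f (gk k) (γ k v) ∈ R k
        rw [← Scheme.Hom.comp_apply, pullback.lift_snd, ← hlR k, Scheme.Hom.comp_apply]
        exact (lR k v).2)
      have hγ' : γ' ≫ O.ι = γ k := IsOpenImmersion.lift_fac _ _ _
      haveI : IsClosedImmersion γ' := by
        have hs' : IsSeparated (pullback.snd f (gk k)) := inferInstance
        haveI : IsSeparated (pullback.snd f (gk k) ∣_ R k) := IsZariskiLocalAtTarget.restrict hs' (R k)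
        have e : γ' ≫ (pullback.snd f (gk k) ∣_ R k) = lR k := by
          rw [← cancel_mono (R k).ι, Category.assoc, morphismRestrict_ι, ← Category.assoc, hγ',
            pullback.lift_snd, hlR]
        haveI : IsClosedImmersion (γ' ≫ (pullback.snd f (gk k) ∣_ R k)) := by rw [e]; exact hlRc k
        exact IsClosedImmersion.of_comp γ' (pullback.snd f (gk k) ∣_ R k)
      let φ : (W : Scheme.{u}) ⟶ O := IsOpenImmersion.lift O.ι (W.ι ≫ J.subschemeι ≫ Q k) (by
        rw [Scheme.Opens.range_ι]; rintro _ ⟨w, rfl⟩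
        show pullback.snd f (gk k) ((W.ι ≫ J.subschemeι ≫ Q k) w) ∈ R k
        rw [← Scheme.Hom.comp_apply]
        simp only [Category.assoc, Q, pullback.lift_snd]
        rw [Scheme.Hom.comp_apply]
        exact w.2)
      have hφ : φ ≫ O.ι = W.ι ≫ J.subschemeι ≫ Q k := IsOpenImmersion.lift_fac _ _ _
      obtain ⟨δ, hδ⟩ := exists_factor_reduced γ' φ (by
        rintro _ ⟨w, rfl⟩
        obtain ⟨v, hv⟩ := hgraph k w.1 (Or.inr w.2)
        refine ⟨v, O.ι.isEmbedding.injective ?_⟩
        rw [← Scheme.Hom.comp_apply, ← Scheme.Hom.comp_apply, hγ', hφ, hv]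
        rfl)
      have hδ' : δ ≫ γ k = W.ι ≫ J.subschemeι ≫ Q k := by rw [← hγ', ← Category.assoc, hδ, hφ]
      have hπW : δ ≫ 𝒰.f k.1 = W.ι ≫ π := by
        have h1 := congrArg (· ≫ pullback.fst f (gk k)) hδ'
        simp only [Category.assoc] at h1
        erw [pullback.lift_fst, pullback.lift_fst] at h1
        exact h1
      have hιW : δ ≫ lv k = W.ι ≫ ι ≫ q k := by
        have h1 := congrArg (· ≫ pullback.snd f (gk k)) hδ'
        simp only [Category.assoc] at h1
        erw [pullback.lift_snd, pullback.lift_snd] at h1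
        simpa [ι] using h1
      have hp'r : Set.range ((Yk k).ι ≫ p') ⊆ Set.range W.ι := by
        rw [Scheme.Opens.range_ι]; rintro _ ⟨w, rfl⟩
        show (ι ≫ q k) (p' w.1) ∈ R k
        rw [← Scheme.Hom.comp_apply, ← Category.assoc p', ← hpp, Category.assoc]
        exact w.2
      let r := IsOpenImmersion.lift W.ι ((Yk k).ι ≫ p) (by
        rw [Scheme.Opens.range_ι]; rintro _ ⟨w, rfl⟩
        show (ι ≫ q k) (p w.1) ∈ R k
        rw [← Scheme.Hom.comp_apply]
        exact w.2)
      let r' := IsOpenImmersion.lift W.ι ((Yk k).ι ≫ p') hp'r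
      have e1 : r ≫ W.ι = (Yk k).ι ≫ p := IsOpenImmersion.lift_fac _ _ _
      have e2 : r' ≫ W.ι = (Yk k).ι ≫ p' := IsOpenImmersion.lift_fac _ _ _
      haveI := hlRc k
      haveI : Mono (lv k) := by rw [← hlR k]; infer_instance
      have hrr : r ≫ δ = r' ≫ δ := by
        rw [← cancel_mono (lv k), Category.assoc, Category.assoc, hιW, reassoc_of% e1, reassoc_of% e2,
          ← Category.assoc p, hpp, Category.assoc]
      rw [← reassoc_of% e1, ← reassoc_of% e2, ← hπW, reassoc_of% hrr]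
    rw [← cancel_mono J.subschemeι]
    refine pullback.hom_ext ?_ ?_
    · rw [Category.assoc, Category.assoc]; exact hπp
    · rw [Category.assoc, Category.assoc]; exact hpp
  refine ⟨J.subscheme, T, π, ι, g, x', hπ, (IsClosedImmersion.iff_isProper_and_mono ι).2 ⟨hι, hmono⟩, hg, ?_, ?_⟩
  · rw [Category.assoc, ← pullback.condition, Category.assoc]
  · show π x' = x
    rw [Scheme.Hom.comp_apply, hx', hfy]

end Groth.EtPbc.Tower
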