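import Groth.Agent.EtPbc.ClosedEfface
import Groth.Agent.EtaleShriek.GeomNormal
import Groth.Agent.EtaleBase.NormalConst

/-!
# Normal schemes with algebraically closed function field and geometric points
-/

set_option autoImplicit false
set_option linter.style.haveILetI false

universe u

open CategoryTheory CategoryTheory.Limits AlgebraicGeometry Opposite TopologicalSpace IsLocalRing

namespace Groth.EtPbc.Plus

open Groth.EtaleBase Groth.EtPbc.ConstRestr

attribute [local instance] pull_preservesFiniteLimits

/-- Normal integral scheme with algebraically closed function field. -/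
structure IsPlus (W : Scheme.{u}) : Prop where
  integral : IsIntegral W
  normal : ∀ w : W, IsIntegrallyClosed (W.presheaf.stalk w)
  algClosed : haveI := integral; IsAlgClosed W.functionField

/-- Every point is the image of the generic point of such a scheme, integral over the given one. -/
theorem exists_plus {T : Scheme.{u}} [QuasiSeparatedSpace T] (x : T) :
    ∃ (Z : Scheme.{u}) (_ : IsIntegral Z) (p : Z ⟶ T) (_ : IsIntegralHom p),
      IsPlus Z ∧ p (genericPoint Z) = x := by
  let S : Closeds T := ⟨closure {x}, isClosed_closure⟩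
  let J := Scheme.IdealSheafData.vanishingIdeal S
  have hr : Set.range J.subschemeι = closure {x} := Groth.PropsBasic2.range_vanishingIdeal_subschemeι S
  have : _root_.AlgebraicGeometry.IsReduced J.subscheme := Groth.PropsBasic2.isReduced_vanishingIdeal_subscheme S
  obtain ⟨x', hx'⟩ : x ∈ Set.range J.subschemeι := hr ▸ subset_closure rfl
  have huniv : Set.univ = closure ({x'} : Set J.subscheme) := by
    refine (Set.eq_univ_of_forall fun z => ?_).symm
    rw [J.subschemeι.isEmbedding.closure_eq_preimage_closure_image, Set.image_singleton, hx', ← hr]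
    exact ⟨z, rfl⟩
  have : IrreducibleSpace J.subscheme := by
    rw [irreducibleSpace_def]
    show IsIrreducible (Set.univ : Set J.subscheme)
    rw [huniv]
    exact isIrreducible_singleton.closure
  have : IsIntegral J.subscheme := isIntegral_of_irreducibleSpace_of_isReduced _
  have : QuasiSeparatedSpace J.subscheme := quasiSeparatedSpace_of_quasiSeparated J.subschemeι
  let X := J.subscheme
  let K : Type u := AlgebraicClosure X.functionField
  let φ : X.functionField →+* K := algebraMap X.functionField K
  let g : Spec (CommRingCat.of K) ⟶ X := Spec.map (CommRingCat.ofHom φ) ≫ X.fromSpecStalk (genericPoint X)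
  have : QuasiCompact g := inferInstance
  have : QuasiSeparated g := inferInstance
  refine ⟨g.normalization, inferInstance, g.fromNormalization ≫ J.subschemeι, inferInstance,
    ⟨inferInstance, fun z => (Groth.Ega2Proj.isNormalScheme_normalization X K φ g rfl z).2, ?_⟩, ?_⟩
  · let j := (Scheme.stalkClosedPointTo g.toNormalization).hom
    have hinj : Function.Injective j := Groth.Ega2Proj.stalkClosedPointTo_toNormalization_injective X K g
    have hsurj : Function.Surjective j := fun y => by
      have : y ∈ Set.range j := (Groth.Ega2Proj.range_stalkClosedPointTo X K φ g rfl).symm ▸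
        (Algebra.IsIntegral.isIntegral (R := X.functionField) y :)
      exact this
    have e : g.toNormalization (closedPoint K) = genericPoint g.normalization :=
      Groth.Ega2Proj.toNormalization_closedPoint X K g
    let e₁ : K ≃+* g.normalization.functionField :=
      ((RingEquiv.ofBijective j ⟨hinj, hsurj⟩).symm).trans
        (g.normalization.presheaf.stalkCongr (Inseparable.of_eq e)).commRingCatIsoToRingEquiv
    exact IsAlgClosed.of_ringEquiv K _ e₁
  · rw [Scheme.Hom.comp_apply, Groth.Ega2Proj.fromNormalization_genericPoint X K φ g rfl]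
    have hgen : genericPoint X = x' :=
      ((genericPoint_spec X).eq (show IsGenericPoint x' (Set.univ : Set X) from huniv.symm))
    rw [hgen, hx']

variable {X : Scheme.{u}}

/-- Points of integral schemes over an algebraically closed field are rational. -/
theorem exists_section {Q : Scheme.{u}} {K : Type u} [Field K] [IsAlgClosed K]
    (q : Q ⟶ Spec (CommRingCat.of K)) [IsIntegralHom q] (c : Q) :
    ∃ s : Spec (CommRingCat.of K) ⟶ Q, s ≫ q = 𝟙 _ ∧ s default = c := by
  haveI : IsAffine Q := isAffine_of_isAffineHom q
  let e := Q.isoSpec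
  obtain ⟨φ, hφ⟩ := Spec.map_surjective (e.inv ≫ q)
  haveI : IsIntegralHom (Spec.map φ) := by rw [hφ]; infer_instance
  have hint : φ.hom.IsIntegral := IsIntegralHom.SpecMap_iff.1 ‹_›
  let P : Ideal Γ(Q, ⊤) := (e.hom.base c).asIdeal
  letI : Algebra K (Γ(Q, ⊤) ⧸ P) := ((Ideal.Quotient.mk P).comp φ.hom).toAlgebra
  haveI : Algebra.IsIntegral K (Γ(Q, ⊤) ⧸ P) := ⟨fun b => by
    obtain ⟨b, rfl⟩ := Ideal.Quotient.mk_surjective b
    exact (RingHom.IsIntegralElem.map (hint b) (Ideal.Quotient.mk P) :)⟩
  let σ : K ≃+* Γ(Q, ⊤) ⧸ P := RingEquiv.ofBijective (algebraMap K (Γ(Q, ⊤) ⧸ P))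
    IsAlgClosed.algebraMap_bijective_of_isIntegral
  let ψ : Γ(Q, ⊤) ⟶ CommRingCat.of K := CommRingCat.ofHom (σ.symm.toRingHom.comp (Ideal.Quotient.mk P))
  refine ⟨Spec.map ψ ≫ e.inv, ?_, ?_⟩
  · rw [Category.assoc, ← hφ, ← Spec.map_comp, ← Spec.map_id]
    exact congrArg Spec.map (CommRingCat.hom_ext (RingHom.ext fun a => σ.symm_apply_apply a))
  · rw [Scheme.Hom.comp_apply]
    apply e.hom.homeomorph.injective
    show e.hom.base (e.inv.base _) = _
    rw [← Scheme.Hom.comp_apply, e.inv_hom_id]
    show (Spec.map ψ).base default = e.hom.base c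
    refine PrimeSpectrum.ext (Ideal.ext fun a => ?_)
    let d : PrimeSpectrum K := (default : ↥(Spec (CommRingCat.of K)))
    show σ.symm (Ideal.Quotient.mk P a) ∈ d.asIdeal ↔ a ∈ P
    rw [show d.asIdeal = ⊥ from (Ideal.eq_bot_or_top _).resolve_right
      d.isPrime.ne_top, Ideal.mem_bot, map_eq_zero_iff _ σ.symm.injective,
      Ideal.Quotient.eq_zero_iff_mem]

/-- Lifting algebraically closed points along integral morphisms. -/
theorem exists_lift {W : Scheme.{u}} (p : W ⟶ X) [IsIntegralHom p] {K : Type u} [Field K] [IsAlgClosed K]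
    (ξ : Spec (CommRingCat.of K) ⟶ X) (w : W) (hw : p w = ξ default) :
    ∃ ζ : Spec (CommRingCat.of K) ⟶ W, ζ ≫ p = ξ ∧ ζ default = w := by
  obtain ⟨c, hc, -⟩ := Scheme.Pullback.exists_preimage_pullback (f := p) (g := ξ) w default hw
  haveI : IsIntegralHom (pullback.snd p ξ) := MorphismProperty.pullback_snd _ _ inferInstance
  obtain ⟨s, hs, hsc⟩ := exists_section (pullback.snd p ξ) c
  refine ⟨s ≫ pullback.fst p ξ, ?_, ?_⟩
  · rw [Category.assoc, pullback.condition, reassoc_of% hs]
  · rw [Scheme.Hom.comp_apply, hsc, hc]

/-- The restriction of constants is injective on stalks at points of the image. -/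
lemma injective_stalk_rpush {Y Y' : Scheme.{u}} (π : Y' ⟶ Y) (M : Type) [AddCommGroup M] (z : Y') :
    Function.Injective ((EtCoh.stalk (geomPoint z ≫ π)).map (rpush M π)) := by
  have h1 : Mono ((EtCoh.pull π).map (rpush M π)) :=
    @mono_of_mono_fac _ _ _ _ _ _ _ _ inferInstance (pull_rpush_counit M π)
  have h2 : Mono ((EtCoh.pull π ⋙ EtCoh.stalk (geomPoint z)).map (rpush M π)) :=
    inferInstanceAs (Mono ((EtCoh.stalk (geomPoint z)).map ((EtCoh.pull π).map (rpush M π))))
  have h3 : Mono ((EtCoh.stalk (geomPoint z ≫ π)).map (rpush M π)) := by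
    rw [← NatIso.naturality_2 (stalkPullIso π (geomPoint z)) (rpush M π)]
    infer_instance
  exact (AddCommGrpCat.mono_iff_injective _).1 h3

/-- On such schemes constants are pushed forward from the generic point. -/
theorem isIso_rpush_generic {W : Scheme.{u}} [IsIntegral W] (hW : IsPlus W) (M : Type) [AddCommGroup M] :
    IsIso (rpush M (W.fromSpecStalk (genericPoint W))) := by
  let j := W.fromSpecStalk (genericPoint W)
  haveI : IsPreimmersion j := inferInstanceAs (IsPreimmersion (W.fromSpecStalk (genericPoint W)))
  haveI := NormalConst.isIso_unit j (EtCoh.const W M) _ hW.normal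
    (LocConst.exists_stalkBij_const (EtCoh.top W) (ULift.{u + 1} M))
    ⟨IsLocalRing.closedPoint _, Scheme.fromSpecStalk_closedPoint⟩
  rw [rpush, Adjunction.homEquiv_unit]
  infer_instance

/-- Constants embed into the direct image from the generic geometric point. -/
theorem mono_rpush_generic {W : Scheme.{u}} [IsIntegral W] (hW : IsPlus W) {K : Type u} [Field K]
    (ζ : Spec (CommRingCat.of K) ⟶ W) (hζ : ζ default = genericPoint W)
    (M : Type) [AddCommGroup M] : Mono (rpush M ζ) := by
  let j := W.fromSpecStalk (genericPoint W)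
  haveI : IsPreimmersion j := inferInstanceAs (IsPreimmersion (W.fromSpecStalk (genericPoint W)))
  haveI := NormalConst.isIso_unit j (EtCoh.const W M) _ hW.normal
    (LocConst.exists_stalkBij_const (EtCoh.top W) (ULift.{u + 1} M))
    ⟨IsLocalRing.closedPoint _, Scheme.fromSpecStalk_closedPoint⟩
  haveI : IsIso (rpush M j) := by
    rw [rpush, Adjunction.homEquiv_unit]
    infer_instance
  have hr : Set.range ζ.base ⊆ Set.range j.base := by
    rintro _ ⟨z, rfl⟩
    rw [Scheme.range_fromSpecStalk, show z = default from Subsingleton.elim _ _, hζ]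
    exact specializes_refl _
  haveI : QuasiCompact ζ := inferInstance
  have hζ' : ζ (closedPoint K) = genericPoint W :=
    (congrArg ζ.base (Subsingleton.elim (α := ↥(Spec (CommRingCat.of K))) _ default)).trans hζ
  let s : Spec (CommRingCat.of K) ⟶ Spec (W.presheaf.stalk (genericPoint W)) :=
    Spec.map ((W.presheaf.stalkCongr (Inseparable.of_eq hζ')).inv ≫ Scheme.stalkClosedPointTo ζ)
  have hs : s ≫ j = ζ := by
    simp only [s, Spec.map_comp, Category.assoc, j]
    rw [TopCat.Presheaf.stalkCongr_inv, Scheme.SpecMap_stalkSpecializes_fromSpecStalk]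
    exact Scheme.Spec_stalkClosedPointTo_fromSpecStalk ζ
  haveI : Surjective s := ⟨fun z => ⟨default, by
    letI : Field (W.presheaf.stalk (genericPoint W)) := inferInstanceAs (Field W.functionField)
    exact Subsingleton.elim (α := PrimeSpectrum (W.presheaf.stalk (genericPoint W))) _ _⟩⟩
  suffices h : Mono (rpush M (s ≫ j)) by rw [← hs]; exact h
  rw [← rpush_trans M s j]
  haveI : (EtCoh.push j).PreservesMonomorphisms :=
    Functor.preservesMonomorphisms_of_adjunction (EtCoh.pullPushAdj j)
  haveI := ClosedEfface.mono_rpush s M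
  haveI : Mono (ConstRestr.trans M s j) := by unfold ConstRestr.trans; infer_instance
  infer_instance

end Groth.EtPbc.Plus
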