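import Groth.Agent.EtPbc.GabberAffine
import Groth.Agent.EtPbc.Proper.PlusScheme
import Groth.Agent.Misc3Zar.GenPoint

/-!
# Comparison with a closed subscheme: criterion through geometric points

For a closed immersion `i : Z ⟶ X` the maps `H^q(X, F) → H^q(X, i₊i⁻¹F)` are bijective for all torsion
sheaves as soon as this holds in degree zero and, at every point of `X`, the direct image of finite
constant sheaves from some geometric point is acyclic on `Z`.
-/

set_option autoImplicit false
set_option linter.style.haveILetI false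

universe u

open CategoryTheory CategoryTheory.Limits CategoryTheory.Abelian AlgebraicGeometry Opposite

namespace Groth.EtPbc.PBC

open Groth.EtaleBase Groth.EtPbc.ConstRestr

attribute [local instance] pull_preservesFiniteLimits

variable {X Z : Scheme.{u}} (i : Z ⟶ X)

/-- Global sections agree on the closed subscheme. -/
def H0 : Prop := ∀ F : EtCoh.Ab X, Function.Bijective (ConnFib.un i F (EtCoh.top X))

/-- Cohomology of torsion sheaves agrees on the closed subscheme. -/
def Holds : Prop := ∀ (q : ℕ) (F : EtCoh.Ab X), EtCoh.IsTorsion F →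
  Function.Bijective (Sheaf.H.map ((EtCoh.pullPushAdj i).unit.app F) q)

/-- The direct images of finite constant sheaves from the point have no higher cohomology on `Z`. -/
def Acyc {K : Type u} [Field K] (ξ : Spec (CommRingCat.of K) ⟶ X) : Prop :=
  ∀ (M : Type) [AddCommGroup M] [Finite M] (n : ℕ), Subsingleton
    (EtCoh.H Z ((EtCoh.pull i).obj ((EtCoh.push ξ).obj (EtCoh.const (Spec (CommRingCat.of K)) M))) (n + 1))

/-- Some geometric point at the given point is acyclic on `Z`. -/
def Good (x : X) : Prop :=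
  ∃ (K : Type u) (_ : Field K) (_ : IsAlgClosed K) (ξ : Spec (CommRingCat.of K) ⟶ X),
    ξ default = x ∧ Acyc i ξ

/-- Constructible sheaves embed into torsion sheaves acyclic on `X` and on `Z`. -/
def Emb : Prop :=
  ∀ C : EtCoh.Ab X, EtPBC.IsConstructible C → ∃ (G : EtCoh.Ab X) (m : C ⟶ G), Mono m ∧ EtCoh.IsTorsion G ∧
    (∀ n : ℕ, Subsingleton (EtCoh.H X G (n + 1))) ∧
    ∀ n : ℕ, Subsingleton (EtCoh.H Z ((EtCoh.pull i).obj G) (n + 1))

/-- Classes are effaced by injective maps of torsion sheaves. -/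
theorem exists_efface {X Z : Scheme.{u}} (i : Z ⟶ X) [CompactSpace X] [QuasiSeparatedSpace X]
    [QuasiCompact i] [QuasiSeparated i]
    (hemb : ∀ C : EtCoh.Ab X, EtPBC.IsConstructible C → ∃ (G : EtCoh.Ab X) (m : C ⟶ G), Mono m ∧ EtCoh.IsTorsion G ∧
      ∀ n : ℕ, Subsingleton (EtCoh.H Z ((EtCoh.pull i).obj G) (n + 1)))
    (F : EtCoh.Ab X) (hF : EtCoh.IsTorsion F) (n : ℕ)
    (ξ : EtCoh.H Z ((EtCoh.pull i).obj F) (n + 1)) :
    ∃ (F' : EtCoh.Ab X) (_ : EtCoh.IsTorsion F') (φ : F ⟶ F') (_ : Mono φ),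
      (EtCoh.HF Z (n + 1)).map ((EtCoh.pull i).map φ) ξ = 0 := by
  obtain ⟨hcol⟩ := Groth.EtaleDeep.Cons.nonempty_isColimit_presCocone hF
  haveI : PreservesColimitsOfSize.{u + 1, u + 1} (EtCoh.pull i) :=
    (EtCoh.pullPushAdj i).leftAdjoint_preservesColimits
  haveI : CompactSpace Z := QuasiCompact.compactSpace_of_compactSpace i
  haveI : QuasiSeparatedSpace Z := quasiSeparatedSpace_of_quasiSeparated i
  haveI := Groth.FlatMor2.ColimCoh.Etale.preservesColimitsOfShape_HF Z
    (Groth.EtaleDeep.Cons.PresCat F) (n + 1)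
  obtain ⟨P, η, hη⟩ := Types.jointly_surjective _
    (isColimitOfPreserves (EtCoh.pull i ⋙ EtCoh.HF Z (n + 1) ⋙ CategoryTheory.forget AddCommGrpCat.{u + 1}) hcol) ξ
  change (EtCoh.HF Z (n + 1)).map ((EtCoh.pull i).map
    ((Groth.EtaleDeep.Cons.presCocone F).ι.app P)) η = ξ at hη
  let C := (Groth.EtaleDeep.Cons.presDiag F).obj P
  let f : C ⟶ F := (Groth.EtaleDeep.Cons.presCocone F).ι.app P
  obtain ⟨G, m, hm, hGt, hG⟩ :=
    hemb _ (Groth.EtaleDeep.Cons.isConstructible_presDiag P)
  haveI := hm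
  refine ⟨pushout m f, ?_, pushout.inr m f, inferInstance, ?_⟩
  · refine Torsion.isTorsion_of_stalks fun x a => ?_
    let S := EtCoh.stalk (geomPoint x)
    let d : G ⊞ F ⟶ pushout m f := biprod.desc (pushout.inl m f) (pushout.inr m f)
    haveI : Epi d := ⟨fun p q h => pushout.hom_ext
      (by simpa [d] using congrArg (biprod.inl ≫ ·) h) (by simpa [d] using congrArg (biprod.inr ≫ ·) h)⟩
    haveI : Epi (S.map d) := inferInstance
    obtain ⟨b, rfl⟩ := (AddCommGrpCat.epi_iff_surjective _).1 ‹Epi (S.map d)› a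
    have hd : d = biprod.fst ≫ pushout.inl m f + biprod.snd ≫ pushout.inr m f := biprod.desc_eq
    rw [hd, Functor.map_add, AddCommGrpCat.hom_add_apply, Functor.map_comp, Functor.map_comp,
      ConcreteCategory.comp_apply, ConcreteCategory.comp_apply]
    exact (AddCommute.all _ _).isOfFinAddOrder_add
      (AddMonoidHom.isOfFinAddOrder _ (Torsion.isAddTorsion_stalk hGt (geomPoint x) _))
      (AddMonoidHom.isOfFinAddOrder _ (Torsion.isAddTorsion_stalk hF (geomPoint x) _))
  · let L := EtCoh.pull i ⋙ EtCoh.HF Z (n + 1)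
    let η' : L.obj C := η
    have hη' : L.map f η' = ξ := hη
    show L.map (pushout.inr m f) ξ = 0
    have hz : L.map m η' = 0 := @Subsingleton.elim _ (hG n) _ _
    rw [← hη', ← ConcreteCategory.comp_apply, ← Functor.map_comp,
      show f ≫ pushout.inr m f = m ≫ pushout.inl m f from pushout.condition.symm, Functor.map_comp,
      ConcreteCategory.comp_apply, hz, map_zero]


theorem exists_efface_self {X Z : Scheme.{u}} (i : Z ⟶ X) [CompactSpace X] [QuasiSeparatedSpace X]
    (hemb : Emb i) (F : EtCoh.Ab X) (hF : EtCoh.IsTorsion F) (n : ℕ) (ξ : EtCoh.H X F (n + 1)) :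
    ∃ (F' : EtCoh.Ab X) (_ : EtCoh.IsTorsion F') (φ : F ⟶ F') (_ : Mono φ),
      ξ.comp (Ext.mk₀ φ) (add_zero (n + 1)) = 0 := by
  have h1 : ∀ C : EtCoh.Ab X, EtPBC.IsConstructible C → ∃ (G : EtCoh.Ab X) (m : C ⟶ G), Mono m ∧
      EtCoh.IsTorsion G ∧ ∀ n : ℕ, Subsingleton (EtCoh.H X ((EtCoh.pull (𝟙 X)).obj G) (n + 1)) := by
    intro C hC
    obtain ⟨G, m, hm, hG, hX, -⟩ := hemb C hC
    exact ⟨G, m, hm, hG, fun k => @Function.Surjective.subsingleton _ _ _ (hX k)
      (InjCoh.Hpull_bijective_univHomeo (𝟙 X) G (k + 1)).2⟩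
  obtain ⟨F', hF', φ, hφ, h⟩ := exists_efface (𝟙 X) h1 F hF n (EtCore.Hpull (𝟙 X) F (n + 1) ξ)
  refine ⟨F', hF', φ, hφ, (InjCoh.Hpull_bijective_univHomeo (𝟙 X) F' (n + 1)).1 ?_⟩
  rw [EtLimit.Hpull_map, map_zero]
  exact h

variable [IsClosedImmersion i]

/-- Bijectivity in all degrees, from degree zero and the embedding property. -/
theorem holds_of_emb [CompactSpace X] [QuasiSeparatedSpace X] (h0 : H0 i) (hemb : Emb i) :
    Holds i := by
  intro q
  induction q with
  | zero =>
    intro F _
    let η := (EtCoh.pullPushAdj i).unit.app F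
    have hb : Function.Bijective (η.hom.app (op (EtCoh.top X))) := h0 F
    have e : ∀ x, Sheaf.H.map η 0 x = (Sheaf.H.equiv₀ _ (EtCore.topIsTerminal X)).symm
        (η.hom.app (op (EtCoh.top X)) (Sheaf.H.equiv₀ F (EtCore.topIsTerminal X) x)) := fun x => by
      exact ((Sheaf.H.equiv₀ _ (EtCore.topIsTerminal X)).symm_apply_apply _).symm.trans
        (congrArg _ (Sheaf.H.equiv₀_naturality (hT := EtCore.topIsTerminal X) η x).symm)
    rw [show ⇑(Sheaf.H.map η 0) = _ from funext e]
    exact (AddEquiv.bijective _).comp (hb.comp (AddEquiv.bijective _))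
  | succ n ih =>
    haveI : (EtCoh.push i).PreservesEpimorphisms := push_preservesEpimorphisms i
    let T := EtCoh.pull i ⋙ EtCoh.push i
    haveI : (EtCoh.push i).PreservesMonomorphisms :=
      Functor.preservesMonomorphisms_of_adjunction (EtCoh.pullPushAdj i)
    haveI : PreservesFiniteLimits (EtCoh.push i) :=
      have : PreservesLimitsOfSize.{0, 0} (EtCoh.push i) := (EtCoh.pullPushAdj i).rightAdjoint_preservesLimits
      PreservesLimitsOfSize.preservesFiniteLimits _
    haveI : PreservesFiniteColimits (EtCoh.push i) := by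
      haveI := (EtCoh.push i).preservesHomology_of_preservesEpis_and_kernels
      exact Functor.preservesFiniteColimits_of_preservesHomology _
    have hT : ∀ {S : ShortComplex (EtCoh.Ab X)}, S.ShortExact →
        ((S.map (EtCoh.pull i)).map (EtCoh.push i)).ShortExact := fun hS =>
      (hS.map_of_exact (EtCoh.pull i)).map_of_exact (EtCoh.push i)
    intro F hF
    let η := (EtCoh.pullPushAdj i).unit
    -- a short exact sequence starting with a given injection
    have seq : ∀ {F' : EtCoh.Ab X} (φ : F ⟶ F') [Mono φ],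
        ∃ (S : ShortComplex (EtCoh.Ab X)) (_ : S.ShortExact) (e₁ : S.X₁ = F) (e₂ : S.X₂ = F'),
          S.f = eqToHom e₁ ≫ φ ≫ eqToHom e₂.symm := fun φ _ =>
      ⟨ShortComplex.mk φ (cokernel.π φ) (cokernel.condition φ),
        ShortComplex.ShortExact.mk' (ShortComplex.exact_of_g_is_cokernel _ (cokernelIsCokernel φ))
          inferInstance inferInstance, rfl, rfl, by simp⟩
    constructor
    · rw [injective_iff_map_eq_zero]
      intro ξ hξ
      obtain ⟨F', hF', φ, hφ, hz⟩ := exists_efface_self i hemb F hF n ξ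
      obtain ⟨S, hS, rfl, rfl, hf⟩ := seq φ
      rw [eqToHom_refl, eqToHom_refl, Category.id_comp, Category.comp_id] at hf
      subst hf
      haveI := hS.epi_g
      obtain ⟨a, rfl⟩ := Ext.covariant_sequence_exact₁ _ hS ξ hz rfl
      let τ : S ⟶ (S.map (EtCoh.pull i)).map (EtCoh.push i) :=
        { τ₁ := η.app S.X₁
          τ₂ := η.app S.X₂
          τ₃ := η.app S.X₃
          comm₁₂ := (η.naturality S.f).symm
          comm₂₃ := (η.naturality S.g).symm }
      have hδ : (Sheaf.H.map (η.app S.X₃) n a).comp (hT hS).extClass rfl = 0 := by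
        refine Eq.trans ?_ hξ
        show (Ext.comp a (Ext.mk₀ τ.τ₃) (add_zero n)).comp (hT hS).extClass rfl =
          (Ext.comp a hS.extClass rfl).comp (Ext.mk₀ τ.τ₁) (add_zero (n + 1))
        rw [Ext.comp_assoc_of_second_deg_zero, ← ShortComplex.ShortExact.extClass_naturality hS (hT hS) τ,
          Ext.comp_assoc_of_third_deg_zero]
      obtain ⟨b, hb⟩ := Ext.covariant_sequence_exact₃ _ (hT hS) _ rfl hδ
      obtain ⟨b', hb'⟩ := (ih S.X₂ hF').2 b
      have ha : a = Ext.comp b' (Ext.mk₀ S.g) (add_zero n) := by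
        refine (ih S.X₃ (GabberAffine.isTorsion_of_epi S.g hF')).1 ?_
        refine hb.symm.trans ?_
        rw [← hb']
        show (Ext.comp b' (Ext.mk₀ τ.τ₂) (add_zero n)).comp (Ext.mk₀ _) (add_zero n) =
          (Ext.comp b' (Ext.mk₀ S.g) (add_zero n)).comp (Ext.mk₀ τ.τ₃) (add_zero n)
        simp only [Ext.comp_assoc_of_third_deg_zero, Ext.mk₀_comp_mk₀]
        exact congrArg (fun z => Ext.comp b' (Ext.mk₀ z) (add_zero n)) τ.comm₂₃
      rw [ha, Ext.comp_assoc_of_second_deg_zero, hS.comp_extClass, Ext.comp_zero]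
    · intro ζ
      obtain ⟨F', hF', φ, hφ, hz⟩ := exists_efface i (fun C hC => (hemb C hC).imp fun G h => h.imp fun m h => ⟨h.1, h.2.1, h.2.2.2⟩) F hF n (EtLim.HofPush i _ (n + 1) ζ)
      have hzero : Ext.comp ζ (Ext.mk₀ ((EtCoh.push i).map ((EtCoh.pull i).map φ))) (add_zero (n + 1)) = 0 := by
        refine (ClosedMV.hofPush_bijective i _ (n + 1)).1 ?_
        rw [GabberAffine.hofPush_map, map_zero]
        exact hz
      obtain ⟨S, hS, rfl, rfl, hf⟩ := seq φ
      rw [eqToHom_refl, eqToHom_refl, Category.id_comp, Category.comp_id] at hf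
      subst hf
      haveI := hS.epi_g
      let τ : S ⟶ (S.map (EtCoh.pull i)).map (EtCoh.push i) :=
        { τ₁ := η.app S.X₁
          τ₂ := η.app S.X₂
          τ₃ := η.app S.X₃
          comm₁₂ := (η.naturality S.f).symm
          comm₂₃ := (η.naturality S.g).symm }
      obtain ⟨c, rfl⟩ := Ext.covariant_sequence_exact₁ _ (hT hS) ζ hzero rfl
      obtain ⟨a, rfl⟩ := (ih S.X₃ (GabberAffine.isTorsion_of_epi S.g hF')).2 c
      refine ⟨Ext.comp a hS.extClass rfl, ?_⟩
      show (Ext.comp a hS.extClass rfl).comp (Ext.mk₀ τ.τ₁) (add_zero (n + 1)) =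
        (Ext.comp a (Ext.mk₀ τ.τ₃) (add_zero n)).comp (hT hS).extClass rfl
      rw [Ext.comp_assoc_of_second_deg_zero, ← ShortComplex.ShortExact.extClass_naturality hS (hT hS) τ,
        Ext.comp_assoc_of_third_deg_zero]


/-- Direct images from separably closed points are torsion for finite coefficients. -/
theorem isTorsion_push' {X Y : Scheme.{u}} (f : X ⟶ Y) [QuasiCompact f] [QuasiSeparated f]
    {F : EtCoh.Ab X} (hF : EtCoh.IsTorsion F) : EtCoh.IsTorsion ((EtCoh.push f).obj F) := by
  refine Torsion.isTorsion_of_stalks fun y => ?_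
  haveI : PreservesFiniteLimits (EtCoh.push f) :=
    (EtCoh.pullPushAdj f).rightAdjoint_preservesLimits.{0, 0}.preservesFiniteLimits
  exact Torsion.isAddTorsion_of_iso ((EtCoh.stalk (geomPoint y)).mapIso
    ((EtCoh.push f).rightDerivedZeroIsoSelf.app F))
    (Torsion.isAddTorsion_stalk (Torsion.isTorsion_Rpush f hF 0) (geomPoint y))

section point

variable {K : Type u} [Field K] [IsSepClosed K]

/-- Higher direct images from a separably closed point vanish. -/
theorem isZero_Rpush_point (ξ : Spec (CommRingCat.of K) ⟶ X) (G : EtCoh.Ab (Spec (CommRingCat.of K)))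
    (q : ℕ) (hq : 0 < q) : IsZero ((EtCoh.Rpush ξ q).obj G) := by
  obtain ⟨k, rfl⟩ : ∃ k, q = k + 1 := ⟨q - 1, by omega⟩
  have : PreservesFiniteLimits (EtCoh.push ξ) :=
    (EtCoh.pullPushAdj ξ).rightAdjoint_preservesLimits.{0, 0}.preservesFiniteLimits
  haveI : (EtCoh.push ξ).Additive := (EtCoh.pullPushAdj ξ).right_adjoint_additive
  haveI : (EtCoh.push ξ).PreservesEpimorphisms := ⟨fun {A B} φ hφ => by
    let D := ShortComplex.mk (kernel.ι φ) φ (kernel.condition _)
    have hD : D.ShortExact := ⟨ShortComplex.exact_of_f_is_kernel D (kernelIsKernel _)⟩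
    exact (Groth.Misc3Zar.GenPt.shortExact_push ξ hD).epi_g⟩
  haveI := (EtCoh.push ξ).preservesHomology_of_preservesEpis_and_kernels
  exact isZero_rightDerived_of_preservesHomology _ G k

/-- Direct images from separably closed points have no higher cohomology. -/
theorem subsingleton_H_push_point (ξ : Spec (CommRingCat.of K) ⟶ X)
    (G : EtCoh.Ab (Spec (CommRingCat.of K))) (n : ℕ) :
    Subsingleton (EtCoh.H X ((EtCoh.push ξ).obj G) (n + 1)) := by
  haveI : IsSepClosed (IsLocalRing.ResidueField K) :=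
    NormalEt.isSepClosed_of_ringEquiv (RingEquiv.ofBijective (IsLocalRing.residue K)
      ⟨(IsLocalRing.residue K).injective, IsLocalRing.residue_surjective⟩)
  haveI := H_subsingleton (R := K) (𝟙 (Spec (CommRingCat.of K))) G (n + 1) (Nat.le_add_left 1 n)
  exact (InjCoh.HofPush_bijective ξ G (isZero_Rpush_point ξ G) (n + 1)).1.subsingleton

end point

/-- Finite sums of torsion sheaves are torsion. -/
theorem isTorsion_biproduct {m : ℕ} (P : Fin m → EtCoh.Ab X) (h : ∀ j, EtCoh.IsTorsion (P j)) :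
    EtCoh.IsTorsion (⨁ P) := by
  refine Torsion.isTorsion_of_stalks fun x a => ?_
  have e : (EtCoh.stalk (geomPoint x)).map (∑ j, biproduct.π P j ≫ biproduct.ι P j) = 𝟙 _ := by
    rw [biproduct.total, CategoryTheory.Functor.map_id]
  rw [Functor.map_sum] at e
  let ev : ((EtCoh.stalk (geomPoint x)).obj (⨁ P) ⟶ (EtCoh.stalk (geomPoint x)).obj (⨁ P)) →+
      (EtCoh.stalk (geomPoint x)).obj (⨁ P) := AddMonoidHom.mk' (fun h => h a) fun _ _ => rfl
  have ea : ∑ j, (EtCoh.stalk (geomPoint x)).map (biproduct.π P j ≫ biproduct.ι P j) a = a :=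
    (map_sum ev _ _).symm.trans (congrArg ev e)
  rw [← ea]
  refine Finset.sum_induction _ IsOfFinAddOrder (fun a b ha hb => (AddCommute.all a b).isOfFinAddOrder_add ha hb)
    IsOfFinAddOrder.zero fun j _ => ?_
  rw [Functor.map_comp, ConcreteCategory.comp_apply]
  exact AddMonoidHom.isOfFinAddOrder _ (Torsion.isAddTorsion_stalk (h j) (geomPoint x) _)

omit [IsClosedImmersion i] in
/-- The embedding property from acyclic geometric points at all points. -/
theorem emb_of_good [IsNoetherian X] (hg : ∀ x, Good i x) : Emb i := by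
  intro C hC
  classical
  obtain ⟨k, Y, f, hf, -, M, hMg, hM, ι, hι⟩ := ConsEmbed.exists_embedding hC
  haveI := hι
  haveI : ∀ j, IsLocallyNoetherian (Y j) := fun j => LocallyOfFiniteType.isLocallyNoetherian (f j)
  haveI : ∀ j, CompactSpace (Y j) := fun j => QuasiCompact.compactSpace_of_compactSpace (f j)
  haveI : ∀ j, IsNoetherian (Y j) := fun j => ⟨⟩
  have hY : ∀ j, ∃ (m : ℕ) (K : Fin m → Type u) (_ : ∀ l, Field (K l)) (_ : ∀ l, IsAlgClosed (K l))
      (ξ : ∀ l, Spec (CommRingCat.of (K l)) ⟶ X) (_ : ∀ l, Acyc i (ξ l))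
      (τ : (EtCoh.push (f j)).obj (EtCoh.const (Y j) (M j)) ⟶
        ⨁ fun l => (EtCoh.push (ξ l)).obj (EtCoh.const (Spec (CommRingCat.of (K l))) (M j))), Mono τ := by
    intro j
    haveI : QuasiSeparatedSpace (Y j) := quasiSeparatedSpace_of_quasiSeparated (f j)
    let S : Set (Set (Y j)) := irreducibleComponents (Y j)
    have hS : S.Finite := TopologicalSpace.NoetherianSpace.finite_irreducibleComponents
    haveI : Fintype S := hS.fintype
    let η : Fin (Fintype.card S) → Y j := fun l =>
      (((Fintype.equivFin S).symm l).2.1).genericPoint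
    have hη : ∀ y : Y j, ∃ l, η l ⤳ y := fun y => by
      let T : S := ⟨irreducibleComponent y, irreducibleComponent_mem_irreducibleComponents y⟩
      refine ⟨Fintype.equivFin S T, ?_⟩
      simp only [η, Equiv.symm_apply_apply]
      exact (IsIrreducible.isGenericPoint_genericPoint _ isClosed_irreducibleComponent).specializes
        mem_irreducibleComponent
    choose W hWi p hp hW hpW using fun l => Plus.exists_plus (η l)
    choose K hKf hKa ξ hξx hξ using fun l => hg ((f j) (η l))
    have hlift : ∀ l, ∃ ζ : Spec (CommRingCat.of (K l)) ⟶ W l,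
        ζ ≫ p l ≫ f j = ξ l ∧ ζ default = genericPoint (W l) := fun l => by
      haveI := hKa l
      haveI := hp l
      exact Plus.exists_lift (p l ≫ f j) (ξ l) _
        (by rw [Scheme.Hom.comp_apply, hpW, hξx])
    choose ζ hζ hζg using hlift
    refine ⟨_, K, hKf, hKa, ξ, hξ, ?_⟩
    let u : ∀ l, EtCoh.const (Y j) (M j) ⟶ (EtCoh.push (ζ l ≫ p l)).obj (EtCoh.const _ (M j)) := fun l =>
      rpush (M j) (ζ l ≫ p l)
    let e : ∀ l, (EtCoh.push (f j)).obj ((EtCoh.push (ζ l ≫ p l)).obj (EtCoh.const _ (M j))) ≅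
        (EtCoh.push (ξ l)).obj (EtCoh.const (Spec (CommRingCat.of (K l))) (M j)) := fun l =>
      (EtCoh.pushComp (f j) (ζ l ≫ p l)).app _ ≪≫
        (EtCoh.pushCongr (((Category.assoc _ _ _).trans (hζ l)))).app _
    refine ⟨biproduct.lift fun l => (EtCoh.push (f j)).map (u l) ≫ (e l).hom, ?_⟩
    haveI : Mono (biproduct.lift u) := by
      refine mono_of_exists_stalk_injective _ fun y => ?_
      obtain ⟨l, hl⟩ := hη y
      haveI := hWi l
      haveI := hp l
      obtain ⟨w, hw⟩ : y ∈ Set.range (p l).base := by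
        have hc := (p l).isClosedMap.isClosed_range
        exact hl.mem_closed hc ⟨_, hpW l⟩
      haveI : Mono (rpush (M j) (ζ l)) := Plus.mono_rpush_generic (hW l) (ζ l) (hζg l) (M j)
      haveI : (EtCoh.push (p l)).PreservesMonomorphisms :=
        Functor.preservesMonomorphisms_of_adjunction (EtCoh.pullPushAdj (p l))
      haveI : Mono (ConstRestr.trans (M j) (ζ l) (p l)) := by unfold ConstRestr.trans; infer_instance
      refine ⟨_, _, inferInstance, geomPoint w ≫ p l, ?_, fun a b hab => ?_⟩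
      · rw [Scheme.Hom.comp_apply, geomPoint_apply]; exact hw
      have h1 := congrArg ((EtCoh.stalk (geomPoint w ≫ p l)).map (biproduct.π _ l)) hab
      rw [← ConcreteCategory.comp_apply, ← ConcreteCategory.comp_apply, ← Functor.map_comp,
        biproduct.lift_π] at h1
      simp only [u, ← rpush_trans (M j) (ζ l) (p l), Functor.map_comp, ConcreteCategory.comp_apply] at h1
      refine Plus.injective_stalk_rpush (p l) (M j) w ?_
      exact (AddCommGrpCat.mono_iff_injective _).1
        (inferInstance : Mono ((EtCoh.stalk (geomPoint w ≫ p l)).map (ConstRestr.trans (M j) (ζ l) (p l)))) h1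
    haveI : (EtCoh.push (f j)).PreservesMonomorphisms :=
      Functor.preservesMonomorphisms_of_adjunction (EtCoh.pullPushAdj (f j))
    haveI : (EtCoh.push (f j)).Additive := (EtCoh.pullPushAdj (f j)).right_adjoint_additive
    let Q := fun l => (EtCoh.push (ζ l ≫ p l)).obj (EtCoh.const (Spec (CommRingCat.of (K l))) (M j))
    have e1 : (biproduct.lift fun l => (EtCoh.push (f j)).map (u l) ≫ (e l).hom) =
        (EtCoh.push (f j)).map (biproduct.lift u) ≫ ((EtCoh.push (f j)).mapBiproduct Q).hom ≫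
          biproduct.map fun l => (e l).hom := biproduct.hom_ext _ _ fun l => by
      simp only [Category.assoc, biproduct.lift_π, biproduct.map_π, Functor.mapBiproduct_hom]
      erw [biproduct.lift_π_assoc]
      rw [← Category.assoc, ← Functor.map_comp]
      erw [biproduct.lift_π]
    rw [e1]
    haveI : IsIso (biproduct.map fun l => (e l).hom) := (biproduct.mapIso e).isIso_hom
    infer_instance
  choose m K hKf hKa ξ hξ τ hτ using hY
  let G : Fin k → EtCoh.Ab X := fun j =>
    ⨁ fun l => (EtCoh.push (ξ j l)).obj (EtCoh.const (Spec (CommRingCat.of (K j l))) (M j))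
  refine ⟨⨁ G, ι ≫ biproduct.map τ, ?_, ?_, ?_, ?_⟩
  · haveI := hτ; infer_instance
  · refine isTorsion_biproduct _ fun j => isTorsion_biproduct _ fun l => ?_
    exact isTorsion_push' _ (ClosedEfface.isTorsion_const (M j))
  · intro n
    exact ClosedEfface.subsingleton_H_sum (Z := X) (𝟭 _) G (n + 1) fun j =>
      ClosedEfface.subsingleton_H_sum (Z := X) (𝟭 _) _ (n + 1) fun l => by
        haveI := hKa j l
        exact subsingleton_H_push_point (ξ j l) _ n
  · intro n
    exact ClosedEfface.subsingleton_H_sum (EtCoh.pull i) G (n + 1) fun j =>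
      ClosedEfface.subsingleton_H_sum (EtCoh.pull i) _ (n + 1) fun l => hξ j l (M j) n

/-- The criterion. -/
theorem holds_of_good [IsNoetherian X] (h0 : H0 i) (hg : ∀ x, Good i x) : Holds i :=
  holds_of_emb i h0 (emb_of_good i hg)

end Groth.EtPbc.PBC
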