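import Groth.Agent.EtPbc.Proper.ChowLite
import Groth.Agent.Limits.ProperModel

/-!
# The closed fibre of a proper scheme over a local ring as a limit of fibres over points
-/

set_option autoImplicit false
set_option linter.style.haveILetI false

universe u

open CategoryTheory CategoryTheory.Limits AlgebraicGeometry Opposite

namespace Groth.EtPbc.FieldLimit

open Groth.EtPbc.Tower

variable {T : Scheme.{u}}

/-- A field valued point factors through the residue field of its image. -/
theorem exists_factor {K : Type u} [Field K] (r : Spec (CommRingCat.of K) ⟶ T) (x : T) (hx : r default = x) :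
    ∃ θ : T.residueField x ⟶ CommRingCat.of K, Spec.map θ ≫ T.fromSpecResidueField x = r := by
  obtain rfl : r (IsLocalRing.closedPoint K) = x :=
    (congrArg r.base (Subsingleton.elim (α := PrimeSpectrum K) _ _)).trans hx
  exact ⟨_, Scheme.descResidueField_stalkClosedPointTo_fromSpecResidueField K T r⟩

/-- Such factorizations are unique. -/
theorem factor_ext {x : T} {R : CommRingCat.{u}} {θ θ' : T.residueField x ⟶ R}
    (h : Spec.map θ ≫ T.fromSpecResidueField x = Spec.map θ' ≫ T.fromSpecResidueField x) : θ = θ' :=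
  Spec.map_injective ((cancel_mono _).1 h)

variable {A : Type u} [CommRing A] [IsLocalRing A]

/-- The closed point, as a field valued point. -/
noncomputable abbrev closedPt (A : Type u) [CommRing A] [IsLocalRing A] :
    Spec (CommRingCat.of (IsLocalRing.ResidueField A)) ⟶ Spec (CommRingCat.of A) :=
  Spec.map (CommRingCat.ofHom (IsLocalRing.residue A))

theorem closedPt_apply (t : Spec (CommRingCat.of (IsLocalRing.ResidueField A))) :
    closedPt A t = IsLocalRing.closedPoint A :=
  IsLocalRing.PrimeSpectrum.comap_residue _ _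

variable {I : Type u} [Preorder I] [IsDirected I (· ≤ ·)] [Nonempty I] {D : Iᵒᵖ ⥤ Scheme.{u}}
  (π : (Functor.const Iᵒᵖ).obj (Spec (CommRingCat.of A)) ⟶ D)

/-- The points at the stages. -/
noncomputable def pt (p : Iᵒᵖ) : D.obj p := π.app p (IsLocalRing.closedPoint A)

/-- Their residue fields. -/
noncomputable abbrev K (p : Iᵒᵖ) : CommRingCat.{u} := (D.obj p).residueField (pt π p)

/-- The embedding in the residue field. -/
noncomputable def psi (p : Iᵒᵖ) : K π p ⟶ CommRingCat.of (IsLocalRing.ResidueField A) :=
  (exists_factor (closedPt A ≫ π.app p) (pt π p) (by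
    show π.app p (closedPt A default) = _
    rw [closedPt_apply]; rfl)).choose

theorem psi_spec (p : Iᵒᵖ) :
    Spec.map (psi π p) ≫ (D.obj p).fromSpecResidueField (pt π p) = closedPt A ≫ π.app p :=
  (exists_factor (closedPt A ≫ π.app p) (pt π p) (by
    show π.app p (closedPt A default) = _
    rw [closedPt_apply]; rfl)).choose_spec

theorem psi_injective (p : Iᵒᵖ) : Function.Injective (psi π p) :=
  (psi π p).hom.injective

/-- The transitions of the residue fields. -/
noncomputable def theta {p q : Iᵒᵖ} (a : p ⟶ q) : K π q ⟶ K π p :=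
  (exists_factor (T := D.obj q) (K := (D.obj p).residueField (pt π p))
    ((D.obj p).fromSpecResidueField (pt π p) ≫ D.map a) (pt π q) (by
      show D.map a ((D.obj p).fromSpecResidueField (pt π p) default) = _
      erw [Scheme.fromSpecResidueField_apply]
      rw [pt, pt, ← Scheme.Hom.comp_apply, ← π.naturality a]
      rfl)).choose

theorem theta_spec {p q : Iᵒᵖ} (a : p ⟶ q) :
    Spec.map (theta π a) ≫ (D.obj q).fromSpecResidueField (pt π q) =
      (D.obj p).fromSpecResidueField (pt π p) ≫ D.map a :=
  (exists_factor (T := D.obj q) (K := (D.obj p).residueField (pt π p))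
    ((D.obj p).fromSpecResidueField (pt π p) ≫ D.map a) (pt π q) (by
      show D.map a ((D.obj p).fromSpecResidueField (pt π p) default) = _
      erw [Scheme.fromSpecResidueField_apply]
      rw [pt, pt, ← Scheme.Hom.comp_apply, ← π.naturality a]
      rfl)).choose_spec

theorem theta_psi {p q : Iᵒᵖ} (a : p ⟶ q) : theta π a ≫ psi π p = psi π q := by
  refine factor_ext ?_
  rw [Spec.map_comp, Category.assoc, theta_spec, ← Category.assoc, psi_spec, psi_spec, Category.assoc,
    ← π.naturality a]
  exact congrArg (closedPt A ≫ ·) (Category.id_comp _)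

/-- The residue field is the union of the residue fields of the stages. -/
theorem exists_eq_psi (hlim : IsLimit (Cone.mk _ π)) (v : IsLocalRing.ResidueField A) :
    ∃ (p : Iᵒᵖ) (a : K π p), psi π p a = v := by
  let U : Subring (IsLocalRing.ResidueField A) :=
    { carrier := {v | ∃ (p : Iᵒᵖ) (a : K π p), psi π p a = v}
      zero_mem' := ⟨op (Classical.arbitrary I), 0, map_zero _⟩
      one_mem' := ⟨op (Classical.arbitrary I), 1, map_one _⟩
      neg_mem' := by rintro _ ⟨p, a, rfl⟩; exact ⟨p, -a, map_neg _ _⟩
      add_mem' := by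
        rintro _ _ ⟨p, a, rfl⟩ ⟨q, b, rfl⟩
        obtain ⟨k, hp, hq⟩ := directed_of (· ≤ ·) p.unop q.unop
        refine ⟨op k, theta π (homOfLE hp).op a + theta π (homOfLE hq).op b, ?_⟩
        rw [map_add]
        exact congrArg₂ _ (ConcreteCategory.congr_hom (theta_psi π (homOfLE hp).op) a)
          (ConcreteCategory.congr_hom (theta_psi π (homOfLE hq).op) b)
      mul_mem' := by
        rintro _ _ ⟨p, a, rfl⟩ ⟨q, b, rfl⟩
        obtain ⟨k, hp, hq⟩ := directed_of (· ≤ ·) p.unop q.unop
        refine ⟨op k, theta π (homOfLE hp).op a * theta π (homOfLE hq).op b, ?_⟩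
        rw [map_mul]
        exact congrArg₂ _ (ConcreteCategory.congr_hom (theta_psi π (homOfLE hp).op) a)
          (ConcreteCategory.congr_hom (theta_psi π (homOfLE hq).op) b) }
  let incl : CommRingCat.of U ⟶ CommRingCat.of (IsLocalRing.ResidueField A) := CommRingCat.ofHom U.subtype
  let χ : ∀ p, K π p ⟶ CommRingCat.of U := fun p =>
    CommRingCat.ofHom ((psi π p).hom.codRestrict U fun a => ⟨p, a, rfl⟩)
  have hχ : ∀ p, χ p ≫ incl = psi π p := fun p => rfl
  let c : Cone D :=
    { pt := Spec (CommRingCat.of U)
      π :=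
        { app := fun p => Spec.map (χ p) ≫ (D.obj p).fromSpecResidueField (pt π p)
          naturality := fun p q a => by
            show 𝟙 _ ≫ Spec.map (χ q) ≫ _ = (Spec.map (χ p) ≫ _) ≫ D.map a
            have e : theta π a ≫ χ p = χ q := CommRingCat.hom_ext (RingHom.ext fun z =>
              Subtype.ext (ConcreteCategory.congr_hom (theta_psi π a) z))
            rw [Category.id_comp, Category.assoc, ← theta_spec, ← Category.assoc, ← Spec.map_comp, e] } }
  obtain ⟨g, hg⟩ := Spec.map_surjective (hlim.lift c)
  have h : Spec.map incl ≫ hlim.lift c = closedPt A := hlim.hom_ext fun p => by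
    rw [Category.assoc, hlim.fac, ← Category.assoc (Spec.map incl), ← Spec.map_comp, hχ, psi_spec]
  rw [← hg, ← Spec.map_comp] at h
  obtain ⟨w, rfl⟩ := IsLocalRing.residue_surjective v
  have := ConcreteCategory.congr_hom (Spec.map_injective h) w
  obtain ⟨p, a, ha⟩ := (g w).2
  exact ⟨p, a, ha.trans this⟩

/-- The point of the stage over the residue field. -/
noncomputable abbrev tt' (p : Iᵒᵖ) : Spec (K π p) ⟶ D.obj p := (D.obj p).fromSpecResidueField (pt π p)

variable {X : Scheme.{u}} (f : X ⟶ Spec (CommRingCat.of A)) {DX : Iᵒᵖ ⥤ Scheme.{u}} (φ : DX ⟶ D)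
  (πX : (Functor.const Iᵒᵖ).obj X ⟶ DX) (w : ∀ p, πX.app p ≫ φ.app p = f ≫ π.app p)

/-- The fibres of the stages. -/
noncomputable def fibres : Iᵒᵖ ⥤ Scheme.{u} where
  obj p := pullback (φ.app p) (tt' π p)
  map {p q} a := pullback.lift (pullback.fst _ _ ≫ DX.map a) (pullback.snd _ _ ≫ Spec.map (theta π a)) (by
    rw [Category.assoc, φ.naturality, pullback.condition_assoc, Category.assoc, theta_spec])
  map_id p := by
    have e : theta π (𝟙 p) = 𝟙 _ := factor_ext (by
      rw [theta_spec, Spec.map_id, D.map_id, Category.comp_id, Category.id_comp])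
    refine pullback.hom_ext ?_ ?_
    · rw [pullback.lift_fst, Category.id_comp, DX.map_id, Category.comp_id]
    · rw [pullback.lift_snd, Category.id_comp, e, Spec.map_id, Category.comp_id]
  map_comp {p q r} a b := by
    have e : theta π (a ≫ b) = theta π b ≫ theta π a := factor_ext (by
      rw [theta_spec, Spec.map_comp, Category.assoc, theta_spec, ← Category.assoc, theta_spec,
        Category.assoc, D.map_comp])
    refine pullback.hom_ext ?_ ?_
    · rw [pullback.lift_fst, Category.assoc, pullback.lift_fst, pullback.lift_fst_assoc, DX.map_comp,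
        Category.assoc]
    · rw [pullback.lift_snd, Category.assoc, pullback.lift_snd, pullback.lift_snd_assoc, e, Spec.map_comp,
        Category.assoc]

/-- The closed fibre maps to the fibres of the stages. -/
noncomputable def fibresCone : Cone (fibres π φ) where
  pt := pullback f (closedPt A)
  π :=
    { app := fun p => pullback.lift (pullback.fst _ _ ≫ πX.app p) (pullback.snd _ _ ≫ Spec.map (psi π p)) (by
        rw [Category.assoc, w, pullback.condition_assoc, Category.assoc, psi_spec])
      naturality := fun p q a => by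
        refine pullback.hom_ext ?_ ?_
        · simp only [fibres, Functor.const_obj_map, Category.assoc, pullback.lift_fst, pullback.lift_fst_assoc]
          have := πX.naturality a
          simp only [Functor.const_obj_map] at this
          erw [Category.id_comp] at this
          rw [this]
          exact Category.id_comp _
        · simp only [fibres, Functor.const_obj_map, Category.assoc, pullback.lift_snd, pullback.lift_snd_assoc]
          rw [← Spec.map_comp, theta_psi]
          exact Category.id_comp _ }

variable {π f φ πX w}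

set_option maxHeartbeats 1000000 in
/-- **The closed fibre is the limit of the fibres of the stages.** -/
theorem nonempty_isLimit_fibresCone (hlim : IsLimit (Cone.mk _ π)) (hlimX : IsLimit (Cone.mk _ πX)) :
    Nonempty (IsLimit (fibresCone π f φ πX w)) := by
  classical
  refine ⟨IsLimit.ofExistsUnique fun s => ?_⟩
  let σ : ∀ p, s.pt ⟶ pullback (φ.app p) (tt' π p) := fun p => s.π.app p
  have hσ₁ : ∀ {p q : Iᵒᵖ} (a : p ⟶ q),
      σ q ≫ pullback.fst (φ.app q) (tt' π q) = σ p ≫ pullback.fst (φ.app p) (tt' π p) ≫ DX.map a := fun {p q} a =>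
    ((congrArg (· ≫ pullback.fst (φ.app q) (tt' π q)) (s.w a).symm).trans (Category.assoc _ _ _)).trans
      (congrArg (σ p ≫ ·) (pullback.lift_fst _ _ _))
  have hσ₂ : ∀ {p q : Iᵒᵖ} (a : p ⟶ q), σ q ≫ pullback.snd (φ.app q) (tt' π q) =
      (σ p ≫ pullback.snd (φ.app p) (tt' π p)) ≫ Spec.map (theta π a) := fun {p q} a =>
    (((congrArg (· ≫ pullback.snd (φ.app q) (tt' π q)) (s.w a).symm).trans (Category.assoc _ _ _)).trans
      (congrArg (σ p ≫ ·) (pullback.lift_snd _ _ _))).trans (Category.assoc _ _ _).symm
  let cX : Cone DX :=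
    { pt := s.pt
      π :=
        { app := fun p => σ p ≫ pullback.fst _ _
          naturality := fun p q a => by
            show 𝟙 _ ≫ σ q ≫ _ = (σ p ≫ _) ≫ DX.map a
            rw [Category.id_comp, hσ₁ a, Category.assoc] } }
  let γ : ∀ p, K π p ⟶ Γ(s.pt, ⊤) := fun p =>
    (Scheme.ΓSpecIso _).inv ≫ (σ p ≫ pullback.snd (φ.app p) (tt' π p)).appTop
  have hγ : ∀ {p q : Iᵒᵖ} (a : p ⟶ q), theta π a ≫ γ p = γ q := by
    intro p q a
    simp only [γ]
    rw [hσ₂ a, Scheme.Hom.comp_appTop (σ p ≫ pullback.snd (φ.app p) (tt' π p)) (Spec.map (theta π a)),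
      ← Category.assoc (Scheme.ΓSpecIso (K π q)).inv, ← Scheme.ΓSpecIso_inv_naturality, Category.assoc]
  have hγdef : ∀ p, γ p = (Scheme.ΓSpecIso _).inv ≫ (σ p ≫ pullback.snd (φ.app p) (tt' π p)).appTop :=
    fun p => rfl
  clear_value γ
  choose P a ha using exists_eq_psi π hlim
  have hwd : ∀ (p : Iᵒᵖ) (b : K π p) (v : IsLocalRing.ResidueField A), psi π p b = v →
      γ (P v) (a v) = γ p b := by
    intro p b v hb
    obtain ⟨k, hp, hq⟩ := directed_of (· ≤ ·) (P v).unop p.unop
    have e : theta π (homOfLE hp).op (a v) = theta π (homOfLE hq).op b := psi_injective π _ (by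
      rw [← ConcreteCategory.comp_apply, ← ConcreteCategory.comp_apply, theta_psi, theta_psi, ha, hb])
    exact (ConcreteCategory.congr_hom (hγ (homOfLE hp).op) (a v)).symm.trans
      ((congrArg (γ (op k)) e).trans (ConcreteCategory.congr_hom (hγ (homOfLE hq).op) b))
  let g : CommRingCat.of (IsLocalRing.ResidueField A) ⟶ Γ(s.pt, ⊤) := CommRingCat.ofHom
    { toFun := fun v => γ (P v) (a v)
      map_one' := (hwd (P 1) 1 1 (map_one _)).trans (map_one _)
      map_zero' := (hwd (P 0) 0 0 (map_zero _)).trans (map_zero _)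
      map_mul' := fun v v' => by
        obtain ⟨k, hp, hq⟩ := directed_of (· ≤ ·) (P v).unop (P v').unop
        rw [hwd (op k) (theta π (homOfLE hp).op (a v) * theta π (homOfLE hq).op (a v')) (v * v') (by
          rw [map_mul, ← ConcreteCategory.comp_apply, ← ConcreteCategory.comp_apply, theta_psi, theta_psi, ha,
            ha]), map_mul]
        exact congrArg₂ _ (ConcreteCategory.congr_hom (hγ (homOfLE hp).op) (a v))
          (ConcreteCategory.congr_hom (hγ (homOfLE hq).op) (a v'))
      map_add' := fun v v' => by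
        obtain ⟨k, hp, hq⟩ := directed_of (· ≤ ·) (P v).unop (P v').unop
        rw [hwd (op k) (theta π (homOfLE hp).op (a v) + theta π (homOfLE hq).op (a v')) (v + v') (by
          rw [map_add, ← ConcreteCategory.comp_apply, ← ConcreteCategory.comp_apply, theta_psi, theta_psi, ha,
            ha]), map_add]
        exact congrArg₂ _ (ConcreteCategory.congr_hom (hγ (homOfLE hp).op) (a v))
          (ConcreteCategory.congr_hom (hγ (homOfLE hq).op) (a v')) }
  have hgv : ∀ v : IsLocalRing.ResidueField A, g.hom v = γ (P v) (a v) := fun v => rfl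
  clear_value g
  have hg : ∀ p, psi π p ≫ g = γ p := fun p => by
    refine CommRingCat.hom_ext (RingHom.ext fun b => ?_)
    rw [CommRingCat.hom_comp, RingHom.comp_apply]
    exact (hgv _).trans (hwd p b _ rfl)
  have hgs : ∀ p, toSpec g ≫ Spec.map (psi π p) = σ p ≫ pullback.snd (φ.app p) (tt' π p) := fun p => by
    have e : toSpec g ≫ Spec.map (psi π p) = toSpec (psi π p ≫ g) := by
      rw [toSpec, toSpec, Category.assoc, Spec.map_comp]
    rw [e, hg, hγdef]
    refine ext_of_isAffine ?_
    rw [← cancel_epi (Scheme.ΓSpecIso _).inv]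
    exact appTop_toSpec _
  have hf : hlimX.lift cX ≫ f = toSpec g ≫ closedPt A := hlim.hom_ext fun p => by
    show (hlimX.lift cX ≫ f) ≫ π.app p = (toSpec g ≫ closedPt A) ≫ π.app p
    have h1 : hlimX.lift cX ≫ πX.app p = σ p ≫ pullback.fst _ _ := hlimX.fac cX p
    rw [Category.assoc, Category.assoc, ← w, ← psi_spec, ← Category.assoc, h1, ← Category.assoc (toSpec g),
      hgs, Category.assoc, Category.assoc, pullback.condition]
  refine ⟨pullback.lift (hlimX.lift cX) (toSpec g) hf, fun p => ?_, ?_⟩
  · refine pullback.hom_ext ?_ ?_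
    · refine ((Category.assoc _ _ _).trans ((congrArg (_ ≫ ·) (pullback.lift_fst _ _ _)).trans
        ((pullback.lift_fst_assoc _ _ _ _).trans ?_)))
      exact hlimX.fac cX p
    · refine ((Category.assoc _ _ _).trans ((congrArg (_ ≫ ·) (pullback.lift_snd _ _ _)).trans
        ((pullback.lift_snd_assoc _ _ _ _).trans ?_)))
      exact hgs p
  intro (m : s.pt ⟶ pullback f (closedPt A)) hm
  have h₁ : ∀ p, (m ≫ pullback.fst f (closedPt A)) ≫ πX.app p = σ p ≫ pullback.fst _ _ := fun p =>
    ((Category.assoc _ _ _).trans (congrArg (m ≫ ·) (pullback.lift_fst _ _ _).symm)).trans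
      ((Category.assoc _ _ _).symm.trans (congrArg (· ≫ pullback.fst (φ.app p) (tt' π p)) (hm p)))
  have h₂ : ∀ p, (m ≫ pullback.snd f (closedPt A)) ≫ Spec.map (psi π p) = σ p ≫ pullback.snd _ _ := fun p =>
    ((Category.assoc _ _ _).trans (congrArg (m ≫ ·) (pullback.lift_snd _ _ _).symm)).trans
      ((Category.assoc _ _ _).symm.trans (congrArg (· ≫ pullback.snd (φ.app p) (tt' π p)) (hm p)))
  refine pullback.hom_ext ?_ ?_
  · rw [pullback.lift_fst]
    refine hlimX.hom_ext fun p => ?_
    rw [hlimX.fac]
    exact h₁ p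
  · rw [pullback.lift_snd]
    refine ext_of_isAffine ?_
    rw [← cancel_epi (Scheme.ΓSpecIso _).inv, appTop_toSpec]
    refine CommRingCat.hom_ext (RingHom.ext fun v => ?_)
    rw [hgv, hγdef, ← h₂ (P v), Scheme.Hom.comp_appTop _ (Spec.map (psi π (P v))), ← Category.assoc,
      ← Scheme.ΓSpecIso_inv_naturality]
    conv_lhs => rw [← ha v]
    rfl

end Groth.EtPbc.FieldLimit
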