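import Groth.Agent.DescentBase.HpullMain

/-!
# Comparison of cohomology from finite constant coefficients on finite covers

Variant of `HpullReduce.bijective_of_finite_covers` requiring the hypothesis only for finite groups.
-/

set_option autoImplicit false
set_option synthInstance.maxHeartbeats 400000
set_option backward.isDefEq.respectTransparency.types false
set_option linter.style.haveILetI false

universe u

open CategoryTheory CategoryTheory.Limits AlgebraicGeometry Opposite
open Groth.EtaleBase Groth.EtaleDeep.Cons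

namespace Groth.DescentBase.HpullReduce

variable {X Y : Scheme.{u}} (i : Y ⟶ X) [PreservesFiniteLimits (EtCoh.pull i)]

/-- Finite constant sheaves on finite covers are enough for their direct images. -/
theorem push_const_finite
    (P : ∀ {A B : Scheme.{u}} (j : B ⟶ A) [PreservesFiniteLimits (EtCoh.pull j)], EtCoh.Ab A → Prop)
    (hsplit : ∀ {A B : Scheme.{u}} (j : B ⟶ A) [PreservesFiniteLimits (EtCoh.pull j)] {ι : Type} [Fintype ι]
      {F : EtCoh.Ab A} {G : ι → EtCoh.Ab A} (π : ∀ l, F ⟶ G l) (s : ∀ l, G l ⟶ F),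
      ∑ l, π l ≫ s l = 𝟙 F → (∀ l, P j (G l)) → P j F)
    (hpush : ∀ {X' Y' : Scheme.{u}} (p : X' ⟶ X) [IsFinite p] (j : Y' ⟶ X') (p' : Y' ⟶ Y)
      (_ : IsPullback j p' p i) [PreservesFiniteLimits (EtCoh.pull j)] (C : EtCoh.Ab X'),
      P j C → P i ((EtCoh.push p).obj C))
    (h : ∀ (M : Type) [AddCommGroup M] [Finite M] (X' : Scheme.{u}) (p : X' ⟶ X) [IsFinite p]
      [PreservesFiniteLimits (EtCoh.pull (pullback.fst p i))],
      P (pullback.fst p i) (EtCoh.const X' M))
    {m : ℕ} {Z : Fin m → Scheme.{u}} (f : ∀ l, Z l ⟶ X) [∀ l, IsFinite (f l)]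
    (M : Fin m → Type) [∀ l, AddCommGroup (M l)] [∀ l, Finite (M l)] :
    P i (⨁ fun l => (EtCoh.push (f l)).obj (EtCoh.const (Z l) (M l))) := by
  refine hsplit i (fun l => biproduct.π _ l)
    (fun l => biproduct.ι (fun l => (EtCoh.push (f l)).obj (EtCoh.const (Z l) (M l))) l) biproduct.total fun l => ?_
  exact hpush (f l) (pullback.fst (f l) i) (pullback.snd (f l) i) (IsPullback.of_hasPullback _ _) _ (h (M l) (Z l) (f l))

/-- The reduction theorem. -/
theorem bijective_of_finite_covers_finite [CompactSpace X] [QuasiSeparatedSpace X] [CompactSpace Y]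
    [QuasiSeparatedSpace Y]
    (h : ∀ (M : Type) [AddCommGroup M] [Finite M] (X' : Scheme.{u}) (p : X' ⟶ X) [IsFinite p]
      [PreservesFiniteLimits (EtCoh.pull (pullback.fst p i))],
      Function.Bijective (EtCore.Hpull (pullback.fst p i) (EtCoh.const X' M) 0) ∧
        ∀ q : ℕ, 0 < q → Function.Surjective (EtCore.Hpull (pullback.fst p i) (EtCoh.const X' M) q))
    (q : ℕ) : ∀ F : EtCoh.Ab X, EtCoh.IsTorsion F → Inj i F q ∧ Surj i F q := by
  induction q using Nat.strong_induction_on with
  | _ q ih =>
    have hEs : ∀ {m : ℕ} {Z : Fin m → Scheme.{u}} (f : ∀ l, Z l ⟶ X) [∀ l, IsFinite (f l)]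
        (M : Fin m → Type) [∀ l, AddCommGroup (M l)] [∀ l, Finite (M l)],
        Surj i (⨁ fun l => (EtCoh.push (f l)).obj (EtCoh.const (Z l) (M l))) q := by
      intro m Z f _ M _ _
      refine push_const_finite i (fun j _ F => Surj j F q) (fun j _ _ _ _ _ π t ht hG => surj_of_split j π t ht hG)
        (fun p _ j p' hsq _ C hC => (inj_surj_push i p j p' hsq C q).2 hC) (fun M _ _ X' p _ _ => ?_) f M
      rcases Nat.eq_zero_or_pos q with rfl | hq
      · exact (h M X' p).1.2
      · exact (h M X' p).2 q hq
    have hci : ∀ G : EtCoh.Ab X, EtPBC.IsConstructible G → Inj i G q := by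
      intro G hG
      cases q with
      | zero =>
        obtain ⟨m, Z, f, hf, -, M, hM, hM', ι, hι⟩ := Groth.EtPbc.ConsEmbed.exists_embedding hG
        refine inj_surj_zero_of_mono i ι ?_
        exact push_const_finite i (fun j _ F => Inj j F 0) (fun j _ _ _ _ _ π t ht hG => inj_of_split j π t ht hG)
          (fun p _ j p' hsq _ C hC => (inj_surj_push i p j p' hsq C 0).1 hC) (fun M _ _ X' p _ _ => (h M X' p).1.1)
          f M
      | succ n =>
        refine (injective_iff_map_eq_zero _).2 fun x hx => ?_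
        obtain ⟨K, u, hK, hu, hux⟩ := Groth.EtPbc.Godement.exists_effacement hG (n + 1) n.succ_pos x
        have hKt := isTorsion_of_isConstructible hK
        exact inj_succ_of_effaced i u x hux (ih n n.lt_succ_self K hKt).2
          (ih n n.lt_succ_self _ (isTorsion_cokernel u hKt)).1 hx
    have hinj : ∀ F : EtCoh.Ab X, EtCoh.IsTorsion F → Inj i F q := fun F hF => inj_of_constructible i hF q hci
    refine fun F hF => ⟨hinj F hF, surj_of_constructible i hF q fun G hG => ?_⟩
    obtain ⟨m, Z, f, hf, hf', M, hM, hM', ι, hι⟩ := Groth.EtPbc.ConsEmbed.exists_embedding hG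
    have hB : EtCoh.IsTorsion (⨁ fun l => (EtCoh.push (f l)).obj (EtCoh.const (Z l) (M l))) :=
      isTorsion_of_isConstructible (isConstructible_biproduct _ fun l =>
        isConstructible_push (f l) (isConstructible_of_isFLC (isFLC_constantSheaf (Z l) (M l))))
    exact surj_of_mono i ι (hEs f M) (hinj _ (isTorsion_cokernel ι hB))
      fun n hn => (ih n (by omega) _ (isTorsion_cokernel ι hB)).2

end Groth.DescentBase.HpullReduce
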