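import Groth.Agent.EtPbc.Proper.Main
import Groth.Agent.EtPbc.Proper.FieldLimit
import Groth.Agent.EtPbc.Proper.FiniteCovers
import Groth.Agent.S0646
import Groth.Agent.Hensel1.Noetherian

/-!
# Proper base change over arbitrary henselian local rings
-/

set_option autoImplicit false
set_option linter.style.haveILetI false

universe u

open CategoryTheory CategoryTheory.Limits CategoryTheory.Abelian AlgebraicGeometry Opposite

namespace Groth.EtPbc.ProperMain

open Groth.EtPbc.TwoAffine Groth.EtPbc.ConstRestr Groth.EtaleBase Groth.EtPbc.FieldLimit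

attribute [local instance] pull_preservesFiniteLimits

/-- Pulling back classes is taking the unit, then the inverse of the direct image comparison. -/
theorem hofPush_unit {X Z : Scheme.{u}} (i : Z ⟶ X) (F : EtCoh.Ab X) (q : ℕ) (x : EtCoh.H X F q) :
    EtLim.HofPush i ((EtCoh.pull i).obj F) q (Sheaf.H.map ((EtCoh.pullPushAdj i).unit.app F) q x) =
      EtCore.Hpull i F q x := by
  show EtLim.HofPush i ((EtCoh.pull i).obj F) q
    (x.comp (Ext.mk₀ ((EtCoh.pullPushAdj i).unit.app F)) (add_zero q)) = _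
  rw [hofPush_apply, EtLimit.Hpull_map, Ext.comp_assoc_of_third_deg_zero, Ext.mk₀_comp_mk₀,
    (EtCoh.pullPushAdj i).left_triangle_components F]
  exact Ext.comp_mk₀_id _

theorem bijective_hpull_iff {X Z : Scheme.{u}} (i : Z ⟶ X) [IsClosedImmersion i] (F : EtCoh.Ab X) (q : ℕ) :
    Function.Bijective (EtCore.Hpull i F q) ↔
      Function.Bijective (Sheaf.H.map ((EtCoh.pullPushAdj i).unit.app F) q) := by
  rw [show ⇑(EtCore.Hpull i F q) = ⇑(EtLim.HofPush i ((EtCoh.pull i).obj F) q) ∘
    (Sheaf.H.map ((EtCoh.pullPushAdj i).unit.app F) q) from funext fun x => (hofPush_unit i F q x).symm]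
  exact (ClosedMV.hofPush_bijective i _ q).of_comp_iff' _

/-- Degree zero. -/
theorem bijective_zero {X Z : Scheme.{u}} (i : Z ⟶ X) (h0 : PBC.H0 i) (F : EtCoh.Ab X) :
    Function.Bijective (Sheaf.H.map ((EtCoh.pullPushAdj i).unit.app F) 0) := by
  let η := (EtCoh.pullPushAdj i).unit.app F
  have hb : Function.Bijective (η.hom.app (op (EtCoh.top X))) := h0 F
  have e : ∀ x, Sheaf.H.map η 0 x = (Sheaf.H.equiv₀ _ (EtCore.topIsTerminal X)).symm
      (η.hom.app (op (EtCoh.top X)) (Sheaf.H.equiv₀ F (EtCore.topIsTerminal X) x)) := fun x => by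
    exact ((Sheaf.H.equiv₀ _ (EtCore.topIsTerminal X)).symm_apply_apply _).symm.trans
      (congrArg _ (Sheaf.H.equiv₀_naturality (hT := EtCore.topIsTerminal X) η x).symm)
  rw [show ⇑(Sheaf.H.map η 0) = _ from funext e]
  exact ((Sheaf.H.equiv₀ _ (EtCore.topIsTerminal X)).symm.bijective.comp hb).comp
    (Sheaf.H.equiv₀ F (EtCore.topIsTerminal X)).bijective

section Restr

variable (M : Type) [AddCommGroup M]

theorem surjective_restr_iff {X Y : Scheme.{u}} (f : X ⟶ Y) (q : ℕ) :
    Function.Surjective (restr M f q) ↔ Function.Surjective (EtCore.Hpull f (EtCoh.const Y M) q) := by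
  let e := ((EtCoh.HF X q).mapIso (EtCore.pullConst f M)).addCommGroupIsoToAddEquiv
  exact Function.Surjective.of_comp_iff' e.bijective (EtCore.Hpull f (EtCoh.const Y M) q)

theorem pullVia_pullConst {X Y Z : Scheme.{u}} (f : X ⟶ Y) (t : Y ⟶ Z) (f₀ : X ⟶ Z) (w : f ≫ t = f₀) :
    (((EtCore.pullComp f t).symm ≪≫ EtCore.pullCongr w).app (EtCoh.const Z M)).hom ≫
      (EtCore.pullConst f₀ M).hom =
    (EtCoh.pull f).map (EtCore.pullConst t M).hom ≫ (EtCore.pullConst f M).hom := by
  subst w
  rw [show (((EtCore.pullComp f t).symm ≪≫ EtCore.pullCongr (rfl : f ≫ t = f ≫ t)).app (EtCoh.const Z M)).hom =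
    (EtCore.pullComp f t).inv.app (EtCoh.const Z M) by simp [EtCore.pullCongr],
    ← pullConst_comp M f t, Iso.inv_hom_id_app_assoc]

theorem restr_id {X : Scheme.{u}} (q : ℕ) (x : EtCoh.H X (EtCoh.const X M) q) : restr M (𝟙 X) q x = x := by
  have hinj : Function.Injective (restr M (𝟙 X) q) :=
    ((((EtCoh.HF X q).mapIso (EtCore.pullConst (𝟙 X) M)).addCommGroupIsoToAddEquiv.bijective).comp
      (InjCoh.Hpull_bijective_univHomeo (𝟙 X) (EtCoh.const X M) q)).1
  exact hinj ((restr_comp M _ _ q x).trans (restr_congr M (Category.id_comp _) q x))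

/-- Classes with constant coefficients on a limit come from a stage. -/
theorem exists_restr_eq {ι : Type u} [Preorder ι] [IsDirected ι (· ≤ ·)] [Nonempty ι] (Xs : ιᵒᵖ ⥤ Scheme.{u})
    (haff : ∀ ⦃a b : ιᵒᵖ⦄ (h : a ⟶ b), IsAffineHom (Xs.map h))
    (hqc : ∀ a, CompactSpace ↥(Xs.obj a)) (hqs : ∀ a, QuasiSeparatedSpace ↥(Xs.obj a))
    (c : Cone Xs) (hc : IsLimit c) (q : ℕ) (x : EtCoh.H c.pt (EtCoh.const c.pt M) q) :
    ∃ (j : ι) (y : EtCoh.H (Xs.obj (op j)) (EtCoh.const (Xs.obj (op j)) M) q),
      restr M (c.π.app (op j)) q y = x := by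
  obtain ⟨i₀⟩ := ‹Nonempty ι›
  let e := EtCore.pullConst (c.π.app (op i₀)) M
  obtain ⟨j, hj, ξ, h⟩ := (Groth.Agent.S0646.result Xs haff hqc hqs c hc i₀ (EtCoh.const (Xs.obj (op i₀)) M) q).1
    (x.comp (Ext.mk₀ e.inv) (add_zero q))
  refine ⟨j, ξ.comp (Ext.mk₀ (EtCore.pullConst (Xs.map (homOfLE hj).op) M).hom) (add_zero q), ?_⟩
  have h' : (EtCore.Hpull (c.π.app (op j)) _ q ξ).comp
      (Ext.mk₀ (((EtCore.pullComp (c.π.app (op j)) (Xs.map (homOfLE hj).op)).symm ≪≫
        EtCore.pullCongr (c.w (homOfLE hj).op)).app (EtCoh.const (Xs.obj (op i₀)) M)).hom) (add_zero q) =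
      x.comp (Ext.mk₀ e.inv) (add_zero q) := h
  have hx := congrArg (fun z => Ext.comp z (Ext.mk₀ e.hom) (add_zero q)) h'
  simp only [Ext.comp_assoc_of_third_deg_zero, Ext.mk₀_comp_mk₀, Iso.inv_hom_id, Ext.comp_mk₀_id] at hx
  rw [restr_apply, EtLimit.Hpull_map, Ext.comp_assoc_of_third_deg_zero, Ext.mk₀_comp_mk₀, ← pullVia_pullConst]
  exact hx

end Restr

theorem isAffineHom_of_isClosedImmersion {X Y : Scheme.{u}} (g : X ⟶ Y) (_ : IsClosedImmersion g) :
    IsAffineHom g := inferInstance

variable {A : Type u} [CommRing A] [HenselianLocalRing A] {X : Scheme.{u}}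
  (f : X ⟶ Spec (CommRingCat.of A)) [IsProper f]

/-- Constant classes on the closed fibre extend. -/
theorem surjective_restr_fib (M : Type) [AddCommGroup M] [Finite M] (q : ℕ) :
    Function.Surjective (restr M (fib f) q) := by
  intro c
  obtain ⟨Mdl⟩ := Groth.Limits.exists_properModel f
  haveI hN : ∀ p, IsLocallyNoetherian (Mdl.DS.obj p) := fun p => by
    haveI := Mdl.locallyOfFiniteType p
    exact LocallyOfFiniteType.isLocallyNoetherian
      (Limits.IsTerminal.from specULiftZIsTerminal (Mdl.DS.obj p))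
  haveI := Mdl.proper
  let Y := fibres Mdl.πS Mdl.φ
  have hproper : ∀ p, IsProper (pullback.snd (Mdl.φ.app p) (tt' Mdl.πS p)) := fun p =>
    MorphismProperty.pullback_snd _ _ (Mdl.proper p)
  obtain ⟨hlim⟩ := nonempty_isLimit_fibresCone (f := f) (φ := Mdl.φ) (w := Mdl.w) Mdl.isLimitS Mdl.isLimitX
  have haff : ∀ ⦃a b : Mdl.Iᵒᵖ⦄ (h : a ⟶ b), IsAffineHom (Y.map h) := fun a b h => by
    haveI := Mdl.affineS a b h
    have e : Y.map h = pullback.mapDesc (Mdl.φ.app a) (tt' Mdl.πS a) (Mdl.DS.map h) ≫
        pullback.map (Mdl.φ.app a ≫ Mdl.DS.map h) (tt' Mdl.πS a ≫ Mdl.DS.map h) (Mdl.φ.app b) (tt' Mdl.πS b)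
          (Mdl.DX.map h) (Spec.map (theta Mdl.πS h)) (𝟙 _)
          ((Category.comp_id _).trans (Mdl.φ.naturality h).symm)
          ((Category.comp_id _).trans (theta_spec Mdl.πS h).symm) := by
      refine pullback.hom_ext ?_ ?_
      · refine (pullback.lift_fst _ _ _).trans ?_
        refine Eq.symm ((Category.assoc _ _ _).trans ((congrArg (_ ≫ ·) (pullback.lift_fst _ _ _)).trans
          ((pullback.lift_fst_assoc _ _ _ _).trans ?_)))
        rw [Category.comp_id]
        rfl
      · refine (pullback.lift_snd _ _ _).trans ?_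
        refine Eq.symm ((Category.assoc _ _ _).trans ((congrArg (_ ≫ ·) (pullback.lift_snd _ _ _)).trans
          ((pullback.lift_snd_assoc _ _ _ _).trans ?_)))
        rw [Category.comp_id]
        rfl
    rw [e]
    have hci : IsClosedImmersion (pullback.mapDesc (Mdl.φ.app a) (tt' Mdl.πS a) (Mdl.DS.map h)) := inferInstance
    exact MorphismProperty.comp_mem @IsAffineHom _ _ (isAffineHom_of_isClosedImmersion _ hci)
      (MorphismProperty.pullbackMap (Mdl.affineX a b h) inferInstance (Mdl.φ.naturality h).symm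
        (theta_spec Mdl.πS h).symm)
  have hqc : ∀ p, CompactSpace ↥(Y.obj p) := fun p => by
    haveI := hproper p
    show CompactSpace ↥(pullback (Mdl.φ.app p) (tt' Mdl.πS p))
    exact QuasiCompact.compactSpace_of_compactSpace (pullback.snd (Mdl.φ.app p) (tt' Mdl.πS p))
  have hqs : ∀ p, QuasiSeparatedSpace ↥(Y.obj p) := fun p => by
    haveI := hproper p
    show QuasiSeparatedSpace ↥(pullback (Mdl.φ.app p) (tt' Mdl.πS p))
    exact quasiSeparatedSpace_of_quasiSeparated (pullback.snd (Mdl.φ.app p) (tt' Mdl.πS p))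
  obtain ⟨j, y, hy⟩ := exists_restr_eq M Y haff hqc hqs _ hlim q c
  -- the henselization at the stage
  let T := Mdl.DS.obj (op j)
  let s : T := pt Mdl.πS (op j)
  let R : Type u := T.presheaf.stalk s
  let Ω : Type u := IsLocalRing.ResidueField R
  let B : Type u := Groth.Hensel1.Hens R Ω
  haveI : IsNoetherianRing B := Groth.Hensel1.Hens.isNoetherianRing
  let αA : T.presheaf.stalk s ⟶ CommRingCat.of A := Scheme.stalkClosedPointTo (Mdl.πS.app (op j))
  letI : Algebra R A := αA.hom.toAlgebra
  have hres : Spec.map (CommRingCat.ofHom (IsLocalRing.residue R)) ≫ T.fromSpecStalk s =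
      T.fromSpecResidueField s := rfl
  have hτ : ∀ r : R, (psi Mdl.πS (op j)).hom (algebraMap R Ω r) = IsLocalRing.residue A (algebraMap R A r) := by
    have e : CommRingCat.ofHom (IsLocalRing.residue R) ≫ psi Mdl.πS (op j) =
        αA ≫ CommRingCat.ofHom (IsLocalRing.residue A) := by
      apply Spec.map_injective
      rw [← cancel_mono (T.fromSpecStalk s)]
      rw [Spec.map_comp, Category.assoc, hres]
      erw [psi_spec]
      rw [Spec.map_comp, Category.assoc]
      exact congrArg (closedPt A ≫ ·) (Scheme.Spec_stalkClosedPointTo_fromSpecStalk _).symm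
    exact fun r => ConcreteCategory.congr_hom e r
  obtain ⟨g, hg, -⟩ := Groth.Hensel1.Hens.existsUnique_lift (R := R) (Ω := Ω) (T := A)
    (psi Mdl.πS (op j)).hom hτ
  let sB : Spec (CommRingCat.of B) ⟶ T :=
    Spec.map (CommRingCat.ofHom (algebraMap R B)) ≫ T.fromSpecStalk s
  let gS : Spec (CommRingCat.of A) ⟶ Spec (CommRingCat.of B) := Spec.map (CommRingCat.ofHom g.toRingHom)
  have hgs : gS ≫ sB = Mdl.πS.app (op j) := by
    show Spec.map _ ≫ Spec.map _ ≫ _ = _
    rw [← Spec.map_comp_assoc, show CommRingCat.ofHom (algebraMap R B) ≫ CommRingCat.ofHom g.toRingHom = αA from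
      CommRingCat.hom_ext g.comp_algebraMap]
    exact Scheme.Spec_stalkClosedPointTo_fromSpecStalk _
  let rB : Spec (CommRingCat.of (IsLocalRing.ResidueField B)) ⟶ Spec (CommRingCat.of B) :=
    Spec.map (CommRingCat.ofHom (IsLocalRing.residue B))
  haveI hloc : IsLocalHom g.toRingHom := ⟨fun b hb => by
    by_contra hn
    have h0 : Groth.Hensel1.Hens.pt (R := R) (Ω := Ω) b = 0 := Groth.Hensel1.Hens.mem_maximalIdeal_iff.mp hn
    have := hg b
    rw [h0, map_zero] at this
    exact (IsLocalRing.residue_ne_zero_iff_isUnit _).2 hb this⟩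
  let gk : Spec (CommRingCat.of (IsLocalRing.ResidueField A)) ⟶ Spec (CommRingCat.of (IsLocalRing.ResidueField B)) :=
    Spec.map (CommRingCat.ofHom (IsLocalRing.ResidueField.map g.toRingHom))
  have hgk : gk ≫ rB = closedPt A ≫ gS := by
    show Spec.map _ ≫ Spec.map _ = Spec.map _ ≫ Spec.map _
    rw [← Spec.map_comp, ← Spec.map_comp]
    rfl
  have hpt : (rB ≫ sB) default = s := by
    show T.fromSpecStalk s (Spec.map (CommRingCat.ofHom (algebraMap R B)) (rB default)) = s
    have h1 : rB default = IsLocalRing.closedPoint B := IsLocalRing.PrimeSpectrum.comap_residue _ _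
    haveI : IsLocalHom (CommRingCat.ofHom (algebraMap R B)).hom := Groth.Hensel1.Hens.isLocalHom_algebraMap
    have h2 : Spec.map (CommRingCat.ofHom (algebraMap R B)) (IsLocalRing.closedPoint B) =
        IsLocalRing.closedPoint R := IsLocalRing.comap_closedPoint _
    rw [h1, h2]
    exact Scheme.fromSpecStalk_closedPoint
  obtain ⟨θ, hθ⟩ := exists_factor (rB ≫ sB) s hpt
  let P := pullback (Mdl.φ.app (op j)) sB
  let fP : P ⟶ Spec (CommRingCat.of B) := pullback.snd _ _
  haveI : IsProper fP := MorphismProperty.pullback_snd _ _ (Mdl.proper (op j))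
  let b : pullback fP rB ⟶ Y.obj (op j) :=
    pullback.lift (pullback.fst fP rB ≫ pullback.fst _ _) (pullback.snd fP rB ≫ Spec.map θ) (by
      rw [Category.assoc, pullback.condition, Category.assoc, hθ, ← Category.assoc, pullback.condition,
        Category.assoc])
  let G : X ⟶ P := pullback.lift (Mdl.πX.app (op j)) (f ≫ gS) (by rw [Category.assoc, hgs]; exact Mdl.w _)
  let m : pullback f (closedPt A) ⟶ pullback fP rB :=
    pullback.lift (fib f ≫ G) (pullback.snd f (closedPt A) ≫ gk) (by
      rw [Category.assoc, pullback.lift_snd, Category.assoc, hgk, ← Category.assoc, pullback.condition,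
        Category.assoc])
  have hmb : m ≫ b = (fibresCone Mdl.πS f Mdl.φ Mdl.πX Mdl.w).π.app (op j) := by
    refine pullback.hom_ext ?_ ?_
    · refine Eq.trans ?_ (pullback.lift_fst _ _ _).symm
      refine (Category.assoc _ _ _).trans ((congrArg (m ≫ ·) (pullback.lift_fst _ _ _)).trans
        ((pullback.lift_fst_assoc _ _ _ _).trans ?_))
      rw [Category.assoc]
      exact congrArg (fib f ≫ ·) (pullback.lift_fst _ _ _)
    · refine Eq.trans ?_ (pullback.lift_snd _ _ _).symm
      refine (Category.assoc _ _ _).trans ((congrArg (m ≫ ·) (pullback.lift_snd _ _ _)).trans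
        ((pullback.lift_snd_assoc _ _ _ _).trans ((Category.assoc _ _ _).trans ?_)))
      refine congrArg (pullback.snd f (closedPt A) ≫ ·) ?_
      rw [← cancel_mono (tt' Mdl.πS (op j)), psi_spec, Category.assoc]
      erw [hθ]
      rw [← Category.assoc, hgk, Category.assoc, hgs]
  have hfin : Function.Surjective (restr M (fib fP) q) := by
    rw [surjective_restr_iff]
    exact ((bijective_hpull_iff (fib fP) _ q).2
      (holds_proper fP q _ (ClosedEfface.isTorsion_const M))).2
  obtain ⟨C, hC⟩ := hfin (restr M b q y)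
  refine ⟨restr M G q C, ?_⟩
  rw [restr_comp, restr_congr M (show fib f ≫ G = m ≫ fib fP from (pullback.lift_fst _ _ _).symm),
    ← restr_comp, hC]
  exact (restr_comp M m b q y).trans ((restr_congr M hmb q y).trans hy)

/-- **Proper base change over henselian local rings.** -/
theorem holds_general : PBC.Holds (fib f) := by
  intro q F hF
  haveI : CompactSpace X := QuasiCompact.compactSpace_of_compactSpace f
  haveI : QuasiSeparatedSpace X := quasiSeparatedSpace_of_quasiSeparated f
  haveI : CompactSpace ↥(pullback f (Spec.map (CommRingCat.ofHom (IsLocalRing.residue A)))) :=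
    QuasiCompact.compactSpace_of_compactSpace (fib f)
  haveI : QuasiSeparatedSpace ↥(pullback f (Spec.map (CommRingCat.ofHom (IsLocalRing.residue A)))) :=
    quasiSeparatedSpace_of_quasiSeparated (fib f)
  rw [← bijective_hpull_iff]
  refine Groth.DescentBase.HpullReduce.bijective_of_finite_covers_finite (fib f) (fun M _ _ X' p _ _ => ?_) q F hF
  let e := isPullback_fib f p
  let j := pullback.fst p (fib f)
  let ε := (IsPullback.of_hasPullback p (fib f)).isoIsPullback _ _ e
  have hε : j = ε.hom ≫ fib (p ≫ f) := ((IsPullback.of_hasPullback p (fib f)).isoIsPullback_hom_fst _ _ e).symm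
  haveI : IsClosedImmersion j := MorphismProperty.pullback_fst _ _ inferInstance
  refine ⟨?_, fun q hq => ?_⟩
  · rw [bijective_hpull_iff]
    have h0 : PBC.H0 j := fun G => HensPairSections.bijective_un (IsLocalRing.maximalIdeal A) (p ≫ f) j (by
      ext x
      rw [PBC.mem_range_iff (IsPullback.of_hasPullback p (fib f))]
      show p x ∈ Set.range (pullback.fst f _) ↔ _
      rw [Scheme.Pullback.range_fst]
      show f (p x) ∈ Set.range _ ↔ _
      rw [show Set.range (Spec.map (CommRingCat.ofHom (IsLocalRing.residue A))) =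
        PrimeSpectrum.zeroLocus (IsLocalRing.maximalIdeal A : Set A) from (range_comap_of_surjective _ _ IsLocalRing.residue_surjective).trans (by rw [IsLocalRing.ker_residue])]
      rfl) G
    exact bijective_zero j h0 _
  · rw [← surjective_restr_iff]
    intro x
    obtain ⟨y, hy⟩ := surjective_restr_fib (p ≫ f) M q (restr M ε.inv q x)
    refine ⟨y, ?_⟩
    rw [restr_congr M hε, ← restr_comp, hy, restr_comp, restr_congr M ε.hom_inv_id]
    exact restr_id M q x

end Groth.EtPbc.ProperMain
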