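import Groth.Agent.EtPbc.Proper.TwoAffine
import Groth.Agent.EtPbc.Proper.ChowLite
import Groth.Agent.EtPbc.GabberAffine
import Groth.Agent.AlgSpEt.StrictHens
import Groth.Agent.Hensel1.Transfer

/-!
# Cohomology of a proper scheme over a Noetherian henselian local ring and of its closed fibre
-/

set_option autoImplicit false
set_option linter.style.haveILetI false

universe u

open CategoryTheory CategoryTheory.Limits AlgebraicGeometry Opposite

namespace Groth.EtPbc.ProperMain

open Groth.EtPbc.TwoAffine Groth.EtPbc.Tower

/-- Etale local rings of locally Noetherian schemes are Noetherian. -/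
theorem isNoetherianRing_etaleLocalRing {X : Scheme.{u}} [IsLocallyNoetherian X] {Ω : Type u} [Field Ω]
    [IsSepClosed Ω] (ξ : Spec (CommRingCat.of Ω) ⟶ X) : IsNoetherianRing (EtBase.etaleLocalRing ξ) := by
  letI := (Groth.AlgSpEt.StrictLocal.toEtale ξ).hom.toAlgebra
  obtain ⟨hloc, hs⟩ := Groth.AlgSpEt.StrictHens.isStrictHenselization ξ
  haveI := hloc
  haveI := hs
  haveI : IsNoetherianRing (X.presheaf.stalk (ξ default)) := inferInstance
  obtain ⟨M⟩ := Groth.Hensel1.hensModel_of_isStrictHenselization
    (R := (X.presheaf.stalk (ξ default) : Type u)) (S := (EtBase.etaleLocalRing ξ : Type u))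
  exact M.isNoetherianRing_iff.1 ‹_›

/-- If cohomology agrees on the closed subscheme, some geometric point at each point is acyclic. -/
theorem good_of_holds {X Z : Scheme.{u}} (i : Z ⟶ X) [IsClosedImmersion i] [QuasiSeparatedSpace X]
    (hP : PBC.Holds i) (x : X) : PBC.Good i x := by
  refine ⟨AlgebraicClosure (X.residueField x), inferInstance, inferInstance,
    Spec.map (CommRingCat.ofHom (algebraMap (X.residueField x) _)) ≫ X.fromSpecResidueField x, ?_,
    PBC.acyc_of_holds hP _⟩
  rw [Scheme.Hom.comp_apply]
  exact Scheme.fromSpecResidueField_apply _ _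

variable {A : Type u} [CommRing A] [HenselianLocalRing A] {X : Scheme.{u}}
  (f : X ⟶ Spec (CommRingCat.of A)) [IsProper f]

/-- Global sections agree on the closed fibre. -/
theorem h0_fib : PBC.H0 (fib f) := fun F =>
  HensPairSections.bijective_un_pullback (IsLocalRing.maximalIdeal A) f F

theorem holds_of_isAffine [IsAffine X] : PBC.Holds (fib f) :=
  GabberAffine.bijective_unit (fib f) (h0_fib f)

variable [IsNoetherianRing A]

include f in
theorem isNoetherian : IsNoetherian X := by
  haveI : IsLocallyNoetherian X := LocallyOfFiniteType.isLocallyNoetherian f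
  haveI : CompactSpace X := QuasiCompact.compactSpace_of_compactSpace f
  exact {}

/-- Two affine opens suffice. -/
theorem holds_twoAff (h : TwoAff f) : PBC.Holds (fib f) := by
  obtain ⟨U, V, hUV, hU, hV⟩ := h
  haveI := isNoetherian f
  haveI hU' : IsAffine (U : Scheme.{u}) := isAffine_of_isAffineHom (U.ι ≫ f)
  haveI hV' : IsAffine (V : Scheme.{u}) := isAffine_of_isAffineHom (V.ι ≫ f)
  exact PBC.holds_of_good (fib f) (h0_fib f) (TwoAffine.good f U V hU' hV' hUV)

omit [IsNoetherianRing A] in
/-- The closed fibre upstairs is the inverse image of the closed fibre. -/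
theorem isPullback_fib {X' : Scheme.{u}} (π : X' ⟶ X) :
    IsPullback (fib (π ≫ f))
      (pullback.lift (fib (π ≫ f) ≫ π) (pullback.snd _ _) (by rw [Category.assoc]; exact pullback.condition))
      π (fib f) :=
  IsPullback.of_bot (by rw [pullback.lift_snd]; exact IsPullback.of_hasPullback _ _)
    (pullback.lift_fst _ _ _).symm (IsPullback.of_hasPullback _ _)

/-- Proper morphisms covered by two opens affine over the target compare along the closed fibre. -/
theorem rel_twoAff {X' : Scheme.{u}} (π : X' ⟶ X) [IsProper π] (h : TwoAff π) : PBC.Rel π (fib f) := by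
  intro Ω _ _ ξ _ hh
  haveI := hh
  haveI := isNoetherian f
  haveI := isNoetherianRing_etaleLocalRing ξ
  haveI : IsProper (pullback.snd π (PBC.loc ξ)) := MorphismProperty.pullback_snd _ _ ‹IsProper π›
  exact @holds_twoAff (EtBase.etaleLocalRing ξ : Type u) _ hh _ (pullback.snd π (PBC.loc ξ)) ‹_› ‹_›
    (h.of_isPullback (IsPullback.of_hasPullback π (PBC.loc ξ)))

/-- Descent of the comparison along a proper morphism covered by two opens affine over the target. -/
theorem holds_comp {X' : Scheme.{u}} (π : X' ⟶ X) [IsProper π] (h : TwoAff π) (hP : PBC.Holds (fib f)) :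
    PBC.Holds (fib (π ≫ f)) := by
  haveI := isNoetherian f
  haveI := isNoetherian (π ≫ f)
  exact PBC.holds_of_good _ (h0_fib _) fun x' =>
    PBC.good_of_holds_base (isPullback_fib f π) (rel_twoAff f π h) hP x'

omit [IsProper f] in
theorem holds_tower {T S : Scheme.{u}} {g : T ⟶ S} (hg : IsTower g) :
    ∀ (s : S ⟶ Spec (CommRingCat.of A)) [IsIso s], PBC.Holds (fib (g ≫ s)) := by
  induction hg with
  | iso g hg =>
    intro s _
    haveI := isAffine_of_isAffineHom (g ≫ s)
    exact holds_of_isAffine (g ≫ s)
  | step π g hπ h2 hg' ih =>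
    intro s _
    haveI := hπ
    haveI := hg'.isProper
    rw [Category.assoc]
    exact holds_comp (g ≫ s) π h2 (ih s)

omit [IsProper f] in
/-- Closed subschemes of towers. -/
theorem holds_closed {X' T : Scheme.{u}} (ι : X' ⟶ T) [IsClosedImmersion ι]
    {g : T ⟶ Spec (CommRingCat.of A)} (hg : IsTower g) : PBC.Holds (fib (ι ≫ g)) := by
  haveI := hg.isProper
  have h := holds_tower hg (𝟙 _)
  rw [Category.comp_id] at h
  exact holds_comp g ι (twoAff_of_isAffineHom ι) h

/-- **Proper base change over Noetherian henselian local rings.** -/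
theorem holds_proper : PBC.Holds (fib f) := by
  haveI := isNoetherian f
  refine PBC.holds_of_good _ (h0_fib f) fun x => ?_
  obtain ⟨X', T, π, ι, g, x', hπ, hι, hg, he, rfl⟩ := exists_chow f x
  haveI := hπ
  haveI := hι
  haveI := hg.isProper
  haveI := isNoetherian (π ≫ f)
  have hrel : PBC.Rel π (fib f) := by
    intro Ω _ _ ξ _ hh
    haveI := hh
    haveI := isNoetherianRing_etaleLocalRing ξ
    let e := PBC.loc ξ
    let j : pullback π e ⟶ pullback g (e ≫ f) :=
      pullback.lift (pullback.fst π e ≫ ι) (pullback.snd π e)
        (by rw [Category.assoc, he, pullback.condition_assoc])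
    have hj : j ≫ pullback.snd g (e ≫ f) = pullback.snd π e := pullback.lift_snd _ _ _
    haveI : IsProper (pullback.snd g (e ≫ f)) := MorphismProperty.pullback_snd _ _ ‹IsProper g›
    haveI : IsProper j := by
      haveI : IsProper (j ≫ pullback.snd g (e ≫ f)) := by
        rw [hj]; exact MorphismProperty.pullback_snd _ _ hπ
      exact IsProper.of_comp j (pullback.snd g (e ≫ f))
    haveI : Mono j := ⟨fun p q h => pullback.hom_ext
      ((cancel_mono ι).1 (by
        have h1 := congrArg (· ≫ pullback.fst g (e ≫ f)) h
        simp only [Category.assoc] at h1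
        erw [pullback.lift_fst] at h1
        simpa using h1))
      (by
        have h1 := congrArg (· ≫ pullback.snd g (e ≫ f)) h
        simp only [Category.assoc] at h1
        erw [pullback.lift_snd] at h1
        simpa using h1)⟩
    haveI : IsClosedImmersion j := (IsClosedImmersion.iff_isProper_and_mono j).2 ⟨‹_›, ‹_›⟩
    have := holds_closed (A := (EtBase.etaleLocalRing ξ : Type u)) j
      (hg.of_isPullback (IsPullback.of_hasPullback g (e ≫ f)))
    rw [hj] at this
    exact this
  have hh := holds_closed ι hg
  rw [he] at hh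
  exact PBC.good_of_good_source (isPullback_fib f π) hrel x' (good_of_holds _ hh x')

end Groth.EtPbc.ProperMain
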