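import Groth.Agent.EtPbc.Proper.Main
import Groth.Agent.Pi1PBC.Couple

/-!
# Cohomology of a proper scheme over a henselian pair and of a henselian couple
-/

set_option autoImplicit false
set_option linter.style.haveILetI false

universe u

open CategoryTheory CategoryTheory.Limits AlgebraicGeometry Opposite

namespace Groth.EtPbc.ProperMain

open Groth.EtPbc.TwoAffine Groth.HensPair

/-- **Proper base change over Noetherian henselian pairs.** -/
theorem holds_pair {B : Type u} [CommRing B] [IsNoetherianRing B] (J : Ideal B) [HenselianRing B J]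
    {X Z Z₀ : Scheme.{u}} (ν : X ⟶ Spec (CommRingCat.of B)) [IsProper ν] (i₀ : Z₀ ⟶ Spec (CommRingCat.of B))
    [IsClosedImmersion i₀] (hi₀ : Set.range i₀ = PrimeSpectrum.zeroLocus (J : Set B)) {i : Z ⟶ X} {π₀ : Z ⟶ Z₀}
    [IsClosedImmersion i] (sq : IsPullback i π₀ ν i₀) : PBC.Holds i := by
  haveI : IsLocallyNoetherian X := LocallyOfFiniteType.isLocallyNoetherian ν
  haveI : CompactSpace X := QuasiCompact.compactSpace_of_compactSpace ν
  haveI : AlgebraicGeometry.IsNoetherian X := {}
  have hi : Set.range i = overV ν J := by
    ext x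
    rw [PBC.mem_range_iff sq, hi₀]
    rfl
  have hrel : PBC.Rel ν i₀ := by
    intro Ω _ _ ξ _ hh
    haveI := hh
    haveI := isNoetherianRing_etaleLocalRing ξ
    haveI : IsProper (pullback.snd ν (PBC.loc ξ)) := MorphismProperty.pullback_snd _ _ ‹IsProper ν›
    exact @holds_proper (EtBase.etaleLocalRing ξ : Type u) _ hh _ (pullback.snd ν (PBC.loc ξ)) ‹_› ‹_›
  have hbase : PBC.Holds i₀ := GabberAffine.bijective_unit i₀ fun F =>
    HensPairSections.bijective_un J (𝟙 _) i₀ hi₀ F
  exact PBC.holds_of_good i (fun F => HensPairSections.bijective_un J ν i hi F)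
    fun x => PBC.good_of_holds_base sq hrel hbase x

/-- **Henselian couples proper over a Noetherian ring.** -/
theorem holds_couple {A : Type u} [CommRing A] [IsNoetherianRing A] (I : Ideal A) {X : Scheme.{u}}
    (f : X ⟶ Spec (CommRingCat.of A)) [IsProper f]
    (hX : ∀ (Y : Scheme.{u}) (y : Y ⟶ X), IsFinite y → ClopenBij
        (pullback.fst y (pullback.fst f (Spec.map (CommRingCat.ofHom (Ideal.Quotient.mk I))))).base) :
    PBC.Holds (pullback.fst f (Spec.map (CommRingCat.ofHom (Ideal.Quotient.mk I)))) := by
  let i := Spec.map (CommRingCat.ofHom (Ideal.Quotient.mk I))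
  haveI : IsClosedImmersion i := IsClosedImmersion.spec_of_surjective _ Ideal.Quotient.mk_surjective
  haveI : IsClosedImmersion (pullback.fst f i) := MorphismProperty.pullback_fst _ _ inferInstance
  haveI : IsFinite f.fromNormalization := Groth.Agent.S1297.result f
  haveI : IsAffine f.normalization := isAffine_of_isAffineHom f.fromNormalization
  -- the Stein factor as the spectrum of a finite algebra
  let B : CommRingCat.{u} := Γ(f.normalization, ⊤)
  let eN := f.normalization.isoSpec
  obtain ⟨ψ, hψ⟩ := Spec.map_surjective (eN.inv ≫ f.fromNormalization)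
  letI : Algebra A B := ψ.hom.toAlgebra
  have hψfin : Module.Finite A B := by
    have h1 : IsFinite (Spec.map ψ) := by rw [hψ]; infer_instance
    exact RingHom.finite_algebraMap.1 ((IsFinite.SpecMap_iff ψ).1 h1)
  haveI : IsNoetherianRing B := isNoetherian_of_tower A inferInstance
  let ν : X ⟶ Spec B := f.toNormalization ≫ eN.hom
  have hνψ : ν ≫ Spec.map ψ = f := by
    rw [hψ, Category.assoc, eN.hom_inv_id_assoc, f.toNormalization_fromNormalization]
  haveI : IsProper (ν ≫ Spec.map ψ) := by rw [hνψ]; infer_instance
  haveI : IsProper ν := IsProper.of_comp ν (Spec.map ψ)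
  haveI : GeometricallyConnected ν := by
    haveI := (Groth.Agent.S0388.result f).1
    exact (MorphismProperty.cancel_right_of_respectsIso @GeometricallyConnected f.toNormalization eN.hom).2
      inferInstance
  let J : Ideal B := I.map (algebraMap A B)
  haveI : HenselianRing B J := by
    refine Groth.Hensel1.henselianRing_of_bijOn_idempotents fun C _ _ _ => ?_
    letI : Algebra A C := ((algebraMap B C).comp (algebraMap A B)).toAlgebra
    let c : Spec (CommRingCat.of C) ⟶ Spec B := Spec.map (CommRingCat.ofHom (algebraMap B C))
    haveI : IsFinite c := (IsFinite.SpecMap_iff _).2 (RingHom.finite_algebraMap.2 inferInstance)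
    let π := pullback.snd ν c
    haveI : GeometricallyConnected π := inferInstance
    haveI : IsProper π := MorphismProperty.pullback_snd _ _ ‹IsProper ν›
    let y : pullback ν c ⟶ X := pullback.fst ν c
    haveI : IsFinite y := MorphismProperty.pullback_fst _ _ inferInstance
    have hy := hX _ y inferInstance
    let gC : Spec (CommRingCat.of C) ⟶ Spec (CommRingCat.of A) :=
      (Iso.refl _).hom ≫ Spec.map (CommRingCat.ofHom (algebraMap A C))
    haveI : IsClosedImmersion (pullback.fst gC i) := MorphismProperty.pullback_fst _ _ inferInstance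
    haveI : IsClosedImmersion (pullback.fst y (pullback.fst f i)) :=
      MorphismProperty.pullback_fst _ _ inferInstance
    have hgC : gC = c ≫ Spec.map ψ := by
      rw [show gC = Spec.map (CommRingCat.ofHom (algebraMap A C)) from Category.id_comp _, ← Spec.map_comp]
      rfl
    have hπC : π ≫ gC = y ≫ f := by rw [hgC, ← pullback.condition_assoc, hνψ]
    have h := Groth.Pi1PBC.clopenBij_descend π.continuous π.isClosedMap π.surjective
      (fun z => (π.isConnected_preimage_singleton z).isPreconnected)
      (pullback.fst y (pullback.fst f i)).isClosedEmbedding.isEmbedding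
      (pullback.fst gC i).isClosedEmbedding.isEmbedding ?_ hy
    · rw [Groth.HensPair.clopenBij_pullback_fst_iff (A := A) (B := C) I gC (Iso.refl _) rfl] at h
      rw [show J.map (algebraMap B C) = I.map (algebraMap A C) from Ideal.map_map _ _]
      exact h
    · erw [Scheme.Pullback.range_fst, Scheme.Pullback.range_fst, Scheme.Pullback.range_fst]
      rw [← Set.preimage_comp, ← Set.preimage_comp]
      ext z
      have e := congrArg (fun φ => φ.base z) hπC
      simp only [Scheme.Hom.comp_apply] at e
      simp only [Set.mem_preimage, Function.comp_apply, e]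
  let i₀ := pullback.fst (Spec.map ψ) i
  haveI : IsClosedImmersion i₀ := MorphismProperty.pullback_fst _ _ inferInstance
  let π₀ : pullback f i ⟶ pullback (Spec.map ψ) i :=
    pullback.lift (pullback.fst f i ≫ ν) (pullback.snd f i) (by rw [Category.assoc, hνψ, pullback.condition])
  have sq : IsPullback (pullback.fst f i) π₀ ν i₀ :=
    IsPullback.of_bot (by rw [pullback.lift_snd, hνψ]; exact IsPullback.of_hasPullback f i)
      (pullback.lift_fst _ _ _).symm (IsPullback.of_hasPullback _ i)
  refine holds_pair (B := (B : Type u)) J ν i₀ ?_ sq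
  show Set.range (pullback.fst (Spec.map ψ) i) = _
  rw [Scheme.Pullback.range_fst, Groth.Pi1PBC.range_specMap_mk]
  show _ = PrimeSpectrum.zeroLocus ((I.map (algebraMap A B) : Ideal B) : Set B)
  rw [Ideal.map, PrimeSpectrum.zeroLocus_span, ← PrimeSpectrum.preimage_comap_zeroLocus]
  rfl

end Groth.EtPbc.ProperMain
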