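import Groth.Agent.EtPbc.Proper.PlusScheme
import Groth.Agent.S0245
import Mathlib.RingTheory.LocalProperties.IntegrallyClosed

/-!
# Affine opens and finite étale covers of normal schemes with algebraically closed function field
-/

set_option autoImplicit false
set_option linter.style.haveILetI false

universe u

open CategoryTheory CategoryTheory.Limits AlgebraicGeometry Opposite Polynomial

namespace Groth.EtPbc.Plus

/-- The affine pieces have absolutely integrally closed rings. -/
theorem isAIC_affineOpen {W : Scheme.{u}} [IsIntegral W] (hW : IsPlus W) {U : W.Opens}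
    (hU : IsAffineOpen U) : Curves.IsAIC Γ(W, U) := by
  intro P hP hd
  rcases (U : Set W).eq_empty_or_nonempty with hem | hne
  · have hbot : U = ⊥ := SetLike.coe_injective (hem.trans TopologicalSpace.Opens.coe_bot.symm)
    subst hbot
    exact ⟨0, Subsingleton.elim _ _⟩
  haveI : Nonempty U := ⟨⟨_, hne.choose_spec⟩⟩
  let K := W.functionField
  haveI := hW.algClosed
  haveI : IsFractionRing Γ(W, U) K := functionField_isFractionRing_of_isAffineOpen W U hU
  haveI : IsIntegrallyClosed Γ(W, U) := IsIntegrallyClosed.of_localization_maximal fun p _ hp => by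
    let q : PrimeSpectrum Γ(W, U) := ⟨p, hp.isPrime⟩
    let x : W := hU.fromSpec q
    have hx : x ∈ U := by
      show x ∈ (U : Set W)
      rw [← hU.range_fromSpec]
      exact Set.mem_range_self q
    letI := TopCat.Presheaf.algebra_section_stalk W.presheaf (⟨x, hx⟩ : U)
    haveI : IsLocalization.AtPrime (W.presheaf.stalk x) p := hU.isLocalization_stalk' q hx
    haveI := hW.normal x
    exact IsIntegrallyClosed.of_equiv (IsLocalization.algEquiv p.primeCompl (W.presheaf.stalk x)
      (Localization.AtPrime p)).toRingEquiv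
  obtain ⟨r, hr⟩ := IsAlgClosed.exists_aeval_eq_zero K P
    (ne_of_gt (Polynomial.natDegree_pos_iff_degree_pos.1 hd))
  have hint : IsIntegral Γ(W, U) r := ⟨P, hP, by rwa [Polynomial.aeval_def] at hr⟩
  obtain ⟨a, ha⟩ := (IsIntegrallyClosed.isIntegral_iff (K := K)).1 hint
  refine ⟨a, (injective_iff_map_eq_zero _).1 (IsFractionRing.injective Γ(W, U) K) _ ?_⟩
  rw [← Polynomial.aeval_algebraMap_apply_eq_algebraMap_eval, ha, hr]

/-- Surjective finite étale covers have sections. -/
theorem exists_section_of_plus {W : Scheme.{u}} [IsIntegral W] (hW : IsPlus W) {Y : Scheme.{u}} (φ : Y ⟶ W)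
    [IsFinite φ] [Etale φ] [Surjective φ] : ∃ s : W ⟶ Y, s ≫ φ = 𝟙 W := by
  let j := W.fromSpecStalk (genericPoint W)
  let Yc : FEt.Cat W := MorphismProperty.Over.mk ⊤ φ ⟨inferInstance, inferInstance⟩
  let Wc : FEt.Cat W := MorphismProperty.Over.mk ⊤ (𝟙 W) ⟨inferInstance, inferInstance⟩
  letI : Field (W.presheaf.stalk (genericPoint W)) := inferInstanceAs (Field W.functionField)
  haveI : IsAlgClosed (W.presheaf.stalk (genericPoint W)) := hW.algClosed
  let ξ : Spec (CommRingCat.of (W.presheaf.stalk (genericPoint W))) ⟶ W := j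
  obtain ⟨y, hy⟩ := φ.surjective (ξ default)
  obtain ⟨ζ, hζ, -⟩ := exists_lift φ ξ y hy
  obtain ⟨hfull, -⟩ := Groth.Agent.S0245.result (X := W) (fun w => ⟨inferInstance, hW.normal w⟩)
  let g : (pullback (𝟙 W) j : Scheme.{u}) ⟶ pullback φ j :=
    pullback.lift (pullback.snd (𝟙 W) j ≫ ζ) (pullback.snd (𝟙 W) j) (by
      rw [Category.assoc]; exact congrArg (_ ≫ ·) hζ)
  let m : (FEt.restrict j).obj Wc ⟶ (FEt.restrict j).obj Yc :=
    MorphismProperty.Over.homMk g (pullback.lift_snd _ _ _)
  obtain ⟨ψ, -⟩ := (FEt.restrict j).map_surjective m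
  exact ⟨ψ.left, MorphismProperty.Over.w ψ⟩

end Groth.EtPbc.Plus
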