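import Groth.Agent.EtPbc.Proper.AlgClosedExt
import Groth.Agent.EtPbc.Proper.FiniteCovers
import Groth.Agent.EtPbc.Torsion
import Groth.Agent.EtaleBase.HpullUnivHomeo
import Groth.Agent.FBaseGeom.PurelyInsep

/-!
# Invariance of cohomology of proper schemes under extensions of separably closed fields
-/

set_option autoImplicit false
set_option linter.style.haveILetI false

universe u

open CategoryTheory CategoryTheory.Limits CategoryTheory.Abelian AlgebraicGeometry Opposite

namespace Groth.EtPbc.FieldExt

open Groth.EtPbc.TwoAffine Groth.EtPbc.ConstRestr Groth.EtaleBase Groth.EtPbc.Tower Groth.EtPbc.ProperMain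

attribute [local instance] pull_preservesFiniteLimits

/-- Comparisons with constant coefficients are restrictions. -/
theorem bijective_restr_iff {X Y : Scheme.{u}} (M : Type) [AddCommGroup M] (f : X ⟶ Y) (q : ℕ) :
    Function.Bijective (restr M f q) ↔ Function.Bijective (EtCore.Hpull f (EtCoh.const Y M) q) :=
  Function.Bijective.of_comp_iff'
    (((EtCoh.HF X q).mapIso (EtCore.pullConst f M)).addCommGroupIsoToAddEquiv.bijective) _

/-- Comparisons along equal morphisms. -/
theorem bijective_hpull_congr {X Y : Scheme.{u}} {i j : X ⟶ Y} (h : i = j) (F : EtCoh.Ab Y) (q : ℕ) :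
    Function.Bijective (EtCore.Hpull i F q) ↔ Function.Bijective (EtCore.Hpull j F q) := by
  subst h
  rfl

/-- Comparisons along composites. -/
theorem bijective_hpull_comp {X Y Z : Scheme.{u}} (a : X ⟶ Y) (b : Y ⟶ Z) (F : EtCoh.Ab Z) (q : ℕ) :
    Function.Bijective (EtCore.Hpull (a ≫ b) F q) ↔
      Function.Bijective (EtCore.Hpull a ((EtCoh.pull b).obj F) q ∘ EtCore.Hpull b F q) := by
  let e := ((EtCoh.HF X q).mapIso ((EtCore.pullComp a b).app F)).addCommGroupIsoToAddEquiv
  rw [show EtCore.Hpull a ((EtCoh.pull b).obj F) q ∘ EtCore.Hpull b F q = e ∘ EtCore.Hpull (a ≫ b) F q from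
    funext fun x => EtLimit.Hpull_comp a b F q x]
  exact (Function.Bijective.of_comp_iff' e.bijective _).symm

variable {k K : Type u} [Field k] [Field K]

/-- Constant classes of proper schemes over algebraically closed fields. -/
theorem bijective_restr [IsAlgClosed k] [IsAlgClosed K] (φ : k →+* K) {X : Scheme.{u}}
    (f : X ⟶ Spec (CommRingCat.of k)) [IsProper f] (M : Type) [AddCommGroup M] [Finite M] (q : ℕ) :
    Function.Bijective (restr M (pullback.fst f (Spec.map (CommRingCat.ofHom φ))) q) := by
  letI := φ.toAlgebra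
  exact ⟨injective_restr f M q, surjective_restr f M q⟩

/-- Invariance over algebraically closed fields. -/
theorem bijective_hpull_algClosed [IsAlgClosed k] [IsAlgClosed K] (φ : k →+* K) {X : Scheme.{u}}
    (f : X ⟶ Spec (CommRingCat.of k)) [IsProper f] (F : EtCoh.Ab X) (hF : EtCoh.IsTorsion F) (q : ℕ) :
    Function.Bijective (EtCore.Hpull (pullback.fst f (Spec.map (CommRingCat.ofHom φ))) F q) := by
  let i := pullback.fst f (Spec.map (CommRingCat.ofHom φ))
  haveI : CompactSpace X := QuasiCompact.compactSpace_of_compactSpace f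
  haveI : QuasiSeparatedSpace X := quasiSeparatedSpace_of_quasiSeparated f
  haveI : CompactSpace ↥(pullback f (Spec.map (CommRingCat.ofHom φ))) :=
    QuasiCompact.compactSpace_of_compactSpace (pullback.snd f _)
  haveI : QuasiSeparatedSpace ↥(pullback f (Spec.map (CommRingCat.ofHom φ))) :=
    quasiSeparatedSpace_of_quasiSeparated (pullback.snd f _)
  refine Groth.DescentBase.HpullReduce.bijective_of_finite_covers_finite i (fun M _ _ X' p _ _ => ?_) q F hF
  have e : IsPullback (pullback.fst p i) (pullback.snd p i ≫ pullback.snd f (Spec.map (CommRingCat.ofHom φ)))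
      (p ≫ f) (Spec.map (CommRingCat.ofHom φ)) :=
    ((IsPullback.of_hasPullback p i).flip.paste_horiz (IsPullback.of_hasPullback f _).flip).flip
  let ε := e.isoPullback
  haveI : IsProper (p ≫ f) := inferInstance
  have h : ∀ n, Function.Bijective (EtCore.Hpull (pullback.fst p i) (EtCoh.const X' M) n) := fun n => by
    rw [← bijective_restr_iff, ← show ε.hom ≫ pullback.fst (p ≫ f) _ = pullback.fst p i from
      e.isoPullback_hom_fst]
    rw [show ⇑(restr M (ε.hom ≫ pullback.fst (p ≫ f) _) n) =
      restr M ε.hom n ∘ restr M (pullback.fst (p ≫ f) _) n from funext fun x => (restr_comp M _ _ n x).symm]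
    refine Function.Bijective.comp ?_ (bijective_restr φ (p ≫ f) M n)
    rw [bijective_restr_iff]
    exact InjCoh.Hpull_bijective_univHomeo ε.hom _ n
  exact ⟨h 0, fun n _ => (h n).2⟩

/-- **Invariance over separably closed fields.** -/
theorem bijective_hpull_sep [IsSepClosed k] [IsSepClosed K] (φ : k →+* K) {X : Scheme.{u}}
    (f : X ⟶ Spec (CommRingCat.of k)) [IsProper f] (F : EtCoh.Ab X) (hF : EtCoh.IsTorsion F) (q : ℕ) :
    Function.Bijective (EtCore.Hpull (pullback.fst f (Spec.map (CommRingCat.ofHom φ))) F q) := by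
  let k' := AlgebraicClosure k
  let K' := AlgebraicClosure K
  let ι := CommRingCat.ofHom (algebraMap K K')
  let κ := CommRingCat.ofHom (algebraMap k k')
  letI : Algebra k K' := ((algebraMap K K').comp φ).toAlgebra
  let ψ : k' →ₐ[k] K' := IsAlgClosed.lift
  let s : Spec (CommRingCat.of K') ⟶ Spec (CommRingCat.of k') := Spec.map (CommRingCat.ofHom ψ.toRingHom)
  have hs : s ≫ Spec.map κ = Spec.map ι ≫ Spec.map (CommRingCat.ofHom φ) := by
    rw [← Spec.map_comp, ← Spec.map_comp]
    exact congrArg Spec.map (CommRingCat.hom_ext ψ.comp_algebraMap)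
  let g := Spec.map (CommRingCat.ofHom φ)
  let b := pullback.fst f (Spec.map κ)
  let f' := pullback.snd f (Spec.map κ)
  haveI : IsProper f' := MorphismProperty.pullback_snd _ _ inferInstance
  let i' := pullback.fst f' s
  let a : pullback f' s ⟶ pullback f g := pullback.lift (i' ≫ b) (pullback.snd f' s ≫ Spec.map ι) (by
    simp only [i', b, g]
    rw [Category.assoc, pullback.condition, ← Category.assoc, pullback.condition, Category.assoc, Category.assoc,
      hs])
  have ha : a ≫ pullback.fst f g = i' ≫ b := pullback.lift_fst _ _ _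
  have sq : IsPullback a (pullback.snd f' s) (pullback.snd f g) (Spec.map ι) := by
    refine IsPullback.of_right ?_ (pullback.lift_snd _ _ _) (IsPullback.of_hasPullback f g)
    rw [ha, ← hs]
    exact (IsPullback.of_hasPullback f' s).paste_horiz (IsPullback.of_hasPullback f (Spec.map κ))
  obtain ⟨hb₁, hb₂, hb₃⟩ := Groth.HTopHyper.isUnivHomeo_iff.mp
    (Groth.FBaseGeom.isUnivHomeo_specMap (k := k) (k' := k'))
  obtain ⟨ha₁, ha₂, ha₃⟩ := Groth.HTopHyper.isUnivHomeo_iff.mp
    (Groth.FBaseGeom.isUnivHomeo_specMap (k := K) (k' := K'))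
  haveI : IsIntegralHom b := MorphismProperty.pullback_fst _ _ hb₁
  haveI : UniversallyInjective b := MorphismProperty.pullback_fst _ _ hb₂
  haveI : Surjective b := MorphismProperty.pullback_fst _ _ hb₃
  haveI : IsIntegralHom a := MorphismProperty.of_isPullback sq.flip ha₁
  haveI : UniversallyInjective a := MorphismProperty.of_isPullback sq.flip ha₂
  haveI : Surjective a := MorphismProperty.of_isPullback sq.flip ha₃
  have h := ((bijective_hpull_comp i' b F q).2 ((bijective_hpull_algClosed ψ.toRingHom f'
    ((EtCoh.pull b).obj F) (Groth.EtPbc.Torsion.isTorsion_pull b hF) q).comp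
      (InjCoh.Hpull_bijective_univHomeo b F q)))
  rw [← bijective_hpull_congr ha, bijective_hpull_comp] at h
  exact (Function.Bijective.of_comp_iff'
    (InjCoh.Hpull_bijective_univHomeo a ((EtCoh.pull (pullback.fst f g)).obj F) q) _).1 h

end Groth.EtPbc.FieldExt
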