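import Groth.Agent.EtPbc.Proper.SepInvariance
import Groth.Agent.EtaleBase.Limit.StalkPush
import Groth.Agent.EtaleBase.Limit.StrictCompat

/-!
# Stalks of higher direct images along proper morphisms
-/

set_option autoImplicit false
set_option linter.style.haveILetI false

universe u

open CategoryTheory CategoryTheory.Limits CategoryTheory.Abelian AlgebraicGeometry Opposite

namespace Groth.EtPbc.StalkBC

open Groth.EtPbc.TwoAffine Groth.EtaleBase Groth.EtPbc.ProperMain Groth.EtPbc.FieldExt

attribute [local instance] pull_preservesFiniteLimits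

/-- **The proper base change theorem at geometric points.** -/
theorem nonempty_stalk_iso {X Y : Scheme.{u}} (f : X ⟶ Y) [IsProper f] {Ω : Type u} [Field Ω] [IsSepClosed Ω]
    (ξ : Spec (CommRingCat.of Ω) ⟶ Y) (F : EtCoh.Ab X) (hF : EtCoh.IsTorsion F) (n : ℕ) :
    Nonempty ((EtCoh.stalk ξ).obj ((EtCoh.Rpush f n).obj F) ≅
      AddCommGrpCat.of (EtCoh.H (pullback f ξ) ((EtCoh.pull (pullback.fst f ξ)).obj F) n)) := by
  let O : Type u := EtBase.etaleLocalRing ξ
  let loc : Spec (CommRingCat.of O) ⟶ Y :=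
    Spec.map (Groth.AlgSpEt.StrictLocal.toEtale ξ) ≫ Y.fromSpecStalk (ξ default)
  obtain ⟨hh, hs⟩ := EtLocalRing.isStrictlyHenselian ξ
  haveI : HenselianLocalRing O := hh
  haveI : IsSepClosed (IsLocalRing.ResidueField O) := hs
  obtain ⟨α⟩ := EtLimit.nonempty_stalk_Rpush_iso f ξ loc (𝟙 _) (Category.id_comp _) n
  let fO := pullback.snd f loc
  haveI : IsProper fO := MorphismProperty.pullback_snd _ _ inferInstance
  let G := (EtCoh.pull (pullback.fst f loc)).obj F
  have hG : EtCoh.IsTorsion G := Groth.EtPbc.Torsion.isTorsion_pull _ hF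
  haveI : IsLocalHom (EtLocalRing.ev ξ).hom := EtLimit.isLocalHom_ev ξ
  let ρ : IsLocalRing.ResidueField O →+* Ω := IsLocalRing.ResidueField.lift (EtLocalRing.ev ξ).hom
  let r : Spec (CommRingCat.of (IsLocalRing.ResidueField O)) ⟶ Spec (CommRingCat.of O) :=
    Spec.map (CommRingCat.ofHom (IsLocalRing.residue O))
  let fκ := pullback.snd fO r
  haveI : IsProper fκ := MorphismProperty.pullback_snd _ _ inferInstance
  let c := pullback.fst fκ (Spec.map (CommRingCat.ofHom ρ)) ≫ fib fO
  have hc : Function.Bijective (EtCore.Hpull c G n) := by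
    rw [bijective_hpull_comp]
    exact (bijective_hpull_sep ρ fκ _ (Groth.EtPbc.Torsion.isTorsion_pull _ hG) n).comp
      ((bijective_hpull_iff (fib fO) G n).2 (holds_general fO n _ hG))
  have hρ : Spec.map (CommRingCat.ofHom ρ) ≫ r ≫ loc = ξ := by
    rw [← Category.assoc, ← Spec.map_comp]
    exact EtLimit.specMap_ev_toEtale ξ
  have sq : IsPullback (c ≫ pullback.fst f loc) (pullback.snd fκ (Spec.map (CommRingCat.ofHom ρ))) f ξ := by
    have h := ((IsPullback.of_hasPullback fκ (Spec.map (CommRingCat.ofHom ρ))).paste_horiz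
      (IsPullback.of_hasPullback fO r)).paste_horiz (IsPullback.of_hasPullback f loc)
    rwa [Category.assoc (Spec.map (CommRingCat.ofHom ρ)) r loc, hρ] at h
  let ε := sq.isoPullback
  let e : (EtCoh.pull c).obj G ≅ (EtCoh.pull ε.hom).obj ((EtCoh.pull (pullback.fst f ξ)).obj F) :=
    ((EtCore.pullComp c (pullback.fst f loc)).app F).symm ≪≫
      (EtCore.pullCongr sq.isoPullback_hom_fst.symm).app F ≪≫
        (EtCore.pullComp ε.hom (pullback.fst f ξ)).app F
  refine ⟨α.app F ≪≫ AddEquiv.toAddCommGrpIso ?_⟩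
  exact ((AddEquiv.ofBijective _ hc).trans ((EtCoh.HF _ n).mapIso e).addCommGroupIsoToAddEquiv).trans
    (AddEquiv.ofBijective _ (InjCoh.Hpull_bijective_univHomeo ε.hom
      ((EtCoh.pull (pullback.fst f ξ)).obj F) n)).symm

end Groth.EtPbc.StalkBC
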