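import Groth.Agent.EtPbc.Proper.Criterion
import Groth.Agent.EtPbc.ConsFiltration
import Groth.Agent.EtaleBase.Limit.StalkPush

/-!
# Passing the comparison with a closed subscheme along a proper morphism
-/

set_option autoImplicit false
set_option linter.style.haveILetI false

universe u

open CategoryTheory CategoryTheory.Limits CategoryTheory.Abelian AlgebraicGeometry Opposite

namespace Groth.EtPbc.PBC

open Groth.EtaleBase Groth.EtPbc.ConstRestr

attribute [local instance] pull_preservesFiniteLimits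

/-- A field valued point with image in a closed subscheme factors through it. -/
theorem exists_factor_point {X Z : Scheme.{u}} (i : Z ⟶ X) [IsClosedImmersion i] {K : Type u} [Field K]
    (s : Spec (CommRingCat.of K) ⟶ X) (hs : s default ∈ Set.range i) :
    ∃ l : Spec (CommRingCat.of K) ⟶ Z, l ≫ i = s := by
  obtain ⟨z, hz⟩ := hs
  obtain ⟨c, -⟩ := Scheme.Pullback.exists_preimage_pullback (f := i) (g := s) z default hz
  let q := pullback.snd i s
  haveI : IsAffine (pullback i s) := isAffine_of_isAffineHom q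
  obtain ⟨-, hsurj⟩ := IsClosedImmersion.isAffine_surjective_of_isAffine q
  haveI : Nonempty ↥(pullback i s) := ⟨c⟩
  haveI : IsIso q := by
    haveI : Nontrivial Γ(pullback i s, ⊤) := @Scheme.component_nontrivial _ ⊤ ⟨⟨c, trivial⟩⟩
    let e := (Scheme.ΓSpecIso (CommRingCat.of K)).commRingCatIsoToRingEquiv
    letI : Field Γ(Spec (CommRingCat.of K), ⊤) := (e.toMulEquiv.isField (Field.toIsField K)).toField
    haveI : IsIso q.appTop := (ConcreteCategory.isIso_iff_bijective _).2
      ⟨q.appTop.hom.injective, hsurj⟩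
    exact (HasAffineProperty.iff_of_isAffine (P := MorphismProperty.isomorphisms Scheme)).2 ⟨‹_›, ‹_›⟩
  exact ⟨inv q ≫ pullback.fst i s, by rw [Category.assoc, pullback.condition, IsIso.inv_hom_id_assoc]⟩

/-- A morphism inverted by restriction to a closed subscheme is inverted by stalks at its points. -/
theorem isIso_stalk_of_isIso_pull {X Z : Scheme.{u}} (i : Z ⟶ X) [IsClosedImmersion i] {F G : EtCoh.Ab X}
    (φ : F ⟶ G) [IsIso ((EtCoh.pull i).map φ)] {Ω : Type u} [Field Ω] [IsSepClosed Ω]
    (ξ : Spec (CommRingCat.of Ω) ⟶ X) (hξ : ξ default ∈ Set.range i) :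
    IsIso ((EtCoh.stalk ξ).map φ) := by
  obtain ⟨l, rfl⟩ := exists_factor_point i ξ hξ
  exact (NatIso.isIso_map_iff (stalkPullIso i l) φ).2
    (inferInstanceAs (IsIso ((EtCoh.stalk l).map ((EtCoh.pull i).map φ))))

/-- Restriction to the closed subscheme inverts the unit. -/
theorem isIso_pull_unit {X Z : Scheme.{u}} (i : Z ⟶ X) [IsClosedImmersion i] (G : EtCoh.Ab X) :
    IsIso ((EtCoh.pull i).map ((EtCoh.pullPushAdj i).unit.app G)) := by
  haveI := isIso_counit i ((EtCoh.pull i).obj G)
  have h := (EtCoh.pullPushAdj i).left_triangle_components G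
  haveI : IsIso ((EtCoh.pull i).map ((EtCoh.pullPushAdj i).unit.app G) ≫
      (EtCoh.pullPushAdj i).counit.app ((EtCoh.pull i).obj G)) := by
    erw [h]; exact inferInstanceAs (IsIso (𝟙 ((𝟭 _).obj ((EtCoh.pull i).obj G))))
  exact IsIso.of_isIso_comp_right _ ((EtCoh.pullPushAdj i).counit.app ((EtCoh.pull i).obj G))

/-- The strict localization at a geometric point, over the scheme. -/
noncomputable abbrev loc {X : Scheme.{u}} {Ω : Type u} [Field Ω] [IsSepClosed Ω] (ξ : Spec (CommRingCat.of Ω) ⟶ X) :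
    Spec (EtBase.etaleLocalRing ξ) ⟶ X :=
  Spec.map (Groth.AlgSpEt.StrictLocal.toEtale ξ) ≫ X.fromSpecStalk (ξ default)

variable {X X' Z Z' : Scheme.{u}} (π : X' ⟶ X) (i : Z ⟶ X)

/-- Over the strict localizations at points of `Z`, cohomology agrees on the closed fibre. -/
def Rel : Prop :=
  ∀ (Ω : Type u) [Field Ω] [IsSepClosed Ω] (ξ : Spec (CommRingCat.of Ω) ⟶ X), ξ default ∈ Set.range i →
    ∀ [HenselianLocalRing (EtBase.etaleLocalRing ξ)],
      Holds (pullback.fst (pullback.snd π (loc ξ))
        (Spec.map (CommRingCat.ofHom (IsLocalRing.residue (EtBase.etaleLocalRing ξ)))))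

variable {π i} {i' : Z' ⟶ X'} {π₀ : Z' ⟶ Z}

section

variable [IsClosedImmersion i] [IsClosedImmersion i'] (sq : IsPullback i' π₀ π i)

include sq in
lemma mem_range_iff (x' : X') : x' ∈ Set.range i' ↔ π x' ∈ Set.range i := by
  constructor
  · rintro ⟨z, rfl⟩
    exact ⟨π₀ z, by rw [← Scheme.Hom.comp_apply, ← Scheme.Hom.comp_apply, sq.w]⟩
  · rintro ⟨z, hz⟩
    obtain ⟨c, hc, -⟩ := Scheme.Pullback.exists_preimage_pullback (f := π) (g := i) x' z hz.symm
    refine ⟨sq.isoPullback.inv c, ?_⟩
    rw [← Scheme.Hom.comp_apply, sq.isoPullback_inv_fst]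
    exact hc

variable [QuasiCompact π] [QuasiSeparated π] {G : EtCoh.Ab X'} (hG : EtCoh.IsTorsion G)

include sq in
/-- Outside `Z` the direct image from the closed subscheme has vanishing pull back. -/
lemma isZero_pull_outside {Ω : Type u} [Field Ω] [IsSepClosed Ω] (ξ : Spec (CommRingCat.of Ω) ⟶ X)
    (hξ : ξ default ∉ Set.range i) :
    IsZero ((EtCoh.pull (pullback.fst π (loc ξ))).obj ((EtCoh.push i').obj ((EtCoh.pull i').obj G))) := by
  let g := pullback.fst π (loc ξ)
  refine ConsFiltration.isZero_of_stalk fun p => ?_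
  refine IsZero.of_iso ?_ ((stalkPullIso g (geomPoint p)).app _).symm
  refine isZero_stalk_push i' i'.isClosedEmbedding.isClosed_range _ ?_ _
  rw [Scheme.Hom.comp_apply, geomPoint_apply]
  intro h
  have h1 : π (g p) ∈ Set.range i := (mem_range_iff sq _).1 h
  refine hξ ?_
  have h2 : π (g p) = loc ξ (pullback.snd π (loc ξ) p) := by
    rw [← Scheme.Hom.comp_apply, ← Scheme.Hom.comp_apply, pullback.condition]
  rw [h2, Scheme.Hom.comp_apply] at h1
  have h3 : X.fromSpecStalk (ξ default) ((Spec.map (Groth.AlgSpEt.StrictLocal.toEtale ξ))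
      (pullback.snd π (loc ξ) p)) ⤳ ξ default := by
    have := Set.mem_range_self (f := (X.fromSpecStalk (ξ default)).base)
      ((Spec.map (Groth.AlgSpEt.StrictLocal.toEtale ξ)) (pullback.snd π (loc ξ) p))
    rw [Scheme.range_fromSpecStalk] at this
    exact this
  exact h3.mem_closed i.isClosedEmbedding.isClosed_range h1

include sq hG in
/-- Over `Z` the unit for the closed subscheme is inverted by higher direct images. -/
lemma bijective_stalk_Rpush (hrel : Rel π i) {Ω : Type u} [Field Ω] [IsSepClosed Ω]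
    (ξ : Spec (CommRingCat.of Ω) ⟶ X) (hξ : ξ default ∈ Set.range i) (q : ℕ) :
    Function.Bijective ((EtCoh.stalk ξ).map
      ((EtCoh.Rpush π q).map ((EtCoh.pullPushAdj i').unit.app G))) := by
  let φ := (EtCoh.pullPushAdj i').unit.app G
  obtain ⟨hh, hs⟩ := EtLocalRing.isStrictlyHenselian ξ
  haveI := hh
  obtain ⟨β⟩ := EtLimit.nonempty_stalk_Rpush_iso π ξ (loc ξ) (𝟙 _) (Category.id_comp _) q
  let g := pullback.fst π (loc ξ)
  let h := pullback.snd π (loc ξ)
  let r : Spec (CommRingCat.of (IsLocalRing.ResidueField (EtBase.etaleLocalRing ξ))) ⟶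
      Spec (EtBase.etaleLocalRing ξ) :=
    Spec.map (CommRingCat.ofHom (IsLocalRing.residue (EtBase.etaleLocalRing ξ)))
  let j := pullback.fst h r
  haveI : IsClosedImmersion r := IsClosedImmersion.spec_of_surjective _ IsLocalRing.residue_surjective
  haveI : IsClosedImmersion j := MorphismProperty.pullback_fst _ _ inferInstance
  haveI := isIso_pull_unit i' G
  have hrange : ∀ t, (j ≫ g) t ∈ Set.range i' := fun t => by
    refine (mem_range_iff sq _).2 ?_
    have e : π ((j ≫ g) t) = (r ≫ loc ξ) (pullback.snd h r t) := by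
      simp only [← Scheme.Hom.comp_apply, g, j, h, Category.assoc, pullback.condition_assoc,
        pullback.condition]
    rw [e]
    have e2 : (r ≫ loc ξ) (pullback.snd h r t) = ξ default := by
      rw [Scheme.Hom.comp_apply]
      have hcl : r (pullback.snd h r t) = IsLocalRing.closedPoint (EtBase.etaleLocalRing ξ) :=
        IsLocalRing.PrimeSpectrum.comap_residue _ _
      rw [hcl]
      rw [Scheme.Hom.comp_apply]
      haveI := Groth.AlgSpEt.StrictLocal.isLocalHom_stalkTo ξ (Groth.AlgSpEt.StrictLocal.topPt ξ)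
      haveI : IsLocalHom (Groth.AlgSpEt.StrictLocal.toEtale ξ).hom := this
      have hc : (Spec.map (Groth.AlgSpEt.StrictLocal.toEtale ξ)) (IsLocalRing.closedPoint _) =
          IsLocalRing.closedPoint (X.presheaf.stalk (ξ default)) := IsLocalRing.comap_closedPoint _
      rw [hc]
      exact Scheme.fromSpecStalk_closedPoint
    rw [e2]
    exact hξ
  haveI : IsIso ((EtCoh.pull (j ≫ g)).map φ) := ConsFiltration.isIso_pull_map _ _ fun t =>
    isIso_stalk_of_isIso_pull i' φ _ (by rw [Scheme.Hom.comp_apply, geomPoint_apply]; exact hrange t)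
  haveI : IsIso ((EtCoh.pull j).map ((EtCoh.pull g).map φ)) :=
    (NatIso.isIso_map_iff (EtCore.pullComp j g) φ).1 inferInstance
  have hP : Holds j := hrel Ω ξ hξ
  have ht1 : EtCoh.IsTorsion ((EtCoh.pull g).obj G) := Torsion.isTorsion_pull g hG
  have ht2 : EtCoh.IsTorsion ((EtCoh.pull g).obj ((EtCoh.push i').obj ((EtCoh.pull i').obj G))) :=
    Torsion.isTorsion_pull g (isTorsion_push' i' (Torsion.isTorsion_pull i' hG))
  have hnat := (EtCoh.pullPushAdj j).unit.naturality ((EtCoh.pull g).map φ)
  let L := EtCoh.HF (pullback π (loc ξ)) q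
  have b1 : IsIso (L.map ((EtCoh.pullPushAdj j).unit.app ((EtCoh.pull g).obj G))) :=
    (ConcreteCategory.isIso_iff_bijective _).2 (hP q _ ht1)
  have b2 : IsIso (L.map ((EtCoh.pullPushAdj j).unit.app
      ((EtCoh.pull g).obj ((EtCoh.push i').obj ((EtCoh.pull i').obj G))))) :=
    (ConcreteCategory.isIso_iff_bijective _).2 (hP q _ ht2)
  have b3 : IsIso (L.map ((EtCoh.pull g).map φ)) := by
    have h1 := congrArg L.map hnat
    rw [Functor.map_comp, Functor.map_comp] at h1
    haveI : IsIso ((EtCoh.pull j ⋙ EtCoh.push j).map ((EtCoh.pull g).map φ)) :=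
      inferInstanceAs (IsIso ((EtCoh.push j).map ((EtCoh.pull j).map ((EtCoh.pull g).map φ))))
    exact @IsIso.of_isIso_fac_right _ _ _ _ _ _ _ _ b2 (@IsIso.comp_isIso _ _ _ _ _ _ _ b1 inferInstance) h1
  exact (ConcreteCategory.isIso_iff_bijective _).1
    ((NatIso.isIso_map_iff β φ).2 b3 : IsIso ((EtCoh.Rpush π q ⋙ EtCoh.stalk ξ).map φ))

include sq in
/-- The higher direct images of the restriction vanish outside `Z`. -/
lemma isZero_stalk_Rpush_outside {Ω : Type u} [Field Ω] [IsSepClosed Ω]
    (ξ : Spec (CommRingCat.of Ω) ⟶ X) (hξ : ξ default ∉ Set.range i) (q : ℕ) :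
    IsZero ((EtCoh.stalk ξ).obj ((EtCoh.Rpush π q).obj ((EtCoh.push i').obj ((EtCoh.pull i').obj G)))) := by
  obtain ⟨β⟩ := EtLimit.nonempty_stalk_Rpush_iso π ξ (loc ξ) (𝟙 _) (Category.id_comp _) q
  exact IsZero.of_iso ((EtCoh.HF (pullback π (loc ξ)) q).map_isZero (isZero_pull_outside sq ξ hξ)) (β.app _)

include sq hG in
/-- **Transfer of acyclicity on the closed subschemes.** -/
theorem transfer (hrel : Rel π i) (h0 : ∀ q : ℕ, 0 < q → IsZero ((EtCoh.Rpush π q).obj G)) (n : ℕ) :
    Subsingleton (EtCoh.H Z' ((EtCoh.pull i').obj G) (n + 1)) ↔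
      Subsingleton (EtCoh.H Z ((EtCoh.pull i).obj ((EtCoh.push π).obj G)) (n + 1)) := by
  classical
  let H := (EtCoh.push i').obj ((EtCoh.pull i').obj G)
  let φ : G ⟶ H := (EtCoh.pullPushAdj i').unit.app G
  have hH : ∀ q : ℕ, 0 < q → IsZero ((EtCoh.Rpush π q).obj H) := fun q hq => by
    refine ConsFiltration.isZero_of_stalk fun x => ?_
    by_cases hx : (geomPoint x) default ∈ Set.range i
    · have := bijective_stalk_Rpush sq hG hrel (geomPoint x) hx q
      haveI := (ConcreteCategory.isIso_iff_bijective _).2 this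
      exact IsZero.of_iso ((EtCoh.stalk (geomPoint x)).map_isZero (h0 q hq))
        (asIso ((EtCoh.stalk (geomPoint x)).map ((EtCoh.Rpush π q).map φ))).symm
    · exact isZero_stalk_Rpush_outside sq _ hx q
  haveI : PreservesFiniteLimits (EtCoh.push π) :=
    (EtCoh.pullPushAdj π).rightAdjoint_preservesLimits.{0, 0}.preservesFiniteLimits
  let e0 := (EtCoh.push π).rightDerivedZeroIsoSelf
  let K := (EtCoh.push π).obj H
  let ψ : (EtCoh.push π).obj G ⟶ K := (EtCoh.push π).map φ
  have hψ : IsIso ((EtCoh.pull i).map ψ) := ConsFiltration.isIso_pull_map i ψ fun z => by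
    have hb := bijective_stalk_Rpush sq hG hrel (geomPoint z ≫ i)
      (by rw [Scheme.Hom.comp_apply, geomPoint_apply]; exact Set.mem_range_self z) 0
    haveI := (ConcreteCategory.isIso_iff_bijective _).2 hb
    exact (NatIso.isIso_map_iff (Functor.isoWhiskerRight e0 (EtCoh.stalk (geomPoint z ≫ i))) φ).1
      (inferInstanceAs (IsIso ((EtCoh.stalk (geomPoint z ≫ i)).map ((EtCoh.Rpush π 0).map φ))))
  haveI hK : IsIso ((EtCoh.pullPushAdj i).unit.app K) := isIso_of_exists_stalk _ fun x => by
    by_cases hx : x ∈ Set.range i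
    · obtain ⟨z, rfl⟩ := hx
      refine ⟨_, inferInstance, inferInstance, geomPoint z ≫ i,
        by rw [Scheme.Hom.comp_apply, geomPoint_apply], ?_⟩
      haveI := isIso_pull_unit i K
      exact (ConcreteCategory.isIso_iff_bijective _).1
        (isIso_stalk_of_isIso_pull i _ _ (by rw [Scheme.Hom.comp_apply, geomPoint_apply]; exact Set.mem_range_self z))
    · refine ⟨_, inferInstance, inferInstance, geomPoint x, geomPoint_apply x _, ?_⟩
      have hx' : (geomPoint x) default ∉ Set.range i := by rwa [geomPoint_apply]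
      have h1 := AddCommGrpCat.subsingleton_of_isZero (IsZero.of_iso
        (isZero_stalk_Rpush_outside sq (G := G) (geomPoint x) hx' 0)
        ((EtCoh.stalk (geomPoint x)).mapIso (e0.app H)).symm)
      have h2 := AddCommGrpCat.subsingleton_of_isZero
        (isZero_stalk_push i i.isClosedEmbedding.isClosed_range (geomPoint x) hx' ((EtCoh.pull i).obj K))
      exact ⟨fun a b _ => h1.elim a b, fun b => ⟨0, h2.elim _ _⟩⟩
  let q := n + 1
  let a1 := EtLim.HofPush π H q
  let a2 := EtLim.HofPush i' ((EtCoh.pull i').obj G) q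
  let a3 := EtLim.HofPush i ((EtCoh.pull i).obj K) q
  have b1 : Function.Bijective a1 := InjCoh.HofPush_bijective π H hH q
  have b2 : Function.Bijective a2 := ClosedMV.hofPush_bijective i' _ q
  have b3 : Function.Bijective a3 := ClosedMV.hofPush_bijective i _ q
  let b4 := ((EtCoh.HF X q).mapIso (asIso ((EtCoh.pullPushAdj i).unit.app K))).addCommGroupIsoToAddEquiv
  let b5 := ((EtCoh.HF Z q).mapIso (asIso ((EtCoh.pull i).map ψ))).addCommGroupIsoToAddEquiv
  let e : EtCoh.H Z' ((EtCoh.pull i').obj G) q ≃ EtCoh.H Z ((EtCoh.pull i).obj ((EtCoh.push π).obj G)) q :=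
    ((Equiv.ofBijective _ b2).symm.trans (Equiv.ofBijective _ b1).symm).trans
      ((b4.toEquiv.trans (Equiv.ofBijective _ b3)).trans b5.toEquiv.symm)
  exact ⟨fun h => @Equiv.subsingleton _ _ e.symm h, fun h => @Equiv.subsingleton _ _ e h⟩

end

variable [IsClosedImmersion i] [IsClosedImmersion i']

/-- Acyclicity of a geometric point is invariant along morphisms satisfying the relative comparison. -/
theorem acyc_iff (sq : IsPullback i' π₀ π i) [QuasiCompact π] [QuasiSeparated π] (hrel : Rel π i)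
    [QuasiSeparatedSpace X'] {K : Type u} [Field K] [IsSepClosed K] (ξ : Spec (CommRingCat.of K) ⟶ X') :
    Acyc i' ξ ↔ Acyc i (ξ ≫ π) := by
  haveI : (EtCoh.push π).Additive := (EtCoh.pullPushAdj π).right_adjoint_additive
  haveI : (EtCoh.push ξ).Additive := (EtCoh.pullPushAdj ξ).right_adjoint_additive
  constructor <;> intro h M _ _ n
  all_goals
    let C := EtCoh.const (Spec (CommRingCat.of K)) M
    have ht : EtCoh.IsTorsion ((EtCoh.push ξ).obj C) := isTorsion_push' ξ (ClosedEfface.isTorsion_const M)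
    have h0 : ∀ q : ℕ, 0 < q → IsZero ((EtCoh.Rpush π q).obj ((EtCoh.push ξ).obj C)) := by
      rintro (_ | q) hq
      · exact absurd hq (lt_irrefl 0)
      · exact Groth.Misc3Zar.GenPt.isZero_Rpush_push π ξ q C
    have key := transfer sq ht hrel h0 n
    have e := ((EtCoh.HF Z (n + 1)).mapIso ((EtCoh.pull i).mapIso
      ((EtCoh.pushComp π ξ).app C))).addCommGroupIsoToAddEquiv.toEquiv
  · exact @Equiv.subsingleton _ _ e.symm (key.1 (h M n))
  · exact key.2 (@Equiv.subsingleton _ _ e (h M n))

omit i' in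
/-- If cohomology agrees on `Z`, all geometric points are acyclic. -/
theorem acyc_of_holds [QuasiSeparatedSpace X] (hP : Holds i) {K : Type u} [Field K] [IsSepClosed K]
    (ξ : Spec (CommRingCat.of K) ⟶ X) : Acyc i ξ := by
  intro M _ _ n
  let G := (EtCoh.push ξ).obj (EtCoh.const (Spec (CommRingCat.of K)) M)
  have hG : EtCoh.IsTorsion G := isTorsion_push' ξ (ClosedEfface.isTorsion_const M)
  haveI hs := subsingleton_H_push_point ξ (EtCoh.const (Spec (CommRingCat.of K)) M) n
  haveI hs' : Subsingleton (EtCoh.H X ((EtCoh.push i).obj ((EtCoh.pull i).obj G)) (n + 1)) :=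
    @Function.Surjective.subsingleton _ _ _ hs (hP (n + 1) G hG).2
  exact @Function.Surjective.subsingleton _ _ _ hs' (ClosedMV.hofPush_bijective i ((EtCoh.pull i).obj G) (n + 1)).2

/-- **Descending the comparison along a morphism satisfying the relative comparison.** -/
theorem good_of_holds_base (sq : IsPullback i' π₀ π i) [QuasiCompact π] [QuasiSeparated π]
    [QuasiSeparatedSpace X] (hrel : Rel π i) (hP : Holds i) (x' : X') : Good i' x' := by
  haveI : QuasiSeparatedSpace X' := quasiSeparatedSpace_of_quasiSeparated π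
  let ξ : Spec (CommRingCat.of (AlgebraicClosure (X'.residueField x'))) ⟶ X' :=
    Spec.map (CommRingCat.ofHom (algebraMap (X'.residueField x') _)) ≫ X'.fromSpecResidueField x'
  refine ⟨_, inferInstance, inferInstance, ξ, ?_, (acyc_iff sq hrel ξ).2 (acyc_of_holds hP _)⟩
  rw [Scheme.Hom.comp_apply]
  exact Scheme.fromSpecResidueField_apply _ _

/-- **The comparison at the image of an acyclic point.** -/
theorem good_of_good_source (sq : IsPullback i' π₀ π i) [QuasiCompact π] [QuasiSeparated π]
    [QuasiSeparatedSpace X'] (hrel : Rel π i) (x' : X') (h : Good i' x') : Good i (π x') := by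
  obtain ⟨K, _, _, ξ, hξ, ha⟩ := h
  exact ⟨K, _, inferInstance, ξ ≫ π, by rw [Scheme.Hom.comp_apply, hξ], (acyc_iff sq hrel ξ).1 ha⟩

end Groth.EtPbc.PBC
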