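import Groth.Agent.EtCd.ProjChart
import Groth.Agent.Variety2.ProjBasics
import Mathlib

/-!
# Towers of proper morphisms covered by two opens affine over the target
-/

set_option autoImplicit false
set_option linter.style.haveILetI false

universe u

open CategoryTheory CategoryTheory.Limits AlgebraicGeometry Opposite

namespace Groth.EtPbc.Tower

/-- Two opens affine over the target cover the source. -/
def TwoAff {X Y : Scheme.{u}} (π : X ⟶ Y) : Prop :=
  ∃ U V : X.Opens, U ⊔ V = ⊤ ∧ IsAffineHom (U.ι ≫ π) ∧ IsAffineHom (V.ι ≫ π)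

/-- Affine morphisms have this property. -/
theorem twoAff_of_isAffineHom {X Y : Scheme.{u}} (π : X ⟶ Y) [IsAffineHom π] : TwoAff π := by
  haveI : IsIso (⊤ : X.Opens).ι := inferInstanceAs (IsIso X.topIso.hom)
  exact ⟨⊤, ⊤, sup_idem _, inferInstance, inferInstance⟩

/-- The property is stable under base change. -/
theorem TwoAff.of_isPullback {X Y X' Y' : Scheme.{u}} {π : X ⟶ Y} {g : Y' ⟶ Y} {π' : X' ⟶ Y'}
    {g' : X' ⟶ X} (sq : IsPullback g' π' π g) (h : TwoAff π) : TwoAff π' := by
  obtain ⟨U, V, hUV, hU, hV⟩ := h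
  have key : ∀ W : X.Opens, IsAffineHom (W.ι ≫ π) → IsAffineHom ((g' ⁻¹ᵁ W).ι ≫ π') := fun W hW =>
    MorphismProperty.of_isPullback ((isPullback_morphismRestrict g' W).paste_vert sq) hW
  refine ⟨g' ⁻¹ᵁ U, g' ⁻¹ᵁ V, ?_, key U hU, key V hV⟩
  rw [← Scheme.Hom.preimage_sup, hUV]
  rfl

/-- Iterated proper morphisms covered by two opens affine over the target. -/
inductive IsTower : ∀ {T S : Scheme.{u}}, (T ⟶ S) → Prop
  | iso {T S : Scheme.{u}} (g : T ⟶ S) (hg : IsIso g) : IsTower g
  | step {T' T S : Scheme.{u}} (π : T' ⟶ T) (g : T ⟶ S) (hπ : IsProper π) (h2 : TwoAff π) (hg : IsTower g) :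
      IsTower (π ≫ g)

theorem IsTower.isProper {T S : Scheme.{u}} {g : T ⟶ S} (h : IsTower g) : IsProper g := by
  induction h with
  | iso g hg => infer_instance
  | step π g hπ _ _ ih => infer_instance

/-- Towers are stable under base change. -/
theorem IsTower.of_isPullback {T S : Scheme.{u}} {g : T ⟶ S} (h : IsTower g) :
    ∀ {T' S' : Scheme.{u}} {b : S' ⟶ S} {g' : T' ⟶ S'} {a : T' ⟶ T}, IsPullback a g' g b → IsTower g' := by
  induction h with
  | iso g hg =>
    intro T' S' b g' a sq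
    exact IsTower.iso g' (MorphismProperty.of_isPullback (P := MorphismProperty.isomorphisms Scheme) sq hg)
  | step π g hπ h2 _ ih =>
    intro T' S' b g' a sq
    let π' := pullback.lift (a ≫ π) g' (by rw [Category.assoc]; exact sq.w) (f := g) (g := b)
    have e : π' ≫ pullback.snd g b = g' := pullback.lift_snd _ _ _
    have sq' : IsPullback a π' π (pullback.fst g b) :=
      IsPullback.of_bot (by rw [e]; exact sq) (pullback.lift_fst _ _ _).symm (IsPullback.of_hasPullback g b)
    rw [← e]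
    exact IsTower.step π' _ (MorphismProperty.of_isPullback sq' hπ) (h2.of_isPullback sq')
      (ih (IsPullback.of_hasPullback g b))

/-- The projective line over the integers. -/
noncomputable abbrev P1 : Scheme.{u} := CohB1.ProjSpace 1 (ULift.{u} ℤ)

/-- The affine line in it. -/
noncomputable def chart : Spec (CommRingCat.of (MvPolynomial (Fin 1) (ULift.{u} ℤ))) ⟶ P1.{u} :=
  Spec.map (CommRingCat.ofHom (EtCdProjChart.equiv (R := ULift.{u} ℤ) (N := 1) 0).toRingHom) ≫
    Proj.awayι (CohB1.polyGrading 1 (ULift.{u} ℤ)) (MvPolynomial.X 0) (EtCdProjChart.X_mem 0) one_pos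

instance isOpenImmersion_chart : IsOpenImmersion chart.{u} := by
  haveI : IsIso (CommRingCat.ofHom (EtCdProjChart.equiv (R := ULift.{u} ℤ) (N := 1) 0).toRingHom) :=
    (ConcreteCategory.isIso_iff_bijective _).2 (EtCdProjChart.equiv (R := ULift.{u} ℤ) (N := 1) 0).bijective
  haveI : IsOpenImmersion (Proj.awayι (CohB1.polyGrading 1 (ULift.{u} ℤ)) (MvPolynomial.X 0)
      (EtCdProjChart.X_mem (R := ULift.{u} ℤ) 0) one_pos) := inferInstance
  exact MorphismProperty.comp_mem @IsOpenImmersion _ _ (inferInstance) this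

/-- The projective line is covered by two affine opens. -/
theorem twoAff_P1 : TwoAff (CohB1.ProjSpace.toSpec 1 (ULift.{u} ℤ)) := by
  let 𝒜 := CohB1.polyGrading 1 (ULift.{u} ℤ)
  let B : Fin 2 → P1.{u}.Opens := fun j => Proj.basicOpen 𝒜 (MvPolynomial.X j)
  have haff : ∀ j, IsAffineHom ((B j).ι ≫ CohB1.ProjSpace.toSpec 1 (ULift.{u} ℤ)) := fun j => by
    haveI : IsAffine ((B j) : Scheme.{u}) :=
      Proj.isAffineOpen_basicOpen 𝒜 (MvPolynomial.X j) (EtCdProjChart.X_mem j) one_pos
    exact isAffineHom_of_isAffine _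
  refine ⟨B 0, B 1, ?_, haff 0, haff 1⟩
  have hsup : ⨆ j, B j = ⊤ := by
    refine Proj.iSup_basicOpen_eq_top' 𝒜 (fun j : Fin 2 => MvPolynomial.X j)
      (fun j => ⟨1, EtCdProjChart.X_mem j⟩) ?_
    refine eq_top_iff.2 fun p hp0 => ?_
    clear hp0
    induction p using MvPolynomial.induction_on with
    | C r =>
      exact (Algebra.adjoin (𝒜 0) _).algebraMap_mem
        (⟨MvPolynomial.C r, MvPolynomial.isHomogeneous_C _ r⟩ : 𝒜 0)
    | add p q hp hq => exact add_mem hp hq
    | mul_X p i hp => exact mul_mem hp (Algebra.subset_adjoin ⟨i, rfl⟩)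
  rw [← hsup]
  refine le_antisymm (sup_le (le_iSup B 0) (le_iSup B 1)) (iSup_le fun j => ?_)
  fin_cases j
  · exact le_sup_left
  · exact le_sup_right

/-- Towers realise finite powers of the projective line. -/
theorem exists_power (S : Scheme.{u}) (n : ℕ) :
    ∃ (T : Scheme.{u}) (g : T ⟶ S) (pr : Fin n → (T ⟶ P1.{u})), IsTower g ∧
      (∀ {W : Scheme.{u}} (a : W ⟶ S) (b : Fin n → (W ⟶ P1.{u})), ∃ l : W ⟶ T, l ≫ g = a ∧ ∀ j, l ≫ pr j = b j) ∧
      ∀ {W : Scheme.{u}} (l l' : W ⟶ T), l ≫ g = l' ≫ g → (∀ j, l ≫ pr j = l' ≫ pr j) → l = l' := by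
  induction n with
  | zero =>
    exact ⟨S, 𝟙 S, Fin.elim0, IsTower.iso _ inferInstance,
      fun a b => ⟨a, Category.comp_id a, fun j => j.elim0⟩, fun l l' h _ => by simpa using h⟩
  | succ n ih =>
    obtain ⟨T, g, pr, hg, hl, huniq⟩ := ih
    let t := CohB1.ProjSpace.toSpec 1 (ULift.{u} ℤ)
    let s := specULiftZIsTerminal.from T
    let π : pullback t s ⟶ T := pullback.snd t s
    have hπ : IsProper π := MorphismProperty.pullback_snd _ _ (Groth.Variety2.isProper_projSpace_toSpec 1 _)
    refine ⟨pullback t s, π ≫ g, Fin.cons (pullback.fst t s) (fun j => π ≫ pr j),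
      IsTower.step π g hπ (twoAff_P1.of_isPullback (IsPullback.of_hasPullback t s)) hg, fun a b => ?_,
      fun l l' h1 h2 => ?_⟩
    · obtain ⟨l, h1, h2⟩ := hl a (fun j => b j.succ)
      refine ⟨pullback.lift (b 0) l (specULiftZIsTerminal.hom_ext _ _), ?_, fun j => ?_⟩
      · rw [← Category.assoc, pullback.lift_snd, h1]
      · refine Fin.cases ?_ (fun i => ?_) j
        · rw [Fin.cons_zero, pullback.lift_fst]
        · rw [Fin.cons_succ, ← Category.assoc, pullback.lift_snd, h2]
    · refine pullback.hom_ext ?_ (huniq _ _ (by rw [Category.assoc, Category.assoc]; exact h1) fun j => ?_)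
      · simpa using h2 0
      · simpa using h2 j.succ

end Groth.EtPbc.Tower
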