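import Groth.Agent.Pi1Quot.SigmaFinite
import Mathlib.AlgebraicGeometry.Morphisms.Etale
import Mathlib.AlgebraicGeometry.Gluing
import Mathlib.Data.ZMod.Basic

/-!
# The cyclic cover twisted along a clopen subset of an intersection of two opens
-/

set_option autoImplicit false
set_option linter.style.haveILetI false
set_option backward.isDefEq.respectTransparency.types false

universe u

open CategoryTheory CategoryTheory.Limits AlgebraicGeometry TopologicalSpace

namespace Groth.EtPbc.TwistedCover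

variable {W : Scheme.{u}} (U V : W.Opens) (N : ℕ) (C : W.Opens)

/-- The part of the intersection on one side of the clopen. -/
def side : Bool → W.Opens
  | true => C
  | false => ⟨((U ⊓ V : W.Opens) : Set W) \ closure (C : Set W), (U ⊓ V).2.sdiff isClosed_closure⟩

/-- The shift. -/
def shift : Bool → ZMod N
  | true => 1
  | false => 0

/-- Sheets over an open. -/
noncomputable abbrev sheets : Scheme.{u} := ∐ fun _ : ULift.{u} (ZMod N) => (U : Scheme.{u})

/-- A point of a disjoint union of copies. -/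
noncomputable abbrev idx (y : sheets U N) : ZMod N := ((sigmaMk _).symm y).1.down

lemma idx_ι (m : ULift.{u} (ZMod N)) (v : (U : Scheme.{u})) :
    idx U N (Sigma.ι (fun _ : ULift.{u} (ZMod N) => (U : Scheme.{u})) m v) = m.down := by
  rw [idx, ← sigmaMk_mk, Homeomorph.symm_apply_apply]

lemma isLocallyConstant_idx : IsLocallyConstant (idx U N) := by
  have : IsLocallyConstant (fun p : Σ _ : ULift.{u} (ZMod N), (U : Scheme.{u}) => p.1.down) := by
    refine (IsLocallyConstant.iff_exists_open _).2 fun p => ?_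
    exact ⟨Set.range (Sigma.mk p.1), isOpen_range_sigmaMk, ⟨p.2, rfl⟩, fun q ⟨v, hv⟩ => hv ▸ rfl⟩
  exact this.comp_continuous (sigmaMk _).symm.continuous

variable {U V N} (hC : C ≤ U ⊓ V) (hCc : closure (C : Set W) ∩ (U ⊓ V : W.Opens) ⊆ C)

include hC in
lemma side_le : ∀ b, side U V C b ≤ U ⊓ V
  | true => hC
  | false => fun _ h => h.1

lemma side_disjoint (b b' : Bool) (h : b ≠ b') : Disjoint (side U V C b : Set W) (side U V C b' : Set W) := by
  cases b <;> cases b' <;> first | exact absurd rfl h | skip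
  · exact Set.disjoint_left.2 fun x hx hx' => hx.2 (subset_closure hx')
  · exact Set.disjoint_left.2 fun x hx' hx => hx.2 (subset_closure hx')

include hCc in
lemma exists_side (x : W) (hx : x ∈ U ⊓ V) : ∃ b, x ∈ side U V C b := by
  by_cases h : x ∈ C
  · exact ⟨true, h⟩
  · exact ⟨false, hx, fun hc => h (hCc ⟨hc, hx⟩)⟩

variable (N)

/-- The overlap pieces. -/
noncomputable abbrev overlap : Scheme.{u} :=
  ∐ fun p : ULift.{u} (ZMod N × Bool) => (side U V C p.down.2 : Scheme.{u})

/-- The overlap in the sheets over `U`. -/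
noncomputable def left : overlap (U := U) (V := V) N C ⟶ sheets U N :=
  Sigma.desc fun p => W.homOfLE ((side_le C hC p.down.2).trans inf_le_left) ≫
    Sigma.ι (fun _ : ULift.{u} (ZMod N) => (U : Scheme.{u})) ⟨p.down.1⟩

/-- The overlap in the sheets over `V`, shifted on the clopen. -/
noncomputable def right : overlap (U := U) (V := V) N C ⟶ sheets V N :=
  Sigma.desc fun p => W.homOfLE ((side_le C hC p.down.2).trans inf_le_right) ≫
    Sigma.ι (fun _ : ULift.{u} (ZMod N) => (V : Scheme.{u})) ⟨p.down.1 + shift N p.down.2⟩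

lemma isOpenImmersion_desc {O : W.Opens} (e : ZMod N × Bool → ZMod N)
    (he : ∀ m m' b, e (m, b) = e (m', b) → m = m') (h : ∀ b, side U V C b ≤ O) :
    IsOpenImmersion (Sigma.desc fun p : ULift.{u} (ZMod N × Bool) => W.homOfLE (h p.down.2) ≫
      Sigma.ι (fun _ : ULift.{u} (ZMod N) => (O : Scheme.{u})) ⟨e p.down⟩) := by
  refine isOpenImmersion_sigmaDesc _ _ fun p q hpq => ?_
  refine Set.disjoint_left.2 ?_
  rintro _ ⟨x, rfl⟩ ⟨y, hy⟩
  simp only [Scheme.Hom.comp_apply] at hy
  have h1 := congrArg (sigmaMk _).symm hy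
  rw [← sigmaMk_mk, ← sigmaMk_mk, Homeomorph.symm_apply_apply, Homeomorph.symm_apply_apply] at h1
  obtain ⟨he', hxy⟩ := Sigma.mk.inj h1
  have hxy' : (y.1 : W) = x.1 := by
    have := congrArg (fun z : ↥(O : Scheme.{u}) => O.ι.base z) (eq_of_heq hxy)
    simp only [← Scheme.Hom.comp_apply, W.homOfLE_ι] at this
    exact this
  have hb : p.down.2 = q.down.2 := by
    by_contra hne
    exact Set.disjoint_left.1 (side_disjoint C p.down.2 q.down.2 hne) x.2 (hxy' ▸ y.2)
  refine hpq (ULift.ext _ _ (Prod.ext ?_ hb))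
  refine he _ _ q.down.2 ?_
  rw [show (p.down.1, q.down.2) = p.down from Prod.ext rfl hb.symm]
  exact (congrArg ULift.down he').symm

instance isOpenImmersion_left : IsOpenImmersion (left N C hC) :=
  isOpenImmersion_desc N C (fun p => p.1) (fun _ _ _ h => h) fun b => (side_le C hC b).trans inf_le_left

instance isOpenImmersion_right : IsOpenImmersion (right N C hC) :=
  isOpenImmersion_desc N C (fun p => p.1 + shift N p.2) (fun _ _ _ h => add_right_cancel h)
    fun b => (side_le C hC b).trans inf_le_right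

lemma left_over : left N C hC ≫ Sigma.desc (fun _ => U.ι) = Sigma.desc fun p : ULift.{u} (ZMod N × Bool) => (side U V C p.down.2).ι := by
  refine Sigma.hom_ext _ _ fun p => ?_
  simp [left]

lemma right_over : right N C hC ≫ Sigma.desc (fun _ => V.ι) = Sigma.desc fun p : ULift.{u} (ZMod N × Bool) => (side U V C p.down.2).ι := by
  refine Sigma.hom_ext _ _ fun p => ?_
  simp [right]

/-- The twisted cover. -/
noncomputable abbrev cover : Scheme.{u} := pushout (left N C hC) (right N C hC)

/-- Its structure map. -/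
noncomputable def map : cover N C hC ⟶ W :=
  pushout.desc (Sigma.desc fun _ => U.ι) (Sigma.desc fun _ => V.ι)
    ((left_over N C hC).trans (right_over N C hC).symm)

instance : IsOpenImmersion (pushout.inl (left N C hC) (right N C hC)) :=
  inferInstanceAs (IsOpenImmersion (colimit.ι (span (left N C hC) (right N C hC)) WalkingSpan.left))

instance : IsOpenImmersion (pushout.inr (left N C hC) (right N C hC)) :=
  inferInstanceAs (IsOpenImmersion (colimit.ι (span (left N C hC) (right N C hC)) WalkingSpan.right))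

lemma jointly_surjective (y : cover N C hC) :
    (∃ a, pushout.inl (left N C hC) (right N C hC) a = y) ∨
      (∃ b, pushout.inr (left N C hC) (right N C hC) b = y) := by
  obtain ⟨i, z, rfl⟩ := Scheme.IsLocallyDirected.ι_jointly_surjective (span (left N C hC) (right N C hC)) y
  rcases i with (_ | _ | _)
  · refine Or.inl ⟨left N C hC z, ?_⟩
    rw [← Scheme.Hom.comp_apply]
    exact congrArg (fun t => t z) (colimit.w (span (left N C hC) (right N C hC)) WalkingSpan.Hom.fst)
  · exact Or.inl ⟨z, rfl⟩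
  · exact Or.inr ⟨z, rfl⟩

lemma map_inl (m : ULift.{u} (ZMod N)) (v : (U : Scheme.{u})) :
    map N C hC (pushout.inl (left N C hC) (right N C hC) (Sigma.ι (fun _ => (U : Scheme.{u})) m v)) = v.1 := by
  rw [← Scheme.Hom.comp_apply, ← Scheme.Hom.comp_apply, map, pushout.inl_desc, Sigma.ι_desc]
  rfl

lemma map_inr (m : ULift.{u} (ZMod N)) (v : (V : Scheme.{u})) :
    map N C hC (pushout.inr (left N C hC) (right N C hC) (Sigma.ι (fun _ => (V : Scheme.{u})) m v)) = v.1 := by
  rw [← Scheme.Hom.comp_apply, ← Scheme.Hom.comp_apply, map, pushout.inr_desc, Sigma.ι_desc]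
  rfl

/-- The identification of the two sheets over the overlap. -/
lemma glue (m : ZMod N) (b : Bool) (x : W) (hx : x ∈ side U V C b) :
    pushout.inl (left N C hC) (right N C hC)
        (Sigma.ι (fun _ => (U : Scheme.{u})) ⟨m⟩ ⟨x, ((side_le C hC b).trans inf_le_left) hx⟩) =
      pushout.inr (left N C hC) (right N C hC)
        (Sigma.ι (fun _ => (V : Scheme.{u})) ⟨m + shift N b⟩ ⟨x, ((side_le C hC b).trans inf_le_right) hx⟩) := by
  have hcomm : (W.homOfLE ((side_le C hC b).trans inf_le_left) ≫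
        Sigma.ι (fun _ : ULift.{u} (ZMod N) => (U : Scheme.{u})) ⟨m⟩) ≫ pushout.inl (left N C hC) (right N C hC) =
      (W.homOfLE ((side_le C hC b).trans inf_le_right) ≫
        Sigma.ι (fun _ : ULift.{u} (ZMod N) => (V : Scheme.{u})) ⟨m + shift N b⟩) ≫
          pushout.inr (left N C hC) (right N C hC) := by
    have hl : Sigma.ι (fun p : ULift.{u} (ZMod N × Bool) => (side U V C p.down.2 : Scheme.{u})) ⟨(m, b)⟩ ≫
        left N C hC = W.homOfLE ((side_le C hC b).trans inf_le_left) ≫
          Sigma.ι (fun _ : ULift.{u} (ZMod N) => (U : Scheme.{u})) ⟨m⟩ := Sigma.ι_desc _ _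
    have hr : Sigma.ι (fun p : ULift.{u} (ZMod N × Bool) => (side U V C p.down.2 : Scheme.{u})) ⟨(m, b)⟩ ≫
        right N C hC = W.homOfLE ((side_le C hC b).trans inf_le_right) ≫
          Sigma.ι (fun _ : ULift.{u} (ZMod N) => (V : Scheme.{u})) ⟨m + shift N b⟩ :=
      Sigma.ι_desc _ _
    rw [← hl, Category.assoc, pushout.condition, ← Category.assoc, hr]
  have h := congrArg (fun t => t.base (⟨x, hx⟩ : ↥(side U V C b : Scheme.{u}))) hcomm
  simp only [Scheme.Hom.comp_apply] at h
  have e1 : (W.homOfLE ((side_le C hC b).trans inf_le_left)) ⟨x, hx⟩ =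
      ⟨x, ((side_le C hC b).trans inf_le_left) hx⟩ := Subtype.ext (by
    show U.ι.base _ = x
    rw [← Scheme.Hom.comp_apply, W.homOfLE_ι]; rfl)
  have e2 : (W.homOfLE ((side_le C hC b).trans inf_le_right)) ⟨x, hx⟩ =
      ⟨x, ((side_le C hC b).trans inf_le_right) hx⟩ := Subtype.ext (by
    show V.ι.base _ = x
    rw [← Scheme.Hom.comp_apply, W.homOfLE_ι]; rfl)
  rw [← e1, ← e2]
  exact h

include hCc in
lemma preimage_left : map N C hC ⁻¹ᵁ U = (pushout.inl (left N C hC) (right N C hC)).opensRange := by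
  refine le_antisymm (fun y hy => ?_) ?_
  · rcases jointly_surjective N C hC y with ⟨a, rfl⟩ | ⟨c, rfl⟩
    · exact ⟨a, rfl⟩
    · obtain ⟨⟨m, v⟩, rfl⟩ := (sigmaMk _).surjective c
      rw [sigmaMk_mk] at hy ⊢
      have hv : v.1 ∈ U := map_inr N C hC m v ▸ hy
      obtain ⟨b, hb⟩ := exists_side C hCc v.1 ⟨hv, v.2⟩
      refine ⟨Sigma.ι (fun _ : ULift.{u} (ZMod N) => (U : Scheme.{u})) ⟨m.down - shift N b⟩ ⟨v.1, hv⟩, ?_⟩
      rw [glue N C hC (m.down - shift N b) b v.1 hb, sub_add_cancel]
      rfl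
  · rintro _ ⟨a, rfl⟩
    obtain ⟨⟨m, v⟩, rfl⟩ := (sigmaMk _).surjective a
    rw [sigmaMk_mk]
    show map N C hC _ ∈ U
    rw [map_inl]
    exact v.2

include hCc in
lemma preimage_right : map N C hC ⁻¹ᵁ V = (pushout.inr (left N C hC) (right N C hC)).opensRange := by
  refine le_antisymm (fun y hy => ?_) ?_
  · rcases jointly_surjective N C hC y with ⟨a, rfl⟩ | ⟨c, rfl⟩
    · obtain ⟨⟨m, v⟩, rfl⟩ := (sigmaMk _).surjective a
      rw [sigmaMk_mk] at hy ⊢
      have hv : v.1 ∈ V := map_inl N C hC m v ▸ hy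
      obtain ⟨b, hb⟩ := exists_side C hCc v.1 ⟨v.2, hv⟩
      refine ⟨Sigma.ι (fun _ : ULift.{u} (ZMod N) => (V : Scheme.{u})) ⟨m.down + shift N b⟩ ⟨v.1, hv⟩, ?_⟩
      exact (glue N C hC m.down b v.1 hb).symm
    · exact ⟨c, rfl⟩
  · rintro _ ⟨a, rfl⟩
    obtain ⟨⟨m, v⟩, rfl⟩ := (sigmaMk _).surjective a
    rw [sigmaMk_mk]
    show map N C hC _ ∈ V
    rw [map_inr]
    exact v.2

include hCc in
theorem isFinite_and_etale [NeZero N] (hcov : U ⊔ V = ⊤) :
    IsFinite (map N C hC) ∧ Etale (map N C hC) := by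
  have key : ∀ (P : MorphismProperty Scheme.{u}) [P.RespectsIso] [IsZariskiLocalAtTarget P],
      (∀ O : W.Opens, P (Sigma.desc fun _ : ULift.{u} (ZMod N) => 𝟙 (O : Scheme.{u}))) →
        P (map N C hC) := by
    intro P _ _ hP
    refine IsZariskiLocalAtTarget.of_iSup_eq_top (fun b : Bool => if b then U else V) ?_ ?_
    · refine eq_top_iff.2 (hcov.ge.trans (sup_le ?_ ?_))
      · exact le_iSup_of_le true le_rfl
      · exact le_iSup_of_le false le_rfl
    · intro b
      have aux : ∀ (O : W.Opens) (i : sheets O N ⟶ cover N C hC) [IsOpenImmersion i],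
          i ≫ map N C hC = Sigma.desc (fun _ => O.ι) → map N C hC ⁻¹ᵁ O = i.opensRange →
            P (map N C hC ∣_ O) := by
        intro O i _ hi hr
        have h1 : IsPullback (Sigma.desc fun _ : ULift.{u} (ZMod N) => 𝟙 (O : Scheme.{u})) i O.ι (map N C hC) := by
          refine IsOpenImmersion.isPullback _ _ _ _ ?_ ?_
          · rw [hi]
            refine Sigma.hom_ext _ _ fun m => ?_
            simp
          · rw [Scheme.Opens.opensRange_ι]; exact hr
        have h2 := isPullback_morphismRestrict (map N C hC) O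
        have e : map N C hC ∣_ O =
            (h2.isoIsPullback _ _ h1).hom ≫ (Sigma.desc fun _ : ULift.{u} (ZMod N) => 𝟙 (O : Scheme.{u})) := by
          simp
        rw [e, P.cancel_left_of_respectsIso]
        exact hP O
      cases b
      · exact aux V _ (pushout.inr_desc _ _ _) (preimage_right N C hC hCc)
      · exact aux U _ (pushout.inl_desc _ _ _) (preimage_left N C hC hCc)
  exact ⟨key @IsFinite fun O => Groth.Pi1Quot.isFinite_sigmaDesc _,
    key @Etale fun O => IsZariskiLocalAtSource.sigmaDesc fun _ => inferInstance⟩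

include hCc in
/-- A section yields a decomposition of the clopen. -/
theorem exists_decomp (s : W ⟶ cover N C hC) (hs : s ≫ map N C hC = 𝟙 W) :
    ∃ (a : ↥U → ZMod N) (c : ↥V → ZMod N), IsLocallyConstant a ∧ IsLocallyConstant c ∧
      ∀ (x : W) (hU : x ∈ U) (hV : x ∈ V),
        (x ∈ C → c ⟨x, hV⟩ = a ⟨x, hU⟩ + 1) ∧ (x ∉ C → c ⟨x, hV⟩ = a ⟨x, hU⟩) := by
  have hmap : ∀ x, map N C hC (s x) = x := fun x => by
    rw [← Scheme.Hom.comp_apply, hs]; rfl
  let iU := pushout.inl (left N C hC) (right N C hC)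
  let iV := pushout.inr (left N C hC) (right N C hC)
  have hU : ∀ x : ↥U, s x.1 ∈ iU.opensRange := fun x => by
    rw [← preimage_left N C hC hCc]
    show map N C hC (s x.1) ∈ U
    rw [hmap]; exact x.2
  have hV : ∀ x : ↥V, s x.1 ∈ iV.opensRange := fun x => by
    rw [← preimage_right N C hC hCc]
    show map N C hC (s x.1) ∈ V
    rw [hmap]; exact x.2
  let gU : ↥U → sheets U N := fun x => iU.isOpenEmbedding.isEmbedding.toHomeomorph.symm ⟨s x.1, hU x⟩
  let gV : ↥V → sheets V N := fun x => iV.isOpenEmbedding.isEmbedding.toHomeomorph.symm ⟨s x.1, hV x⟩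
  have hgU : ∀ x, iU (gU x) = s x.1 := fun x =>
    congrArg Subtype.val (iU.isOpenEmbedding.isEmbedding.toHomeomorph.apply_symm_apply _)
  have hgV : ∀ x, iV (gV x) = s x.1 := fun x =>
    congrArg Subtype.val (iV.isOpenEmbedding.isEmbedding.toHomeomorph.apply_symm_apply _)
  refine ⟨fun x => idx U N (gU x), fun x => idx V N (gV x),
    (isLocallyConstant_idx U N).comp_continuous ?_, (isLocallyConstant_idx V N).comp_continuous ?_, ?_⟩
  · exact (Homeomorph.continuous _).comp ((s.continuous.comp continuous_subtype_val).subtype_mk _)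
  · exact (Homeomorph.continuous _).comp ((s.continuous.comp continuous_subtype_val).subtype_mk _)
  intro x hxU hxV
  obtain ⟨⟨m, v⟩, hm⟩ := (sigmaMk _).surjective (gU ⟨x, hxU⟩)
  rw [sigmaMk_mk] at hm
  have hv : v.1 = x := by
    have h := congrArg (map N C hC) (hgU ⟨x, hxU⟩)
    rw [← hm, map_inl, hmap] at h
    exact h
  obtain ⟨b, hb⟩ := exists_side C hCc x ⟨hxU, hxV⟩
  have hgl := glue N C hC m.down b x hb
  have key : gV ⟨x, hxV⟩ = Sigma.ι (fun _ => (V : Scheme.{u})) ⟨m.down + shift N b⟩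
      ⟨x, ((side_le C hC b).trans inf_le_right) hb⟩ := by
    refine iV.isOpenEmbedding.injective ?_
    refine ((hgV ⟨x, hxV⟩).trans ?_).trans hgl
    rw [← hgU ⟨x, hxU⟩, ← hm]
    exact congrArg (fun w => iU (Sigma.ι (fun _ => (U : Scheme.{u})) m w)) (Subtype.ext hv)
  show (x ∈ C → idx V N (gV ⟨x, hxV⟩) = idx U N (gU ⟨x, hxU⟩) + 1) ∧
    (x ∉ C → idx V N (gV ⟨x, hxV⟩) = idx U N (gU ⟨x, hxU⟩))
  rw [key, ← hm, idx_ι, idx_ι]
  cases b
  · exact ⟨fun h => absurd (subset_closure h) hb.2, fun _ => add_zero _⟩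
  · exact ⟨fun _ => rfl, fun h => absurd hb h⟩

end Groth.EtPbc.TwistedCover
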