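import Groth.Agent.EtPbc.AICVanish
import Groth.Agent.EtPbc.ClosedEfface

/-!
# Constant coefficients on a scheme covered by two affine opens with absolutely closed rings
-/

set_option autoImplicit false
set_option linter.style.haveILetI false

universe u

open CategoryTheory CategoryTheory.Limits CategoryTheory.Abelian AlgebraicGeometry Opposite

namespace Groth.EtPbc.TwoOpens

open Groth.EtaleBase Groth.EtaleBase.EtLimit Groth.EtPbc.ConstRestr Groth.EtPbc.ConstH0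
  Groth.EtPbc.LocalCriterion

attribute [local instance] pull_preservesFiniteLimits

variable (M : Type) [AddCommGroup M]

/-- Pulling back through a composite, in terms of restrictions of constants. -/
lemma hpullVia_const {A B X : Scheme.{u}} (i : A ⟶ B) (j : B ⟶ X) (k : A ⟶ X) (w : i ≫ j = k)
    (x : EtCoh.H B ((EtCoh.pull j).obj (EtCoh.const X M)) 0) :
    (EtCore.HpullVia i j k w (EtCoh.const X M) 0 x).comp (Ext.mk₀ (EtCore.pullConst k M).hom) (add_zero 0) =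
      restr M i 0 (x.comp (Ext.mk₀ (EtCore.pullConst j M).hom) (add_zero 0)) := by
  subst w
  rw [restr_apply, Hpull_map]
  show ((EtCore.Hpull i _ 0 x).comp (Ext.mk₀ ((EtCore.pullComp i j).inv.app _ ≫ 𝟙 _)) (add_zero 0)).comp
    _ (add_zero 0) = _
  simp only [Ext.comp_assoc_of_third_deg_zero, Ext.mk₀_comp_mk₀, Category.comp_id]
  refine congrArg (fun z => Ext.comp _ (Ext.mk₀ z) (add_zero 0)) ?_
  rw [← pullConst_comp M i j, ← Category.assoc, Iso.inv_hom_id_app]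
  exact Category.id_comp _

variable {W : Scheme.{u}}

/-- Locally constant functions on the intersection split over the two opens. -/
def Split (U V : W.Opens) : Prop :=
  ∀ f : ↥(U ⊓ V) → M, IsLocallyConstant f → ∃ (a : ↥U → M) (c : ↥V → M), IsLocallyConstant a ∧
    IsLocallyConstant c ∧ ∀ (x : W) (hU : x ∈ U) (hV : x ∈ V), a ⟨x, hU⟩ - c ⟨x, hV⟩ = f ⟨x, hU, hV⟩

/-- The first cohomology vanishes when locally constant functions on the intersection split. -/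
theorem eq_zero_one (U V : W.Opens) (hcov : U ⊔ V = ⊤) (hs : Split M U V)
    (ξ : EtCoh.H W (EtCoh.const W M) 1)
    (h₁ : EtCore.Hpull U.ι (EtCoh.const W M) 1 ξ = 0) (h₂ : EtCore.Hpull V.ι (EtCoh.const W M) 1 ξ = 0) :
    ξ = 0 := by
  let F := EtCoh.const W M
  let i : ((U ⊓ V : W.Opens) : Scheme.{u}) ⟶ U := W.homOfLE inf_le_left
  let i' : ((U ⊓ V : W.Opens) : Scheme.{u}) ⟶ V := W.homOfLE inf_le_right
  let k := (U ⊓ V).ι
  obtain ⟨δ, -, hker, -, hδ⟩ := MV.exists_seq U.ι F i k (W.homOfLE_ι _) V.ι i' (W.homOfLE_ι _)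
    (fun p => by
      rw [Scheme.Opens.range_ι, Scheme.Opens.range_ι]
      exact hcov.ge (Set.mem_univ p))
    (by rw [Scheme.Opens.range_ι, Scheme.Opens.range_ι, Scheme.Opens.range_ι]; rfl)
  have hmem : ξ ∈ (MV.P U.ι F 1 V.ι).ker := AddMonoidHom.mem_ker.2 (Prod.ext h₁ h₂)
  rw [hker 0] at hmem
  obtain ⟨y, hy⟩ := hmem
  rw [← hy]
  suffices y ∈ (δ 0).ker from this
  rw [hδ 0]
  obtain ⟨φ, hφ⟩ := (Ext.mk₀_bijective _ _).2 (Ext.comp y (Ext.mk₀ (EtCore.pullConst k M).hom) (add_zero 0))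
  obtain ⟨a, c, ha, hc, hac⟩ := hs (val φ) (isLocallyConstant_val φ)
  obtain ⟨φa, hφa⟩ := exists_val (Y := (U : Scheme.{u})) a ha
  obtain ⟨φc, hφc⟩ := exists_val (Y := (V : Scheme.{u})) c hc
  let xa := (Ext.mk₀ φa).comp (Ext.mk₀ (EtCore.pullConst U.ι M).inv) (add_zero 0)
  let xc := (Ext.mk₀ φc).comp (Ext.mk₀ (EtCore.pullConst V.ι M).inv) (add_zero 0)
  refine ⟨(xa, xc), ?_⟩
  show EtCore.HpullVia i U.ι k _ F 0 xa - EtCore.HpullVia i' V.ι k _ F 0 xc = y
  refine ((EtCoh.HF _ 0).mapIso (EtCore.pullConst k M)).addCommGroupIsoToAddEquiv.injective ?_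
  show Ext.comp (_ - _) (Ext.mk₀ (EtCore.pullConst k M).hom) (add_zero 0) =
    Ext.comp y (Ext.mk₀ (EtCore.pullConst k M).hom) (add_zero 0)
  have hsub : ∀ p q : EtCoh.H _ ((EtCoh.pull k).obj F) 0,
      Ext.comp (p - q) (Ext.mk₀ (EtCore.pullConst k M).hom) (add_zero 0) =
        Ext.comp p (Ext.mk₀ (EtCore.pullConst k M).hom) (add_zero 0) -
          Ext.comp q (Ext.mk₀ (EtCore.pullConst k M).hom) (add_zero 0) := fun p q =>
    map_sub ((EtCoh.HF _ 0).map (EtCore.pullConst k M).hom).hom p q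
  rw [hsub, hpullVia_const, hpullVia_const, ext_cancel _ _ _ (EtCore.pullConst U.ι M).inv_hom_id,
    ext_cancel _ _ _ (EtCore.pullConst V.ι M).inv_hom_id, restr_mk₀, restr_mk₀, ← hφ]
  have : ∀ p q : EtCoh.const ((U ⊓ V : W.Opens) : Scheme.{u}) ℤ ⟶ EtCoh.const _ M,
      Ext.mk₀ p - Ext.mk₀ q = Ext.mk₀ (p - q) := fun p q => by
    rw [eq_comm, eq_sub_iff_add_eq, ← Ext.mk₀_add, sub_add_cancel]
  rw [this]
  refine congrArg Ext.mk₀ (ext_val fun p => ?_)
  rw [val_sub, val_rMap, val_rMap, hφa, hφc]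
  refine Eq.trans ?_ (hac p.1 p.2.1 p.2.2)
  congr 2
  · refine Subtype.ext ?_
    show U.ι.base (i.base p) = p.1
    rw [← Scheme.Hom.comp_apply, W.homOfLE_ι]; rfl
  · refine Subtype.ext ?_
    show V.ι.base (i'.base p) = p.1
    rw [← Scheme.Hom.comp_apply, W.homOfLE_ι]; rfl

/-- Affine opens with absolutely closed rings are acyclic. -/
lemma subsingleton_H_open {U : W.Opens} (hU : IsAffineOpen U) (hA : Curves.IsAIC Γ(W, U)) [Finite M] (n : ℕ) :
    Subsingleton (EtCoh.H ↑U ((EtCoh.pull U.ι).obj (EtCoh.const W M)) (n + 1)) := by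
  haveI : IsAffine (U : Scheme.{u}) := hU
  have hA' : Curves.IsAIC Γ(↑U, ⊤) :=
    AICVanish.isAIC_of_surjective hA U.topIso.inv.hom
      (ConcreteCategory.bijective_of_isIso U.topIso.inv).2
  have h := ClosedEfface.subsingleton_H_const hA' M n
  refine ⟨fun a b => ?_⟩
  refine ((EtCoh.HF (U : Scheme.{u}) (n + 1)).mapIso (EtCore.pullConst U.ι M)).addCommGroupIsoToAddEquiv.injective ?_
  exact @Subsingleton.elim _ h _ _

/-- **Vanishing on a scheme covered by two such opens.** -/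
theorem subsingleton_H [Finite M] (U V : W.Opens) (hU : IsAffineOpen U) (hV : IsAffineOpen V)
    (hUV : IsAffineOpen (U ⊓ V)) (hcov : U ⊔ V = ⊤) (hAU : Curves.IsAIC Γ(W, U)) (hAV : Curves.IsAIC Γ(W, V))
    (hAUV : Curves.IsAIC Γ(W, U ⊓ V)) (hs : Split M U V) (n : ℕ) :
    Subsingleton (EtCoh.H W (EtCoh.const W M) (n + 1)) := by
  refine subsingleton_of_forall_eq 0 fun ξ => ?_
  have h₁ : EtCore.Hpull U.ι (EtCoh.const W M) (n + 1) ξ = 0 :=
    @Subsingleton.elim _ (subsingleton_H_open M hU hAU n) _ _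
  have h₂ : EtCore.Hpull V.ι (EtCoh.const W M) (n + 1) ξ = 0 :=
    @Subsingleton.elim _ (subsingleton_H_open M hV hAV n) _ _
  obtain hn | ⟨m, rfl⟩ : n = 0 ∨ ∃ m, n = m + 1 := by
    rcases n with _ | m
    exacts [Or.inl rfl, Or.inr ⟨m, rfl⟩]
  · subst hn
    exact eq_zero_one M U V hcov hs ξ h₁ h₂
  obtain ⟨δ, -, hker, -, -⟩ := MV.exists_seq U.ι (EtCoh.const W M) (W.homOfLE (inf_le_left : U ⊓ V ≤ U))
    (U ⊓ V).ι (W.homOfLE_ι _) V.ι (W.homOfLE (inf_le_right : U ⊓ V ≤ V)) (W.homOfLE_ι _)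
    (fun p => by
      rw [Scheme.Opens.range_ι, Scheme.Opens.range_ι]
      exact hcov.ge (Set.mem_univ p))
    (by rw [Scheme.Opens.range_ι, Scheme.Opens.range_ι, Scheme.Opens.range_ι]; rfl)
  have hmem : ξ ∈ (MV.P U.ι (EtCoh.const W M) (m + 1 + 1) V.ι).ker :=
    AddMonoidHom.mem_ker.2 (Prod.ext h₁ h₂)
  rw [hker (m + 1)] at hmem
  obtain ⟨y, hy⟩ := hmem
  rw [← hy, @Subsingleton.elim _ (subsingleton_H_open M hUV hAUV m) y 0, map_zero]

/-- Splitting of indicators gives splitting of all functions. -/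
theorem split_of_indicator [Finite M] (U V : W.Opens)
    (hdec : ∀ (N : ℕ) (_ : NeZero N) (C : W.Opens), C ≤ U ⊓ V →
      closure (C : Set W) ∩ (U ⊓ V : W.Opens) ⊆ C →
      ∃ (a : ↥U → ZMod N) (c : ↥V → ZMod N), IsLocallyConstant a ∧ IsLocallyConstant c ∧
        ∀ (x : W) (hU : x ∈ U) (hV : x ∈ V),
          (x ∈ C → c ⟨x, hV⟩ = a ⟨x, hU⟩ + 1) ∧ (x ∉ C → c ⟨x, hV⟩ = a ⟨x, hU⟩)) :
    Split M U V := by
  classical
  intro f hf
  let N := Nat.card M
  haveI : NeZero N := ⟨Nat.card_pos.ne'⟩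
  let C : M → W.Opens := fun m => ⟨Subtype.val '' (f ⁻¹' {m}),
    (U ⊓ V).2.isOpenMap_subtype_val _ (hf.isOpen_fiber m)⟩
  have hCle : ∀ m, C m ≤ U ⊓ V := by
    rintro m _ ⟨p, -, rfl⟩
    exact p.2
  have hCc : ∀ m, closure (C m : Set W) ∩ (U ⊓ V : W.Opens) ⊆ C m := by
    rintro m x ⟨hx, hxUV⟩
    refine ⟨⟨x, hxUV⟩, ?_, rfl⟩
    have h2 : (⟨x, hxUV⟩ : ↥(U ⊓ V)) ∈ closure (f ⁻¹' {m}) := by
      rw [closure_subtype]
      exact hx
    exact (hf.isClosed_fiber m).closure_subset h2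
  choose a c ha hc hac using fun m => hdec N inferInstance (C m) (hCle m) (hCc m)
  let lift : M → (ZMod N →+ M) := fun m =>
    ZMod.lift N ⟨zmultiplesHom M m, by
      show ((N : ℤ)) • m = 0
      rw [natCast_zsmul]
      exact card_nsmul_eq_zero'⟩
  haveI : Fintype M := Fintype.ofFinite M
  refine ⟨fun u => -∑ m, lift m (a m u), fun v => -∑ m, lift m (c m v), ?_, ?_, ?_⟩
  · refine (IsLocallyConstant.iff_exists_open _).2 fun u => ?_
    refine ⟨⋂ m, a m ⁻¹' {a m u}, isOpen_iInter_of_finite fun m => (ha m).isOpen_fiber _,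
      Set.mem_iInter.2 fun m => rfl, fun y hy => ?_⟩
    exact congrArg Neg.neg (Finset.sum_congr rfl fun m _ =>
      congrArg (lift m) (Set.mem_iInter.1 hy m))
  · refine (IsLocallyConstant.iff_exists_open _).2 fun v => ?_
    refine ⟨⋂ m, c m ⁻¹' {c m v}, isOpen_iInter_of_finite fun m => (hc m).isOpen_fiber _,
      Set.mem_iInter.2 fun m => rfl, fun y hy => ?_⟩
    exact congrArg Neg.neg (Finset.sum_congr rfl fun m _ =>
      congrArg (lift m) (Set.mem_iInter.1 hy m))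
  intro x hU hV
  show -∑ m, lift m (a m ⟨x, hU⟩) - -∑ m, lift m (c m ⟨x, hV⟩) = f ⟨x, hU, hV⟩
  rw [neg_sub_neg, ← Finset.sum_sub_distrib, Finset.sum_eq_single (f ⟨x, hU, hV⟩)]
  · rw [(hac (f ⟨x, hU, hV⟩) x hU hV).1 ⟨⟨x, hU, hV⟩, rfl, rfl⟩, map_add, add_sub_cancel_left]
    rw [← Int.cast_one]
    show ZMod.lift N _ _ = _
    rw [ZMod.lift_coe]
    exact one_zsmul _
  · intro m _ hm
    rw [(hac m x hU hV).2 ?_, sub_self]
    rintro ⟨p, hp, hpx⟩
    exact hm (hp.symm.trans (congrArg f (Subtype.ext hpx : p = ⟨x, hU, hV⟩)))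
  · exact fun h => absurd (Finset.mem_univ _) h

end Groth.EtPbc.TwoOpens
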