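import Groth.Agent.EtPbc.Proper.Step
import Groth.Agent.EtPbc.Proper.PlusCover
import Groth.Agent.EtPbc.Proper.TwistedCover
import Groth.Agent.EtPbc.Proper.TwoOpens
import Groth.Agent.S0240
import Groth.Agent.S12073
import Groth.Agent.Limits.IntegralApprox
import Mathlib.CategoryTheory.Limits.Preserves.Over

/-!
# Proper schemes covered by two affine opens over a henselian local ring
-/

set_option autoImplicit false
set_option linter.style.haveILetI false

universe u

open CategoryTheory CategoryTheory.Limits AlgebraicGeometry Opposite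

namespace Groth.EtPbc.TwoAffine

open Groth.EtaleBase Groth.EtPbc.ConstRestr

attribute [local instance] pull_preservesFiniteLimits

/-- Cohomology on a closed subscheme of the direct image of constants along an integral morphism. -/
theorem subsingleton_H_pull_push {X Z Y : Scheme.{u}} (i : Z ⟶ X) [IsClosedImmersion i] (g : Y ⟶ X)
    [IsIntegralHom g] (M : Type) [AddCommGroup M] (q : ℕ)
    (hs : Subsingleton (EtCoh.H (pullback g i) (EtCoh.const (pullback g i) M) q)) :
    Subsingleton (EtCoh.H Z ((EtCoh.pull i).obj ((EtCoh.push g).obj (EtCoh.const Y M))) q) := by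
  let sq := IsPullback.of_hasPullback g i
  let g' : pullback g i ⟶ Z := pullback.snd g i
  let i' : pullback g i ⟶ Y := pullback.fst g i
  haveI : IsIntegralHom g' := MorphismProperty.pullback_snd _ _ inferInstance
  haveI : IsIso (EtCoh.baseChange0 g i g' i' sq.w (EtCoh.const Y M)) :=
    isIso_baseChange0 g i g' i' sq (EtCoh.const Y M)
  have hb := InjCoh.HofPush_bijective g' ((EtCoh.pull i').obj (EtCoh.const Y M))
    (fun k hk => isZero_Rpush g' _ k hk) q
  refine ⟨fun a b => ?_⟩
  refine ((EtCoh.HF Z q).mapIso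
    (asIso (EtCoh.baseChange0 g i g' i' sq.w (EtCoh.const Y M)))).addCommGroupIsoToAddEquiv.injective ?_
  refine hb.1 ?_
  refine ((EtCoh.HF (pullback g i) q).mapIso (EtCore.pullConst i' M)).addCommGroupIsoToAddEquiv.injective ?_
  exact @Subsingleton.elim _ hs _ _

variable {A : Type u} [CommRing A] [HenselianLocalRing A] {X : Scheme.{u}}
  (f : X ⟶ Spec (CommRingCat.of A)) [IsProper f]

/-- The closed fibre. -/
noncomputable abbrev fib :
    pullback f (Spec.map (CommRingCat.ofHom (IsLocalRing.residue A))) ⟶ X :=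
  pullback.fst f (Spec.map (CommRingCat.ofHom (IsLocalRing.residue A)))

instance isClosedImmersion_fib : IsClosedImmersion (fib f) := by
  haveI : IsClosedImmersion (Spec.map (CommRingCat.ofHom (IsLocalRing.residue A))) :=
    IsClosedImmersion.spec_of_surjective _ IsLocalRing.residue_surjective
  exact MorphismProperty.pullback_fst _ _ inferInstance

/-- A cover of the closed fibre of a finite stage gives sections on the closed fibre of a normal scheme
with algebraically closed function field. -/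
theorem exists_section_stage {X' W : Scheme.{u}} [IsIntegral W] (hW : Plus.IsPlus W) (p : W ⟶ X)
    (h : X' ⟶ X) [IsFinite h] (π : W ⟶ X') {E : Scheme.{u}} (q : E ⟶ pullback h (fib f)) [IsFinite q] [Etale q]
    (t : pullback p (fib f) ⟶ pullback h (fib f))
    (ht : t ≫ pullback.fst h (fib f) = pullback.fst p (fib f) ≫ π) {Y : Scheme.{u}} (φ : Y ⟶ pullback p (fib f))
    [Surjective φ] (e : pullback q t ≅ Y) (he : e.hom ≫ φ = pullback.snd q t) :
    ∃ s, s ≫ φ = 𝟙 _ := by
  rcases isEmpty_or_nonempty ↥(pullback p (fib f)) with hem | ⟨⟨w₀⟩⟩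
  · exact ⟨(isInitialOfIsEmpty (X := pullback p (fib f))).to Y,
      (isInitialOfIsEmpty (X := pullback p (fib f))).hom_ext _ _⟩
  let r := Spec.map (CommRingCat.ofHom (IsLocalRing.residue A))
  let j := pullback.fst (h ≫ f) r
  have hsq : IsPullback (pullback.fst h (fib f)) (pullback.snd h (fib f) ≫ pullback.snd f r) (h ≫ f) r :=
    (IsPullback.of_hasPullback h (fib f)).paste_vert (IsPullback.of_hasPullback f r)
  let ee := hsq.isoPullback
  let Vj : FEt.Cat (pullback (h ≫ f) r) := MorphismProperty.Over.mk ⊤ (q ≫ ee.hom)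
    ⟨inferInstance, inferInstance⟩
  haveI := Groth.Agent.S0240.result A (h ≫ f)
  obtain ⟨Ya, ⟨eY⟩⟩ := Functor.EssSurj.mem_essImage (F := FEt.restrict j) Vj
  let ya : Ya.left ⟶ X' := Ya.hom
  let eY' : pullback ya j ⟶ E := eY.hom.left
  have heY : eY' ≫ q ≫ ee.hom = pullback.snd ya j := MorphismProperty.Over.w eY.hom
  let eY'' : E ⟶ pullback ya j := eY.inv.left
  have heY'' : eY'' ≫ pullback.snd ya j = q ≫ ee.hom := MorphismProperty.Over.w eY.inv
  haveI : IsFinite ya := Ya.prop.1
  haveI : Etale ya := Ya.prop.2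
  let ψ := pullback.snd ya π
  haveI : IsFinite ψ := inferInstance
  haveI : Etale ψ := inferInstance
  haveI : Surjective ψ := by
    obtain ⟨y₀, -⟩ := φ.surjective w₀
    let ζ : pullback q t ⟶ pullback ya π :=
      pullback.lift (pullback.fst q t ≫ eY'' ≫ pullback.fst ya j) (pullback.snd q t ≫ pullback.fst p (fib f)) (by
        rw [Category.assoc, Category.assoc, pullback.condition, reassoc_of% heY'',
          hsq.isoPullback_hom_fst, ← Category.assoc, pullback.condition, Category.assoc, ht, Category.assoc])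
    let z := ζ (e.inv y₀)
    have hop : IsOpen (Set.range ψ.base) := ψ.isOpenMap.isOpen_range
    have hcl : IsClosed (Set.range ψ.base) := ψ.isClosedMap.isClosed_range
    exact ⟨Set.range_eq_univ.1 (IsClopen.eq_univ ⟨hcl, hop⟩ ⟨_, z, rfl⟩)⟩
  obtain ⟨s, hs⟩ := Plus.exists_section_of_plus hW ψ
  let s₁ : W ⟶ Ya.left := s ≫ pullback.fst ya π
  have hs₁ : s₁ ≫ ya = π := by
    rw [Category.assoc, pullback.condition, reassoc_of% hs]
  let a : pullback p (fib f) ⟶ pullback ya j :=
    pullback.lift (pullback.fst p (fib f) ≫ s₁) (t ≫ ee.hom) (by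
      rw [Category.assoc, hs₁, Category.assoc, hsq.isoPullback_hom_fst, ← ht])
  have ha : (a ≫ eY') ≫ q = t := by
    rw [← cancel_mono ee.hom, Category.assoc, Category.assoc, heY, pullback.lift_snd]
  exact ⟨pullback.lift (a ≫ eY') (𝟙 _) (ha.trans (Category.id_comp _).symm) ≫ e.hom, by
    rw [Category.assoc, he]; exact pullback.lift_snd _ _ _⟩

/-- Finite étale covers of the closed fibre of a normal scheme with algebraically closed function field
integral over a proper scheme have sections. -/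
theorem exists_section {W : Scheme.{u}} [IsIntegral W] (hW : Plus.IsPlus W) (p : W ⟶ X) [IsIntegralHom p]
    {Y : Scheme.{u}} (φ : Y ⟶ pullback p (fib f)) [hφ₁ : IsFinite φ] [hφ₂ : Etale φ] [Surjective φ] :
    ∃ s, s ≫ φ = 𝟙 _ := by
  haveI : CompactSpace X := QuasiCompact.compactSpace_of_compactSpace f
  haveI : QuasiSeparatedSpace X := quasiSeparatedSpace_of_quasiSeparated f
  haveI : CompactSpace W := QuasiCompact.compactSpace_of_compactSpace p
  haveI : QuasiSeparatedSpace W := quasiSeparatedSpace_of_quasiSeparated p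
  obtain ⟨R⟩ := Groth.Limits.exists_relSystem p
  obtain ⟨I, _, _, _, D, c, hc, hD, ⟨e⟩⟩ := Groth.Limits.RelSystem.exists_finite_fp_system R
  let c₁ : Cone D := c.extend e.inv
  let hc₁ : IsLimit c₁ := @IsLimit.extendIso _ _ _ _ _ _ _ e.inv inferInstance hc
  let Z := pullback f (Spec.map (CommRingCat.ofHom (IsLocalRing.residue A)))
  let G : Over X ⥤ Over Z := Over.pullback (fib f)
  haveI : G.IsRightAdjoint := (Over.mapPullbackAdj (fib f)).isRightAdjoint
  let D₀ : Iᵒᵖ ⥤ Scheme.{u} := (D ⋙ G) ⋙ Over.forget _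
  let c₀ : Cone D₀ := (Over.forget _).mapCone (G.mapCone c₁)
  have hc₀ : IsLimit c₀ := isLimitOfPreserves (Over.forget _) (isLimitOfPreserves G hc₁)
  let hh : ∀ i, (D.obj i).left ⟶ X := fun i => (D.obj i).hom
  haveI hfin : ∀ i, IsFinite (hh i) := fun i => (hD i).1
  haveI : CompactSpace Z := QuasiCompact.compactSpace_of_compactSpace (fib f)
  haveI : QuasiSeparatedSpace Z := quasiSeparatedSpace_of_quasiSeparated (fib f)
  haveI hfs : ∀ i, IsFinite (pullback.snd (hh i) (fib f)) := fun i =>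
    MorphismProperty.pullback_snd (hh i) (fib f) (hfin i)
  haveI : ∀ i, CompactSpace ↥(D₀.obj i) := fun i =>
    haveI := hfs i
    (QuasiCompact.compactSpace_of_compactSpace (pullback.snd (hh i) (fib f)) :)
  haveI : ∀ i, QuasiSeparatedSpace ↥(D₀.obj i) := fun i =>
    haveI := hfs i
    (quasiSeparatedSpace_of_quasiSeparated (pullback.snd (hh i) (fib f)) :)
  haveI : ∀ (i j : Iᵒᵖ) (a : i ⟶ j), IsAffineHom (D₀.map a) := fun i j a => by
    let g : pullback (hh i) (fib f) ⟶ pullback (hh j) (fib f) := D₀.map a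
    haveI : IsAffineHom (g ≫ pullback.snd (hh j) (fib f)) := by
      rw [show g ≫ pullback.snd (hh j) (fib f) = pullback.snd (hh i) (fib f) from pullback.lift_snd _ _ _]
      infer_instance
    exact IsAffineHom.of_comp g (pullback.snd (hh j) (fib f))
  let V : FEt.Cat c₀.pt := MorphismProperty.Over.mk ⊤ φ ⟨hφ₁, hφ₂⟩
  obtain ⟨i, Vi, ⟨eV⟩⟩ := (Groth.Agent.S12073.result D₀ c₀ hc₀).1 V
  let q : Vi.left ⟶ pullback (hh i) (fib f) := Vi.hom
  haveI : IsFinite q := Vi.prop.1
  haveI : Etale q := Vi.prop.2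
  let π : W ⟶ (D.obj i).left := (c₁.π.app i).left
  let t : pullback p (fib f) ⟶ pullback (hh i) (fib f) := c₀.π.app i
  let e' : pullback q t ≅ Y := ((MorphismProperty.Over.forget _ _ _) ⋙ Over.forget _).mapIso eV
  exact exists_section_stage f hW p (hh i) π q t (pullback.lift_fst _ _ _) φ e' (MorphismProperty.Over.w eV.hom)

/-- **Geometric points of a proper scheme covered by two affine opens are acyclic on the closed
fibre.** -/
theorem good (U V : X.Opens) (hU : IsAffineOpen U) (hV : IsAffineOpen V) (hcov : U ⊔ V = ⊤) (x : X) :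
    PBC.Good (fib f) x := by
  haveI : QuasiSeparatedSpace X := quasiSeparatedSpace_of_quasiSeparated f
  obtain ⟨W, _, p, _, hW, hpW⟩ := Plus.exists_plus x
  let j := W.fromSpecStalk (genericPoint W)
  letI : Field (W.presheaf.stalk (genericPoint W)) := inferInstanceAs (Field W.functionField)
  haveI : IsAlgClosed (W.presheaf.stalk (genericPoint W)) := hW.algClosed
  let ξ : Spec (CommRingCat.of (W.presheaf.stalk (genericPoint W))) ⟶ X := j ≫ p
  let d : ↥(Spec (CommRingCat.of (W.presheaf.stalk (genericPoint W)))) := default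
  have hj : j d = genericPoint W := by
    rw [show d = IsLocalRing.closedPoint _ from
      Subsingleton.elim (α := PrimeSpectrum (W.presheaf.stalk (genericPoint W))) _ _]
    exact Scheme.fromSpecStalk_closedPoint
  refine ⟨_, inferInstance, inferInstance, ξ, ?_, fun M _ _ n => ?_⟩
  · rw [Scheme.Hom.comp_apply]
    exact (congrArg p.base hj).trans hpW
  haveI : IsIso (rpush M j) := Plus.isIso_rpush_generic hW M
  have e : (EtCoh.push ξ).obj (EtCoh.const _ M) ≅ (EtCoh.push p).obj (EtCoh.const W M) :=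
    ((EtCoh.pushComp p j).app _).symm ≪≫ (EtCoh.push p).mapIso (asIso (rpush M j)).symm
  refine @Equiv.subsingleton _ _
    (((EtCoh.HF _ (n + 1)).mapIso ((EtCoh.pull (fib f)).mapIso e)).addCommGroupIsoToAddEquiv.toEquiv) ?_
  refine subsingleton_H_pull_push (fib f) p M (n + 1) ?_
  haveI : X.IsSeparated :=
    (HasAffineProperty.iff_of_isAffine (P := @IsSeparated) (f := f)).1 inferInstance
  let iW := pullback.fst p (fib f)
  haveI : IsClosedImmersion iW := MorphismProperty.pullback_fst _ _ inferInstance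
  have haff : ∀ {O : X.Opens}, IsAffineOpen O → IsAffineOpen (iW ⁻¹ᵁ (p ⁻¹ᵁ O)) ∧
      Curves.IsAIC Γ(pullback p (fib f), iW ⁻¹ᵁ (p ⁻¹ᵁ O)) := fun {O} hO => by
    have h1 := hO.preimage p
    refine ⟨h1.preimage iW, ?_⟩
    haveI : IsAffine ((p ⁻¹ᵁ O : W.Opens) : Scheme.{u}) := h1
    haveI : IsClosedImmersion (iW ∣_ (p ⁻¹ᵁ O)) := IsZariskiLocalAtTarget.restrict ‹IsClosedImmersion iW› _
    have hsur := (IsClosedImmersion.isAffine_surjective_of_isAffine (iW ∣_ (p ⁻¹ᵁ O))).2
    refine AICVanish.isAIC_of_surjective (Plus.isAIC_affineOpen hW h1)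
      (((iW ⁻¹ᵁ (p ⁻¹ᵁ O)).topIso.hom.hom.comp (iW ∣_ (p ⁻¹ᵁ O)).appTop.hom).comp (p ⁻¹ᵁ O).topIso.inv.hom) ?_
    exact ((ConcreteCategory.bijective_of_isIso (iW ⁻¹ᵁ (p ⁻¹ᵁ O)).topIso.hom).2.comp hsur).comp
      (ConcreteCategory.bijective_of_isIso (p ⁻¹ᵁ O).topIso.inv).2
  obtain ⟨hU', hAU⟩ := haff hU
  obtain ⟨hV', hAV⟩ := haff hV
  obtain ⟨hUV', hAUV⟩ := haff (hU.inf hV)
  let U₀ := iW ⁻¹ᵁ (p ⁻¹ᵁ U)
  let V₀ := iW ⁻¹ᵁ (p ⁻¹ᵁ V)
  have hcov₀ : U₀ ⊔ V₀ = ⊤ := by
    show iW ⁻¹ᵁ (p ⁻¹ᵁ U) ⊔ iW ⁻¹ᵁ (p ⁻¹ᵁ V) = ⊤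
    rw [← Scheme.Hom.preimage_sup, ← Scheme.Hom.preimage_sup, hcov]
    rfl
  refine TwoOpens.subsingleton_H M U₀ V₀ hU' hV' hUV' hcov₀ hAU hAV hAUV ?_ n
  refine TwoOpens.split_of_indicator M U₀ V₀ fun N _ C hC hCc => ?_
  obtain ⟨hfin, het⟩ := TwistedCover.isFinite_and_etale N C hC hCc hcov₀
  haveI := hfin
  haveI := het
  haveI : Surjective (TwistedCover.map N C hC) := ⟨fun w => by
    rcases hcov₀.ge (Set.mem_univ w) with hw | hw
    · exact ⟨_, TwistedCover.map_inl N C hC ⟨0⟩ ⟨w, hw⟩⟩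
    · exact ⟨_, TwistedCover.map_inr N C hC ⟨0⟩ ⟨w, hw⟩⟩⟩
  obtain ⟨s, hs⟩ := exists_section f hW p (TwistedCover.map N C hC)
  exact TwistedCover.exists_decomp N C hC hCc s hs

end Groth.EtPbc.TwoAffine
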